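import Cfsg.Agent.UGT.Trich
import Cfsg.Agent.UGT.InnB

/-!
# Automorphisms of a quasisimple group modulo the centre

* `trivial_of_fixed` (`A × B`): `δ` of odd order, `τ` an involution commuting with it, acting on an abelian 2-group,
  `δ` trivial on the fixed points of `τ`: then `δ = 1`.
* `not_balanced`: a pair `(τ, D)` on a quasisimple group `M` with `D` trivial on `Z(M)` unbalances `M / Z(M)`.
-/

set_option autoImplicit false

open Cfsg Subgroup
open Cfsg.Agent.SignalizersComponents Cfsg.Agent.Lib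
open Cfsg.Agent.SignalizersComponents.IntrinsicBasic
open Cfsg.Agent.SignalizersComponents.PLayerAut
open Cfsg.Agent.Intrinsic.Basic
open Cfsg.Agent.FixBN.BTheorem Cfsg.Agent.FixBN.BRelative
open Cfsg.Agent.UGT.Triple Cfsg.Agent.UGT.Iface
open scoped commutatorElement

namespace Cfsg.Agent.UGT.U2.AutBar

/-! ### `A × B` for abelian 2-groups -/

section AB

variable {A : Type*} [CommGroup A]

/-- the norm -/
def nu (δ : A →* A) (m : ℕ) (a : A) : A := ∏ i ∈ Finset.range m, δ^[i] a

theorem nu_mul (δ : A →* A) (m : ℕ) (a b : A) : nu δ m (a * b) = nu δ m a * nu δ m b := by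
  unfold nu
  rw [← Finset.prod_mul_distrib]
  refine Finset.prod_congr rfl fun i _ => ?_
  exact iterate_map_mul δ i a b

theorem nu_map {δ : A →* A} {m : ℕ} (hm : ∀ a, δ^[m] a = a) (a : A) : nu δ m (δ a) = nu δ m a := by
  unfold nu
  have h1 : ∏ i ∈ Finset.range m, δ^[i] (δ a) = ∏ i ∈ Finset.range m, δ^[i + 1] a :=
    Finset.prod_congr rfl fun i _ => (Function.iterate_succ_apply δ i a).symm
  rw [h1]
  have h2 := Finset.prod_range_succ (fun i => δ^[i] a) m
  have h3 := Finset.prod_range_succ' (fun i => δ^[i] a) m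
  rw [h2] at h3
  rw [hm a, Function.iterate_zero, id_eq] at h3
  exact (mul_right_cancel h3).symm

theorem nu_fixed {δ : A →* A} (m : ℕ) {a : A} (h : δ a = a) : nu δ m a = a ^ m := by
  unfold nu
  have : ∀ i ∈ Finset.range m, δ^[i] a = a := fun i _ => Function.iterate_fixed h i
  rw [Finset.prod_congr rfl this, Finset.prod_const, Finset.card_range]

theorem trivial_of_fixed [Finite A] (hA : IsPGroup 2 A) (δ τ : A →* A) (hτ : ∀ a, τ (τ a) = a)
    (hc : ∀ a, δ (τ a) = τ (δ a)) {m : ℕ} (hm : Odd m) (hδ : ∀ a, δ^[m] a = a)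
    (h : ∀ a, τ a = a → δ a = a) (a : A) : δ a = a := by
  by_contra hne
  -- elements of norm one
  have hstep : ∀ w : A, nu δ m w = 1 → w * w = 1 → w = 1 := by
    intro w hw hw2
    have hodd : ∀ v : A, v * v = 1 → v ^ m = 1 → v = 1 := by
      intro v hv hvm
      obtain ⟨k, rfl⟩ := hm
      rwa [pow_succ, pow_mul, pow_two, hv, one_pow, one_mul] at hvm
    have hντ : ∀ v : A, nu δ m (τ v) = τ (nu δ m v) := by
      intro v
      unfold nu
      rw [map_prod]
      refine Finset.prod_congr rfl fun i _ => ?_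
      have h5 : Function.Commute (δ : A → A) (τ : A → A) := fun b => hc b
      exact (h5.iterate_left i) v
    have hfix : τ (w * τ w) = w * τ w := by rw [map_mul, hτ, mul_comm]
    have h1 : w * τ w = 1 := by
      apply hodd
      · calc w * τ w * (w * τ w) = (w * w) * (τ w * τ w) := by
              rw [mul_mul_mul_comm]
          _ = 1 := by rw [← map_mul, hw2, map_one, mul_one]
      · rw [← nu_fixed m (h _ hfix), nu_mul, hντ, hw, map_one, mul_one]
    have h2 : τ w = w := by
      rw [← mul_left_cancel_iff (a := w), h1, hw2]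
    exact hodd w hw2 (by rw [← nu_fixed m (h _ h2), hw])
  obtain ⟨w, hw⟩ : ∃ w, w = δ a * a⁻¹ := ⟨_, rfl⟩
  have hw1 : nu δ m w = 1 := by
    rw [hw, nu_mul, nu_map hδ, ← nu_mul, mul_inv_cancel]
    unfold nu
    refine Finset.prod_eq_one fun i _ => ?_
    exact iterate_map_one δ i
  have hpow : ∀ j : ℕ, ∀ w : A, nu δ m w = 1 → w ^ 2 ^ j = 1 → w = 1 := by
    intro j
    induction j with
    | zero =>
      intro w _ h1
      simpa using h1
    | succ j ih =>
      intro w h0 h1
      apply hstep w h0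
      apply ih
      · rw [nu_mul, h0, mul_one]
      · rw [← pow_two, ← pow_mul, ← pow_succ']
        exact h1
  obtain ⟨j, hj⟩ := hA w
  have h3 := hpow j w hw1 hj
  apply hne
  rw [hw, mul_inv_eq_one] at h3
  exact h3

end AB

/-- `trivial_of_fixed` for an abelian group given by `Group`. -/
theorem trivial_of_fixed' {A : Type*} [i : Group A] [Finite A] (hab : ∀ a b : A, a * b = b * a)
    (hA : IsPGroup 2 A) (δ τ : A →* A) (hτ : ∀ a, τ (τ a) = a) (hc : ∀ a, δ (τ a) = τ (δ a)) {m : ℕ}
    (hm : Odd m) (hδ : ∀ a, δ^[m] a = a) (h : ∀ a, τ a = a → δ a = a) (a : A) : δ a = a :=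
  @trivial_of_fixed A { i with mul_comm := hab } _ hA δ τ hτ hc m hm hδ h a

/-! ### the action modulo the centre -/

section bar

variable {M : Type*} [Group M]

theorem map_center (φ : MulAut M) : (center M).map (φ : M ≃* M).toMonoidHom = center M := by
  ext y
  constructor
  · rintro ⟨x, hx, rfl⟩
    rw [mem_center_iff]
    intro g
    obtain ⟨g, rfl⟩ := φ.surjective g
    have h := mem_center_iff.mp hx g
    change φ g * φ x = φ x * φ g
    rw [← map_mul, h, map_mul]
  · intro hy
    obtain ⟨x, rfl⟩ := φ.surjective y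
    refine ⟨x, ?_, rfl⟩
    rw [SetLike.mem_coe, mem_center_iff]
    intro g
    apply φ.injective
    rw [map_mul, map_mul]
    exact mem_center_iff.mp hy (φ g)

theorem map_mem_center (φ : MulAut M) {z : M} (hz : z ∈ center M) : φ z ∈ center M := by
  rw [← map_center φ]
  exact ⟨z, hz, rfl⟩

/-- the action of `Aut M` on `M / Z(M)` -/
noncomputable def bar : MulAut M →* MulAut (M ⧸ center M) where
  toFun φ := QuotientGroup.congr (center M) (center M) φ (map_center φ)
  map_one' := by
    apply MulEquiv.ext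
    intro x
    obtain ⟨k, rfl⟩ := QuotientGroup.mk_surjective x
    rfl
  map_mul' a b := by
    apply MulEquiv.ext
    intro x
    obtain ⟨k, rfl⟩ := QuotientGroup.mk_surjective x
    rfl

theorem bar_mk (φ : MulAut M) (m : M) :
    bar φ (QuotientGroup.mk m) = (QuotientGroup.mk (φ m) : M ⧸ center M) := rfl

theorem bar_conj (m : M) : bar (MulAut.conj m) = MulAut.conj (QuotientGroup.mk m : M ⧸ center M) := by
  apply MulEquiv.ext
  intro x
  obtain ⟨k, rfl⟩ := QuotientGroup.mk_surjective x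
  rfl

theorem bar_injective (hp : Group.IsPerfect M) : Function.Injective (bar (M := M)) := by
  rw [injective_iff_map_eq_one]
  intro φ hφ
  have h1 : ∀ m : M, φ m * m⁻¹ ∈ center M := by
    intro m
    have h2 : bar φ (QuotientGroup.mk m) = (QuotientGroup.mk m : M ⧸ center M) := by
      rw [hφ, MulAut.one_apply]
    rw [bar_mk] at h2
    have h3 := (QuotientGroup.eq (s := center M)).mp h2.symm
    have h4 : φ m * m⁻¹ = m * (m⁻¹ * φ m) * m⁻¹ := by group
    rw [h4, (mem_center_iff.mp h3 m)]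
    rw [mul_assoc, mul_inv_cancel, mul_one]
    exact h3
  obtain ⟨f, hf⟩ : ∃ f : M →* ↥(center M), ∀ m, (f m : M) = φ m * m⁻¹ := by
    refine ⟨{ toFun := fun m => ⟨φ m * m⁻¹, h1 m⟩
              map_one' := Subtype.ext (by simp)
              map_mul' := fun a b => Subtype.ext ?_ }, fun m => rfl⟩
    change φ (a * b) * (a * b)⁻¹ = φ a * a⁻¹ * (φ b * b⁻¹)
    have h5 := mem_center_iff.mp (h1 b) a⁻¹
    calc φ (a * b) * (a * b)⁻¹ = φ a * (φ b * b⁻¹ * a⁻¹) := by rw [map_mul]; group
      _ = φ a * (a⁻¹ * (φ b * b⁻¹)) := by rw [h5]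
      _ = _ := by group
  have h6 : ∀ m, f m = 1 := by
    intro m
    have h7 : m ∈ commutator M := by rw [hp.commutator_eq_top]; exact mem_top m
    have h8 : commutator M ≤ f.ker := by
      rw [commutator_def, commutator_le]
      intro a _ b _
      rw [MonoidHom.mem_ker, map_commutatorElement, commutatorElement_eq_one_iff_mul_comm]
      exact Subtype.ext ((mem_center_iff.mp (f b).2 (f a)))
    exact h8 h7
  apply MulEquiv.ext
  intro m
  have h9 := congrArg Subtype.val (h6 m)
  rw [hf, OneMemClass.coe_one, mul_inv_eq_one] at h9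
  exact h9

end bar

/-! ### the core of a group with 2-group centre -/

theorem isPGroup_center {M : Type*} [Group M] [Finite M] (h : oddCore M = ⊥) :
    IsPGroup 2 ↥(center M) := by
  intro z
  obtain ⟨k, m, hm, hk⟩ := Nat.exists_eq_two_pow_mul_odd (n := orderOf (z : M)) (orderOf_pos _).ne'
  refine ⟨k, ?_⟩
  have h1 : (z : M) ^ 2 ^ k ∈ oddCore M := by
    have h2 : (zpowers ((z : M) ^ 2 ^ k)).Normal := by
      constructor
      intro y hy g
      have h3 : y ∈ center M := by
        have : zpowers ((z : M) ^ 2 ^ k) ≤ center M := by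
          rw [zpowers_le]; exact (center M).pow_mem z.2 _
        exact this hy
      rw [(mem_center_iff.mp h3 g), mul_inv_cancel_right]
      exact hy
    have h4 : (Nat.card (zpowers ((z : M) ^ 2 ^ k))).Coprime 2 := by
      rw [Nat.card_zpowers, orderOf_pow_of_dvd (by positivity) (by rw [hk]; exact dvd_mul_right _ _), hk,
        Nat.mul_div_cancel_left _ (by positivity)]
      exact (Nat.coprime_comm.mp (Nat.coprime_two_left.mpr hm))
    exact (le_sSup (show zpowers ((z : M) ^ 2 ^ k) ∈ {N : Subgroup M | N.Normal ∧ (Nat.card N).Coprime 2}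
      from ⟨h2, h4⟩)) (mem_zpowers _)
  rw [h, mem_bot] at h1
  exact Subtype.ext h1

/-! ### unbalancing `M / Z(M)` -/

universe u

theorem not_balanced {M : Type u} [Group M] [Finite M] (hq : IsQuasisimple M) {τ : MulAut M}
    {D : Subgroup (MulAut M)} (h1 : τ * τ = 1) (h2 : τ ≠ 1) (h3 : Odd (Nat.card D)) (h4 : D ≠ ⊥)
    (h5 : ∀ δ ∈ D, δ * τ = τ * δ)
    (h6 : ∀ k : M, τ k = k → ∀ δ ∈ D, MulAut.conj k * δ * (MulAut.conj k)⁻¹ ∈ D)
    (h7 : ∀ z ∈ center M, ∀ δ ∈ D, δ z = z) : ¬ IsLocallyBalanced (M ⧸ center M) := by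
  intro hbal
  have hinj := bar_injective hq.1
  obtain ⟨t, ht⟩ : ∃ t, t = bar τ := ⟨_, rfl⟩
  obtain ⟨D', hD'⟩ : ∃ D' : Subgroup (MulAut (M ⧸ center M)), D' = D.map bar := ⟨_, rfl⟩
  obtain ⟨I, hI⟩ : ∃ I : Subgroup (MulAut (M ⧸ center M)), I = (MulAut.conj : (M ⧸ center M) →* _).range :=
    ⟨_, rfl⟩
  have hIn : I.Normal := hI ▸ range_conj_normal
  obtain ⟨W, hW⟩ : ∃ W, W = zpowers t ⊔ D' := ⟨_, rfl⟩
  obtain ⟨H, hH⟩ : ∃ H, H = I ⊔ W := ⟨_, rfl⟩
  obtain ⟨C, hC⟩ : ∃ C, C = H ⊓ centralizer ({t} : Set _) := ⟨_, rfl⟩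
  -- the image of `C_M(τ)`
  obtain ⟨N, hN⟩ : ∃ N : Subgroup (MulAut (M ⧸ center M)), ∀ φ, φ ∈ N ↔
      ∃ k : M, τ k = k ∧ φ = MulAut.conj (QuotientGroup.mk k) := by
    refine ⟨{ carrier := {φ | ∃ k : M, τ k = k ∧ φ = MulAut.conj (QuotientGroup.mk k)}
              mul_mem' := ?_
              one_mem' := ⟨1, map_one τ, by rw [QuotientGroup.mk_one, map_one]⟩
              inv_mem' := ?_ }, fun φ => Iff.rfl⟩
    · rintro _ _ ⟨k, hk, rfl⟩ ⟨k', hk', rfl⟩
      exact ⟨k * k', by rw [map_mul, hk, hk'], by rw [QuotientGroup.mk_mul, map_mul]⟩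
    · rintro _ ⟨k, hk, rfl⟩
      exact ⟨k⁻¹, by rw [map_inv, hk], by rw [QuotientGroup.mk_inv, map_inv]⟩
  obtain ⟨C0, hC0⟩ : ∃ C0, C0 = N ⊔ W := ⟨_, rfl⟩
  have htt : t * t = 1 := by rw [ht, ← map_mul, h1, map_one]
  have ht1 : t ≠ 1 := by
    intro h
    apply h2
    apply hinj
    rw [← ht, h, map_one]
  have hWt : W ≤ centralizer ({t} : Set _) := by
    rw [hW, sup_le_iff, zpowers_le]
    constructor
    · exact mem_c rfl
    · rw [hD']
      rintro _ ⟨δ, hδ, rfl⟩
      apply mem_c
      rw [ht, ← map_mul, h5 δ hδ, map_mul]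
  have hD'C0 : D' ≤ C0 := by rw [hC0, hW]; exact le_sup_right.trans le_sup_right
  have hWC0 : W ≤ C0 := hC0 ▸ le_sup_right
  have hNI : N ≤ I := by
    intro φ hφ
    obtain ⟨k, -, rfl⟩ := (hN φ).mp hφ
    rw [hI]
    exact ⟨_, rfl⟩
  -- `C0 ≤ N(D')`
  have hC0D : C0 ≤ normalizer (D' : Set (MulAut (M ⧸ center M))) := by
    have key : ∀ g : MulAut M, (∀ δ ∈ D, g * δ * g⁻¹ ∈ D) → (∀ δ ∈ D, g⁻¹ * δ * g ∈ D) →
        bar g ∈ normalizer (D' : Set (MulAut (M ⧸ center M))) := by
      intro g hg hg'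
      rw [mem_normalizer_iff]
      intro y
      rw [hD']
      constructor
      · rintro ⟨δ, hδ, rfl⟩
        exact ⟨_, hg δ hδ, by rw [map_mul, map_mul, map_inv]⟩
      · rintro ⟨δ, hδ, hy⟩
        refine ⟨_, hg' δ hδ, ?_⟩
        rw [map_mul, map_mul, map_inv, hy]
        group
    rw [hC0, hW, sup_le_iff, sup_le_iff]
    refine ⟨?_, ?_, ?_⟩
    · intro φ hφ
      obtain ⟨k, hk, rfl⟩ := (hN φ).mp hφ
      rw [← bar_conj]
      refine key _ (h6 k hk) fun δ hδ => ?_
      have := h6 k⁻¹ (by rw [map_inv, hk]) δ hδ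
      rwa [map_inv, inv_inv] at this
    · rw [zpowers_le, ht]
      have hti : τ⁻¹ = τ := inv_eq_of_mul_eq_one_left h1
      refine key _ (fun δ hδ => ?_) fun δ hδ => ?_
      · rw [← h5 δ hδ, mul_inv_cancel_right]; exact hδ
      · rw [mul_assoc, h5 δ hδ, inv_mul_cancel_left]; exact hδ
    · exact le_normalizer
  have hD'odd : Odd (Nat.card D') := by
    rw [hD', Subgroup.card_map_of_injective hinj]; exact h3
  have hD'core : D' ≤ core C0 := le_core hD'C0 hC0D hD'odd
  -- `C ≤ N(C0)`
  have hτi : ∀ k, τ (τ k) = k := fun k => DFunLike.congr_fun h1 k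
  have hconj : ∀ k : M, bar τ (QuotientGroup.mk k) = (QuotientGroup.mk k : M ⧸ center M) →
      ∀ φ ∈ C0, MulAut.conj (QuotientGroup.mk k : M ⧸ center M) * φ *
        (MulAut.conj (QuotientGroup.mk k : M ⧸ center M))⁻¹ ∈ C0 := by
    intro k hk
    have hz : k⁻¹ * τ k ∈ center M := by
      rw [bar_mk] at hk
      exact (QuotientGroup.eq (s := center M)).mp hk.symm
    obtain ⟨z, hzd⟩ : ∃ z, z = k⁻¹ * τ k := ⟨_, rfl⟩
    rw [← hzd] at hz
    have hτk : τ k = k * z := by rw [hzd]; group
    have hle : C0 ≤ C0.comap (MulAut.conj (MulAut.conj (QuotientGroup.mk k : M ⧸ center M))).toMonoidHom := by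
      conv_lhs => rw [hC0, hW]
      rw [sup_le_iff, sup_le_iff]
      refine ⟨?_, ?_, ?_⟩
      · intro φ hφ
        obtain ⟨n, hn, rfl⟩ := (hN φ).mp hφ
        rw [mem_comap]
        have hNC0 : N ≤ C0 := hC0 ▸ le_sup_left
        apply hNC0
        rw [hN]
        refine ⟨k * n * k⁻¹, ?_, ?_⟩
        · rw [map_mul, map_mul, map_inv, hn, hτk, mul_inv_rev]
          have h8 := mem_center_iff.mp hz n
          have h9 := mem_center_iff.mp (inv_mem hz) k
          calc k * z * n * (z⁻¹ * k⁻¹) = k * (z * n) * z⁻¹ * k⁻¹ := by group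
            _ = k * (n * z) * z⁻¹ * k⁻¹ := by rw [h8]
            _ = _ := by group
        · change MulAut.conj _ * MulAut.conj _ * (MulAut.conj _)⁻¹ = _
          rw [← map_mul, ← map_inv, ← map_mul]
          rfl
      · rw [zpowers_le, mem_comap]
        apply hWC0
        have h8 : MulAut.conj (QuotientGroup.mk k : M ⧸ center M) * t =
            t * MulAut.conj (QuotientGroup.mk k : M ⧸ center M) := by
          apply MulEquiv.ext
          intro y
          change (QuotientGroup.mk k : M ⧸ center M) * t y * (QuotientGroup.mk k : M ⧸ center M)⁻¹ =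
            t ((QuotientGroup.mk k : M ⧸ center M) * y * (QuotientGroup.mk k : M ⧸ center M)⁻¹)
          rw [map_mul, map_mul, map_inv, ht, hk]
        change MulAut.conj _ * t * (MulAut.conj _)⁻¹ ∈ W
        rw [h8, mul_inv_cancel_right, hW]
        exact mem_sup_left (mem_zpowers t)
      · rw [hD']
        rintro _ ⟨δ, hδ, rfl⟩
        rw [mem_comap]
        change MulAut.conj _ * bar δ * (MulAut.conj _)⁻¹ ∈ C0
        have h8 : MulAut.conj (QuotientGroup.mk k : M ⧸ center M) * bar δ *
            (MulAut.conj (QuotientGroup.mk k : M ⧸ center M))⁻¹ =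
            MulAut.conj (QuotientGroup.mk (k * δ k⁻¹) : M ⧸ center M) * bar δ := by
          rw [← bar_conj, ← bar_conj, ← map_inv, ← map_mul, ← map_mul, ← map_mul]
          congr 1
          apply MulEquiv.ext
          intro y
          change k * δ (k⁻¹ * y * k) * k⁻¹ = (k * δ k⁻¹) * δ y * (k * δ k⁻¹)⁻¹
          rw [map_mul, map_mul, map_inv]
          group
        rw [h8]
        refine mul_mem ?_ (hD'C0 (by rw [hD']; exact ⟨δ, hδ, rfl⟩))
        have hNC0 : N ≤ C0 := hC0 ▸ le_sup_left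
        apply hNC0
        rw [hN]
        refine ⟨_, ?_, rfl⟩
        have h9 : τ (δ k⁻¹) = δ (τ k⁻¹) := (DFunLike.congr_fun (h5 δ hδ) k⁻¹).symm
        rw [map_mul, h9, map_inv, map_inv, hτk, map_mul, h7 z hz δ hδ, map_inv, mul_inv_rev]
        have h10 := mem_center_iff.mp hz (z⁻¹ * (δ k)⁻¹)
        calc k * z * (z⁻¹ * (δ k)⁻¹) = k * (δ k)⁻¹ := by group
          _ = _ := rfl
    exact fun φ hφ => hle hφ
  have hCC0 : C ≤ normalizer (C0 : Set (MulAut (M ⧸ center M))) := by
    intro g hg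
    rw [hC, mem_inf, hH] at hg
    obtain ⟨hgH, hgt⟩ := hg
    obtain ⟨i, hi, w, hw, rfl⟩ := (mem_sup_of_normal_left).mp hgH
    refine mul_mem ?_ (le_normalizer (hWC0 hw))
    rw [hI] at hi
    obtain ⟨κ, rfl⟩ := hi
    obtain ⟨k, rfl⟩ := QuotientGroup.mk_surjective κ
    -- `conj κ` commutes with `t`
    have h8 : MulAut.conj (QuotientGroup.mk k : M ⧸ center M) * t =
        t * MulAut.conj (QuotientGroup.mk k : M ⧸ center M) := by
      have h9 := comm_c hgt
      have h10 := comm_c (hWt hw)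
      rw [mul_assoc, h10, ← mul_assoc, ← mul_assoc] at h9
      exact mul_right_cancel h9
    have hs := hq.2
    have hna : ¬ IsMulCommutative (M ⧸ center M) := by
      intro hcm
      have h11 : commutator M ≤ center M := by
        rw [commutator_def, commutator_le]
        intro a _ b _
        have h12 : (QuotientGroup.mk ⁅a, b⁆ : M ⧸ center M) = 1 := by
          have : (QuotientGroup.mk ⁅a, b⁆ : M ⧸ center M) = ⁅(QuotientGroup.mk a : M ⧸ center M), QuotientGroup.mk b⁆ := rfl
          rw [this, commutatorElement_eq_one_iff_mul_comm]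
          exact hcm.is_comm.comm _ _
        exact (QuotientGroup.eq_one_iff _).mp h12
      rw [hq.1.commutator_eq_top, top_le_iff] at h11
      have h12 := hs.toNontrivial
      have h13 : Subsingleton (M ⧸ center M) := ⟨fun a b => by
        obtain ⟨a, rfl⟩ := QuotientGroup.mk_surjective a
        obtain ⟨b, rfl⟩ := QuotientGroup.mk_surjective b
        rw [QuotientGroup.eq, h11]
        exact mem_top _⟩
      exact not_subsingleton _ h13
    have hcj := conj_injective (center_eq_bot hna)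
    have hfix : bar τ (QuotientGroup.mk k) = (QuotientGroup.mk k : M ⧸ center M) := by
      apply hcj
      have h13 : t * MulAut.conj (QuotientGroup.mk k : M ⧸ center M) * t⁻¹ =
          MulAut.conj (t (QuotientGroup.mk k)) := by
        apply MulEquiv.ext
        intro y
        change t ((QuotientGroup.mk k : M ⧸ center M) * t⁻¹ y * (QuotientGroup.mk k : M ⧸ center M)⁻¹) =
          t (QuotientGroup.mk k) * y * (t (QuotientGroup.mk k))⁻¹
        rw [map_mul, map_mul, map_inv, MulAut.apply_inv_self]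
      rw [← ht, ← h13, ← h8, mul_inv_cancel_right]
    rw [mem_normalizer_iff]
    intro φ
    refine ⟨fun hφ => hconj k hfix φ hφ, fun hφ => ?_⟩
    have hfix' : bar τ (QuotientGroup.mk k⁻¹) = (QuotientGroup.mk k⁻¹ : M ⧸ center M) := by
      rw [QuotientGroup.mk_inv, map_inv, hfix]
    have h14 := hconj k⁻¹ hfix' _ hφ
    convert h14 using 1
    rw [QuotientGroup.mk_inv, map_inv]
    group
  -- the core of `C`
  have hcore : core C0 ≤ core C := by
    have hC0C : C0 ≤ C := by
      rw [hC, le_inf_iff]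
      constructor
      · rw [hC0, hH]
        exact sup_le_sup_right hNI W
      · rw [hC0, sup_le_iff]
        refine ⟨?_, hWt⟩
        intro φ hφ
        obtain ⟨k, hk, rfl⟩ := (hN φ).mp hφ
        apply mem_c
        rw [ht, ← bar_conj, ← map_mul, ← map_mul]
        congr 1
        apply MulEquiv.ext
        intro y
        change k * τ y * k⁻¹ = τ (k * y * k⁻¹)
        rw [map_mul, map_mul, map_inv, hk]
    refine le_core ((core_le _).trans hC0C) ?_ (odd_card_core _)
    exact hCC0.trans (normalizer_le_normalizer_core C0)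
  have htH : t ∈ H := by
    rw [hH, hW]
    exact mem_sup_right (mem_sup_left (mem_zpowers t))
  have h15 := hbal H (by rw [hH, hI]; exact le_sup_left) ⟨t, htH⟩ (by
    rw [Subgroup.orderOf_mk]
    exact orderOf_eq_prime (by rw [pow_two, htt]) ht1)
  have h16 := Trich.map_centralizerPPrimeCore (H := H) htH
  rw [h15, Subgroup.map_bot, ← hC] at h16
  apply h4
  rw [eq_bot_iff]
  intro δ hδ
  have h17 : bar δ ∈ core C := hcore (hD'core (by rw [hD']; exact ⟨δ, hδ, rfl⟩))
  rw [← h16, mem_bot] at h17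
  rw [mem_bot]
  apply hinj
  rw [h17, map_one]

end Cfsg.Agent.UGT.U2.AutBar
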