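import Cfsg.Agent.UGT.U2.FOne.Defs
import Cfsg.Agent.Classification.TypeB.SigAut
import Cfsg.Agent.Lib.AutSL2Out
import Mathlib.LinearAlgebra.Matrix.GeneralLinearGroup.Card

/-!
# UGT, node U2: `q = 3` is impossible

`three_false` : `x` an involutory automorphism of `K`, `D` a group of automorphisms of odd order centralising `x` and
normalised by the elements of odd order of `C_K(x)`; then `D` is trivial on every `SL₂(3)` which it
(one element of it) and `x` normalise.
-/

set_option autoImplicit false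

namespace Cfsg.Agent.UGT.U2.Three

open Subgroup Cfsg Matrix Cfsg.Agent.Lib.SL2Mat Cfsg.Agent.UGT.U2.FOne

/-! ### Fields with three elements -/

section Field

variable {F : Type*} [Field F]

theorem cases_of_card (h : Nat.card F = 3) (a : F) : a = 0 ∨ a = 1 ∨ a = -1 := by
  have hfin : Finite F := Nat.finite_of_card_ne_zero (by omega)
  have := Fintype.ofFinite F
  have h1 := FiniteField.pow_card a
  rw [← Nat.card_eq_fintype_card, h] at h1
  have h2 : a * ((a - 1) * (a + 1)) = 0 := by linear_combination h1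
  rcases mul_eq_zero.1 h2 with h3 | h3
  · exact Or.inl h3
  · rcases mul_eq_zero.1 h3 with h3 | h3
    · exact Or.inr (Or.inl (sub_eq_zero.1 h3))
    · exact Or.inr (Or.inr (eq_neg_of_add_eq_zero_left h3))

theorem three_eq (h : Nat.card F = 3) : (3 : F) = 0 := by
  have hfin : Finite F := Nat.finite_of_card_ne_zero (by omega)
  have := Fintype.ofFinite F
  have h1 : ((Fintype.card F : ℕ) : F) = 0 := Nat.cast_card_eq_zero F
  rw [← Nat.card_eq_fintype_card, h] at h1
  exact_mod_cast h1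

theorem two_ne (h : Nat.card F = 3) : (2 : F) ≠ 0 := by
  intro h2
  have h3 := three_eq h
  have : (1 : F) = 0 := by linear_combination h3 - h2
  exact one_ne_zero this

theorem sq_eq (h : Nat.card F = 3) {a : F} (ha : a ≠ 0) : a * a = 1 := by
  rcases cases_of_card h a with rfl | rfl | rfl
  · exact absurd rfl ha
  · ring
  · ring

theorem ringEquiv_eq_one (h : Nat.card F = 3) (σ : F ≃+* F) : σ = 1 := by
  ext a
  rcases cases_of_card h a with rfl | rfl | rfl
  · rw [map_zero, map_zero]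
  · rw [map_one, map_one]
  · rw [map_neg, map_neg, map_one, map_one]

end Field

/-! ### Automorphisms of `SL(2,3)` -/

section Aut

variable {F : Type*} [Field F]

local notation "SL2" => Matrix.SpecialLinearGroup (Fin 2) F

theorem exists_gl (h : Nat.card F = 3) (α : MulAut SL2) : ∃ g : GL (Fin 2) F, α = conjGL g := by
  have hfin : Finite F := Nat.finite_of_card_ne_zero (by omega)
  obtain ⟨g, σ, hg⟩ := Cfsg.Agent.Lib.AutSL2Out.exists_eq α
  rw [ringEquiv_eq_one h σ, map_one, mul_one] at hg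
  exact ⟨g, hg⟩

theorem scalar_of_conjGL {g : GL (Fin 2) F} (h : conjGL g = 1) :
    ∃ c : F, g.1 = c • (1 : Matrix (Fin 2) (Fin 2) F) := by
  refine (Cfsg.Agent.Classification.TypeB.SigAut.field_eq_one (τ := 1) (fun x => ?_)).2
  rw [map_one, h]
  rfl

theorem conjGL_of_scalar {g : GL (Fin 2) F} {c : F} (hc : g.1 = c • (1 : Matrix (Fin 2) (Fin 2) F)) :
    conjGL g = 1 := by
  ext1 x
  apply Subtype.ext
  rw [MulAut.one_apply, conjGL_val, hc, Matrix.smul_mul, Matrix.one_mul]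
  change c • x.1 * g⁻¹.1 = x.1
  have h1 : x.1 * g.1 = c • x.1 := by rw [hc, Matrix.mul_smul, Matrix.mul_one]
  rw [← h1, Matrix.mul_assoc, ← Units.val_mul, mul_inv_cancel, Units.val_one, Matrix.mul_one]

theorem card_gl (h : Nat.card F = 3) : Nat.card (GL (Fin 2) F) = 48 := by
  have hfin : Finite F := Nat.finite_of_card_ne_zero (by omega)
  have := Fintype.ofFinite F
  have h1 := Matrix.card_GL_field (𝔽 := F) 2
  rw [← Nat.card_eq_fintype_card (α := F), h] at h1
  rw [h1, Fin.prod_univ_two]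
  norm_num

theorem conjGL_pow_three (h : Nat.card F = 3) {g : GL (Fin 2) F} {m : ℕ} (hm : Odd m)
    (hg : conjGL g ^ m = 1) : conjGL (g ^ 3) = 1 := by
  have h1 : orderOf (conjGL g) ∣ m := orderOf_dvd_of_pow_eq_one hg
  have h2 : orderOf (conjGL g) ∣ 48 := by
    refine orderOf_dvd_of_pow_eq_one ?_
    rw [← map_pow, ← card_gl h, pow_card_eq_one', map_one]
  have h3 : Odd (orderOf (conjGL g)) := Odd.of_dvd_nat hm h1
  have h4 : orderOf (conjGL g) ∣ 3 := by
    have h5 : Nat.Coprime (orderOf (conjGL g)) 16 := by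
      rw [show (16 : ℕ) = 2 ^ 4 by norm_num]
      exact Nat.Coprime.pow_right _ (Nat.coprime_two_right.2 h3)
    exact h5.dvd_of_dvd_mul_left (by norm_num; exact h2)
  rw [map_pow]
  exact orderOf_dvd_iff_pow_eq_one.1 h4

/-- entries of a scalar matrix -/
theorem scalar_iff {M : Matrix (Fin 2) (Fin 2) F} :
    (∃ c : F, M = c • (1 : Matrix (Fin 2) (Fin 2) F)) ↔ M 0 1 = 0 ∧ M 1 0 = 0 ∧ M 0 0 = M 1 1 := by
  constructor
  · rintro ⟨c, rfl⟩
    simp
  · rintro ⟨h1, h2, h3⟩
    refine ⟨M 0 0, ?_⟩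
    ext i j
    fin_cases i <;> fin_cases j <;> simp [h1, h2, h3]

/-- a non-scalar matrix whose cube is scalar -/
theorem trace_sq {g : GL (Fin 2) F} (hg : ¬ ∃ c : F, g.1 = c • (1 : Matrix (Fin 2) (Fin 2) F))
    (h : ∃ c : F, (g ^ 3).1 = c • (1 : Matrix (Fin 2) (Fin 2) F)) :
    (g.1 0 0 + g.1 1 1) * (g.1 0 0 + g.1 1 1) = g.1 0 0 * g.1 1 1 - g.1 0 1 * g.1 1 0 := by
  rw [scalar_iff] at h hg
  have h3 : (g ^ 3).1 = g.1 * g.1 * g.1 := by
    rw [Units.val_pow_eq_pow_val, pow_succ, pow_two]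
  rw [h3] at h
  simp only [Matrix.mul_apply, Fin.sum_univ_two] at h
  obtain ⟨h1, h2, h4⟩ := h
  by_contra hcon
  apply hg
  refine ⟨?_, ?_, ?_⟩
  · by_contra h0
    apply hcon
    apply mul_left_cancel₀ h0
    linear_combination h1
  · by_contra h0
    apply hcon
    apply mul_left_cancel₀ h0
    linear_combination h2
  · by_contra h0
    apply hcon
    apply mul_left_cancel₀ (sub_ne_zero.2 h0)
    linear_combination h4

/-- the computation for `scalar_of_comm` -/
theorem core_lemma (h3 : (3 : F) = 0) (h2 : (2 : F) ≠ 0) {p q r s a b d e : F}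
    (hg : ¬ (q = 0 ∧ r = 0 ∧ p = s)) (ht : (p + s) * (p + s) = p * s - q * r)
    (hdh : a * e - b * d ≠ 0) (k1 : a * b + b * e = 0) (k2 : d * a + e * d = 0)
    (k3 : a * a + b * d = d * b + e * e) (f00 : a * p + b * r = p * a + q * d)
    (f01 : a * q + b * s = p * b + q * e) (f10 : d * p + e * r = r * a + s * d) :
    b = 0 ∧ d = 0 ∧ a = e := by
  by_contra hcon
  -- the trace of `h` vanishes
  have htr : a + e = 0 := by
    by_contra h0
    apply hcon
    refine ⟨?_, ?_, ?_⟩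
    · exact (mul_eq_zero.1 (by linear_combination k1 : b * (a + e) = 0)).resolve_right h0
    · exact (mul_eq_zero.1 (by linear_combination k2 : d * (a + e) = 0)).resolve_right h0
    · exact sub_eq_zero.1 ((mul_eq_zero.1 (by linear_combination k3 : (a - e) * (a + e) = 0)).resolve_right h0)
  obtain rfl : e = -a := by linear_combination htr
  have m1 : b * (p - s) = 2 * a * q := by linear_combination -f01
  have m2 : d * (p - s) = 2 * a * r := by linear_combination f10
  have m3 : b * r = q * d := by linear_combination f00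
  have ht' : (p - s) * (p - s) = -(4 * (q * r)) := by
    linear_combination ht - (p * s - q * r) * h3
  apply hdh
  by_cases hps : p - s = 0
  · by_cases hq0 : q = 0
    · by_cases hr0 : r = 0
      · exact absurd ⟨hq0, hr0, sub_eq_zero.1 hps⟩ hg
      · have ha0 : a = 0 := by
          rw [hps, mul_zero] at m2
          have := (mul_eq_zero.1 m2.symm).resolve_right hr0
          exact (mul_eq_zero.1 this).resolve_left h2
        have hb0 : b = 0 := by
          rw [hq0, zero_mul] at m3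
          exact (mul_eq_zero.1 m3).resolve_right hr0
        rw [ha0, hb0]; ring
    · have ha0 : a = 0 := by
        rw [hps, mul_zero] at m1
        have := (mul_eq_zero.1 m1.symm).resolve_right hq0
        exact (mul_eq_zero.1 this).resolve_left h2
      have hr0 : r = 0 := by
        rw [hps, mul_zero] at ht'
        have h4 : (4 : F) ≠ 0 := by
          intro h4
          have : (1 : F) = 0 := by linear_combination h4 - h3
          exact one_ne_zero this
        have := (mul_eq_zero.1 (by linear_combination ht' : (4 : F) * (q * r) = 0)).resolve_left h4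
        exact (mul_eq_zero.1 this).resolve_left hq0
      have hd0 : d = 0 := by
        rw [hr0, mul_zero] at m3
        exact (mul_eq_zero.1 m3.symm).resolve_left hq0
      rw [ha0, hd0]; ring
  · have hsq : (p - s) * (p - s) ≠ 0 := mul_ne_zero hps hps
    apply mul_left_cancel₀ hsq
    have k4 : (b * (p - s)) * (d * (p - s)) = (2 * a * q) * (2 * a * r) := by rw [m1, m2]
    linear_combination (-(a * a)) * ht' - k4

/-- The centraliser of an element of order three of `PGL(2,3)` contains no involution. -/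
theorem scalar_of_comm (hF : Nat.card F = 3) {g h : GL (Fin 2) F}
    (hg : ¬ ∃ c : F, g.1 = c • (1 : Matrix (Fin 2) (Fin 2) F))
    (ht : (g.1 0 0 + g.1 1 1) * (g.1 0 0 + g.1 1 1) = g.1 0 0 * g.1 1 1 - g.1 0 1 * g.1 1 0)
    (hh : ∃ c : F, (h * h).1 = c • (1 : Matrix (Fin 2) (Fin 2) F))
    (hc : ∃ c : F, (h * g * h⁻¹ * g⁻¹).1 = c • (1 : Matrix (Fin 2) (Fin 2) F)) :
    ∃ c : F, h.1 = c • (1 : Matrix (Fin 2) (Fin 2) F) := by
  have h3 := three_eq hF
  have h2 := two_ne hF
  -- `h g = c g h`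
  obtain ⟨c, hc⟩ := hc
  have e1 : h.1 * g.1 = c • (g.1 * h.1) := by
    have e2 : h.1 * g.1 = (h * g * h⁻¹ * g⁻¹).1 * (g.1 * h.1) := by
      rw [← Units.val_mul, ← Units.val_mul, ← Units.val_mul]
      congr 1
      group
    rw [e2, hc, Matrix.smul_mul, Matrix.one_mul]
  have hdg : g.1 0 0 * g.1 1 1 - g.1 0 1 * g.1 1 0 ≠ 0 := by
    rw [← Matrix.det_fin_two]
    exact (Matrix.GeneralLinearGroup.det g).ne_zero
  have hdh : h.1 0 0 * h.1 1 1 - h.1 0 1 * h.1 1 0 ≠ 0 := by
    rw [← Matrix.det_fin_two]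
    exact (Matrix.GeneralLinearGroup.det h).ne_zero
  have ht0 : g.1 0 0 + g.1 1 1 ≠ 0 := by
    intro h0
    apply hdg
    rw [← ht, h0, zero_mul]
  have hc1 : c = 1 := by
    -- traces of `h g h⁻¹ = c g`
    have e3 : h.1 * g.1 * (h⁻¹).1 = c • g.1 := by
      rw [e1, Matrix.smul_mul, Matrix.mul_assoc, ← Units.val_mul, mul_inv_cancel, Units.val_one,
        Matrix.mul_one]
    have e4 := congrArg Matrix.trace e3
    rw [Matrix.trace_mul_comm, ← Matrix.mul_assoc, ← Units.val_mul, inv_mul_cancel, Units.val_one,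
      Matrix.one_mul, Matrix.trace_smul, Matrix.trace_fin_two, smul_eq_mul] at e4
    have e5 : (c - 1) * (g.1 0 0 + g.1 1 1) = 0 := by linear_combination -e4
    exact sub_eq_zero.1 ((mul_eq_zero.1 e5).resolve_right ht0)
  rw [hc1, one_smul] at e1
  rw [scalar_iff] at hh hg ⊢
  have f00 := congrFun (congrFun e1 0) 0
  have f01 := congrFun (congrFun e1 0) 1
  have f10 := congrFun (congrFun e1 1) 0
  rw [Units.val_mul] at hh
  simp only [Matrix.mul_apply, Fin.sum_univ_two] at f00 f01 f10 hh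
  exact core_lemma h3 h2 hg ht hdh hh.1 hh.2.1 hh.2.2 f00 f01 f10

/-- the inverse of a `2 × 2` matrix -/
theorem inv_ent (g : GL (Fin 2) F) :
    (g⁻¹).1 0 0 = (g.1 0 0 * g.1 1 1 - g.1 0 1 * g.1 1 0)⁻¹ * g.1 1 1 ∧
    (g⁻¹).1 0 1 = -((g.1 0 0 * g.1 1 1 - g.1 0 1 * g.1 1 0)⁻¹ * g.1 0 1) ∧
    (g⁻¹).1 1 0 = -((g.1 0 0 * g.1 1 1 - g.1 0 1 * g.1 1 0)⁻¹ * g.1 1 0) ∧
    (g⁻¹).1 1 1 = (g.1 0 0 * g.1 1 1 - g.1 0 1 * g.1 1 0)⁻¹ * g.1 0 0 := by
  rw [Matrix.coe_units_inv, Matrix.inv_def, Ring.inverse_eq_inv', Matrix.det_fin_two,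
    Matrix.adjugate_fin_two]
  refine ⟨?_, ?_, ?_, ?_⟩ <;> simp [Matrix.smul_apply, smul_eq_mul]

/-- an element of trace zero of `SL(2,F)` has order four -/
theorem not_pow_odd (h2 : (2 : F) ≠ 0) {w : SL2} (hw : ent w 0 0 + ent w 1 1 = 0) {k : ℕ} (hk : Odd k) :
    w ^ k ≠ 1 := by
  intro h
  have h1 : w * w = -1 := by
    have hd := det_eq w
    have h11 : ent w 1 1 = -ent w 0 0 := by linear_combination hw
    rw [h11] at hd
    refine ext_ent ?_ ?_ ?_ ?_
    · rw [ent_mul]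
      change _ = -(1 : F)
      linear_combination -hd
    · rw [ent_mul, h11]
      change _ = -(0 : F)
      ring
    · rw [ent_mul, h11]
      change _ = -(0 : F)
      ring
    · rw [ent_mul, h11]
      change _ = -(1 : F)
      linear_combination -hd
  have h3 : (w * w) ^ k = 1 := by
    rw [← pow_two, ← pow_mul, mul_comm, pow_mul, h, one_pow]
  rw [h1, hk.neg_one_pow] at h3
  have h4 := congrArg (fun y : SL2 => ent y 0 0) h3
  change -(1 : F) = 1 at h4
  exact h2 (by linear_combination -h4)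

/-- `v α(v)⁻¹` has even order for `v = lo 1` -/
theorem trace_lo (hF : Nat.card F = 3) {g : GL (Fin 2) F} (hq : g.1 0 1 ≠ 0)
    (ht : (g.1 0 0 + g.1 1 1) * (g.1 0 0 + g.1 1 1) = g.1 0 0 * g.1 1 1 - g.1 0 1 * g.1 1 0)
    {k : ℕ} (hk : Odd k) : (lo (1 : F) * (conjGL g (lo 1))⁻¹) ^ k ≠ 1 := by
  have h3 := three_eq hF
  have hdg : g.1 0 0 * g.1 1 1 - g.1 0 1 * g.1 1 0 ≠ 0 := by
    rw [← Matrix.det_fin_two]
    exact (Matrix.GeneralLinearGroup.det g).ne_zero
  have hδ : g.1 0 0 * g.1 1 1 - g.1 0 1 * g.1 1 0 = 1 := by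
    rw [← ht]
    refine sq_eq hF fun h0 => hdg ?_
    rw [← ht, h0, zero_mul]
  refine not_pow_odd (two_ne hF) ?_ hk
  have e1 : lo (1 : F) * (conjGL g (lo 1))⁻¹ = lo 1 * conjGL g (lo (-1)) := by
    rw [← map_inv, lo_inv]
  obtain ⟨i00, i01, i10, i11⟩ := inv_ent g
  rw [hδ, inv_one, one_mul] at i00 i01 i10 i11
  have hs : g.1 0 1 * g.1 0 1 = 1 := sq_eq hF hq
  have e2 : ∀ i j, ent (conjGL g (lo (-1))) i j =
      (g.1 i 0 * (1 : F) + g.1 i 1 * (-1)) * (g⁻¹).1 0 j + g.1 i 1 * (g⁻¹).1 1 j := by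
    intro i j
    change (conjGL g (lo (-1))).1 i j = _
    rw [conjGL_val, Matrix.mul_apply, Fin.sum_univ_two, Matrix.mul_apply, Matrix.mul_apply, Fin.sum_univ_two,
      Fin.sum_univ_two]
    change (g.1 i 0 * (1 : F) + g.1 i 1 * (-1)) * _ + (g.1 i 0 * (0 : F) + g.1 i 1 * (1 : F)) * _ = _
    ring
  rw [e1, ent_mul, ent_mul, e2, e2, e2, e2, i00, i01, i10, i11]
  change (1 : F) * _ + (0 : F) * _ + ((1 : F) * _ + (1 : F) * _) = 0
  linear_combination 2 * hδ + hs + h3

/-- `v α(v)⁻¹` has even order for `v = up 1` -/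
theorem trace_up (hF : Nat.card F = 3) {g : GL (Fin 2) F} (hr : g.1 1 0 ≠ 0)
    (ht : (g.1 0 0 + g.1 1 1) * (g.1 0 0 + g.1 1 1) = g.1 0 0 * g.1 1 1 - g.1 0 1 * g.1 1 0)
    {k : ℕ} (hk : Odd k) : (up (1 : F) * (conjGL g (up 1))⁻¹) ^ k ≠ 1 := by
  have h3 := three_eq hF
  have hdg : g.1 0 0 * g.1 1 1 - g.1 0 1 * g.1 1 0 ≠ 0 := by
    rw [← Matrix.det_fin_two]
    exact (Matrix.GeneralLinearGroup.det g).ne_zero
  have hδ : g.1 0 0 * g.1 1 1 - g.1 0 1 * g.1 1 0 = 1 := by
    rw [← ht]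
    refine sq_eq hF fun h0 => hdg ?_
    rw [← ht, h0, zero_mul]
  refine not_pow_odd (two_ne hF) ?_ hk
  have e1 : up (1 : F) * (conjGL g (up 1))⁻¹ = up 1 * conjGL g (up (-1)) := by
    rw [← map_inv, up_inv]
  obtain ⟨i00, i01, i10, i11⟩ := inv_ent g
  rw [hδ, inv_one, one_mul] at i00 i01 i10 i11
  have hs : g.1 1 0 * g.1 1 0 = 1 := sq_eq hF hr
  have e2 : ∀ i j, ent (conjGL g (up (-1))) i j =
      g.1 i 0 * (g⁻¹).1 0 j + (g.1 i 0 * (-1) + g.1 i 1 * (1 : F)) * (g⁻¹).1 1 j := by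
    intro i j
    change (conjGL g (up (-1))).1 i j = _
    rw [conjGL_val, Matrix.mul_apply, Fin.sum_univ_two, Matrix.mul_apply, Matrix.mul_apply, Fin.sum_univ_two,
      Fin.sum_univ_two]
    change (g.1 i 0 * (1 : F) + g.1 i 1 * (0 : F)) * _ + (g.1 i 0 * (-1 : F) + g.1 i 1 * (1 : F)) * _ = _
    ring
  rw [e1, ent_mul, ent_mul, e2, e2, e2, e2, i00, i01, i10, i11]
  change (1 : F) * _ + (1 : F) * _ + ((0 : F) * _ + (1 : F) * _) = 0
  linear_combination 2 * hδ + hs + h3

/-- **Automorphisms of `SL(2,3)`**: `α ≠ 1` of odd order, `τ² = 1`, `τ α = α τ` imply `τ = 1`, and `v α(v)⁻¹` has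
even order for some `v` of order dividing `3`. -/
theorem aut_main (hF : Nat.card F = 3) {α τ : MulAut SL2} {m : ℕ} (hm : Odd m) (hα : α ^ m = 1) (hα1 : α ≠ 1)
    (hτ : τ * τ = 1) (hc : τ * α = α * τ) :
    τ = 1 ∧ ∃ v : SL2, v ^ 3 = 1 ∧ ∀ k : ℕ, Odd k → (v * (α v)⁻¹) ^ k ≠ 1 := by
  obtain ⟨g, rfl⟩ := exists_gl hF α
  obtain ⟨h, rfl⟩ := exists_gl hF τ
  have hg : ¬ ∃ c : F, g.1 = c • (1 : Matrix (Fin 2) (Fin 2) F) := by
    rintro ⟨c, hc⟩
    exact hα1 (conjGL_of_scalar hc)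
  have ht := trace_sq hg (scalar_of_conjGL (conjGL_pow_three hF hm hα))
  constructor
  · obtain ⟨c, hc'⟩ := scalar_of_comm hF hg ht (scalar_of_conjGL (by rw [map_mul, hτ]))
      (scalar_of_conjGL (g := h * g * h⁻¹ * g⁻¹) (by
        rw [map_mul, map_mul, map_mul, hc, map_inv, map_inv]; group))
    exact conjGL_of_scalar hc'
  · by_cases hq : g.1 0 1 = 0
    · by_cases hr : g.1 1 0 = 0
      · exfalso
        apply hg
        rw [scalar_iff]
        refine ⟨hq, hr, ?_⟩
        rw [hq, hr] at ht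
        have h5 : (g.1 0 0 - g.1 1 1) * (g.1 0 0 - g.1 1 1) = 0 := by
          linear_combination ht - (g.1 0 0 * g.1 1 1) * three_eq hF
        exact sub_eq_zero.1 (mul_self_eq_zero.1 h5)
      · refine ⟨up 1, ?_, fun k hk => trace_up hF hr ht hk⟩
        rw [Cfsg.Agent.Lib.AutSL2.up_pow]
        have h3 := three_eq hF
        rw [show ((3 : ℕ) : F) * 1 = 0 by push_cast; rw [h3]; ring, up_zero]
    · refine ⟨lo 1, ?_, fun k hk => trace_lo hF hq ht hk⟩
      have h3 := three_eq hF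
      rw [pow_succ, pow_two, lo_mul, lo_mul, show (1 : F) + 1 + 1 = 0 by linear_combination h3, lo_zero]

end Aut

/-! ### The theorem -/

section Main

variable {K : Type*} [Group K]

/-- the automorphism induced on an invariant subgroup -/
theorem exists_res {L : Type*} [Group L] {J : Subgroup K} (e : ↥J ≃* L) {x : MulAut K}
    (h : J.map x.toMonoidHom = J) : ∃ τ : MulAut L, ∀ l : L, (e.symm (τ l) : K) = x (e.symm l) := by
  refine ⟨(e.symm.trans ((x.subgroupMap J).trans (MulEquiv.subgroupCongr h))).trans e, fun l => ?_⟩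
  change (e.symm (e ((MulEquiv.subgroupCongr h) ((x.subgroupMap J) (e.symm l)))) : K) = _
  rw [e.symm_apply_apply]
  rfl

/-- **`q = 3` is impossible.** -/
theorem three_false [Finite K] (hZ : center K = ⊥) (x : MulAut K) (D : Subgroup (MulAut K))
    (hx : ∀ g, x (x g) = g) (hodd : Odd (Nat.card D)) (hcomm : ∀ d ∈ D, d * x = x * d)
    (hnorm : ∀ v : K, x v = v → Odd (orderOf v) → ∀ d ∈ D, MulAut.conj v * d * (MulAut.conj v)⁻¹ ∈ D)
    (J : Subgroup K) (hJ : FOne.IsSL2 3 J) (hJx : J.map x.toMonoidHom = J) {d : MulAut K} (hd : d ∈ D)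
    (hJd : J.map d.toMonoidHom = J) : ∀ j ∈ J, d j = j := by
  obtain ⟨F, _, hfin, hF, -, ⟨e⟩⟩ := hJ
  obtain ⟨τ, hτ⟩ := exists_res e hJx
  obtain ⟨α, hα⟩ := exists_res e hJd
  by_contra hcon
  push Not at hcon
  obtain ⟨j, hj, hdj⟩ := hcon
  have hinj : ∀ l l' : Matrix.SpecialLinearGroup (Fin 2) F, (e.symm l : K) = e.symm l' → l = l' :=
    fun l l' h => e.symm.injective (Subtype.ext h)
  have hα1 : α ≠ 1 := by
    rintro rfl
    have h1 := hα (e ⟨j, hj⟩)
    rw [MulAut.one_apply, e.symm_apply_apply] at h1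
    exact hdj h1.symm
  have hττ : τ * τ = 1 := by
    ext1 l
    apply hinj
    rw [MulAut.mul_apply, hτ, hτ, hx, MulAut.one_apply]
  have hc : τ * α = α * τ := by
    ext1 l
    apply hinj
    rw [MulAut.mul_apply, MulAut.mul_apply, hτ, hα, hα, hτ, ← MulAut.mul_apply, ← MulAut.mul_apply,
      hcomm d hd]
  have hαm : ∀ (n : ℕ) (l : Matrix.SpecialLinearGroup (Fin 2) F), (e.symm ((α ^ n) l) : K) = (d ^ n) (e.symm l) := by
    intro n
    induction n with
    | zero => intro l; rw [pow_zero, pow_zero]; rfl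
    | succ n ih => intro l; rw [pow_succ', pow_succ', MulAut.mul_apply, MulAut.mul_apply, hα, ih]
  have hdm : d ^ Nat.card D = 1 := by
    have := pow_card_eq_one' (x := (⟨d, hd⟩ : D))
    exact congrArg Subtype.val this
  have hαm1 : α ^ Nat.card D = 1 := by
    ext1 l
    apply hinj
    rw [hαm, hdm]
    rfl
  obtain ⟨h1, v, hv, hk⟩ := aut_main hF hodd hαm1 hα1 hττ hc
  -- `x` is trivial on `J`
  have hxv : x (e.symm v) = e.symm v := by
    rw [← hτ, h1, MulAut.one_apply]
  have hov : Odd (orderOf (e.symm v : K)) := by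
    have h2 : (e.symm v : K) ^ 3 = 1 := by
      rw [← Subgroup.coe_pow, ← map_pow, hv, map_one]
      rfl
    exact Odd.of_dvd_nat (by decide) (orderOf_dvd_of_pow_eq_one h2)
  have h3 := hnorm _ hxv hov d hd
  have h4 : MulAut.conj ((e.symm v : K) * (d (e.symm v))⁻¹) ∈ D := by
    have h5 := mul_mem h3 (inv_mem hd)
    have h6 : MulAut.conj (e.symm v : K) * d * (MulAut.conj (e.symm v : K))⁻¹ * d⁻¹ =
        MulAut.conj ((e.symm v : K) * (d (e.symm v))⁻¹) := by
      rw [map_mul, map_inv]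
      have h7 := FOne.conj_comm d (e.symm v : K)
      have h8 : MulAut.conj (d (e.symm v : K)) = d * MulAut.conj (e.symm v : K) * d⁻¹ := by rw [h7]; group
      rw [h8]
      group
    rwa [h6] at h5
  have h5 : (MulAut.conj ((e.symm v : K) * (d (e.symm v))⁻¹)) ^ Nat.card D = 1 := by
    have := pow_card_eq_one' (x := (⟨_, h4⟩ : D))
    exact congrArg Subtype.val this
  rw [← map_pow] at h5
  have h6 := FOne.conj_injective hZ (h5.trans (map_one _).symm)
  apply hk _ hodd
  apply hinj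
  rw [map_one, map_pow, Subgroup.coe_pow, map_mul, map_inv, Subgroup.coe_mul, Subgroup.coe_inv, hα, h6]
  rfl

end Main

end Cfsg.Agent.UGT.U2.Three
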