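import Cfsg.Agent.UGT.U2.AutBar

/-!
# The type of a triple is on the list of S1311

* `le_fs`: in a minimal counterexample `L ≤ F*(G)` for every triple `(x, a, L)`.
* `exists_image'`: the pair `(τ, D)` induced on `K = L / O(L)`; `D` centralizes `Z(K)`.
* `inU_bar`: `K / Z(K)` is on the list of S1311.
-/

set_option autoImplicit false

open Cfsg Subgroup
open Cfsg.Agent.SignalizersComponents Cfsg.Agent.Lib
open Cfsg.Agent.SignalizersComponents.IntrinsicBasic
open Cfsg.Agent.SignalizersComponents.PLayerAut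
open Cfsg.Agent.Intrinsic.Basic
open Cfsg.Agent.McLLyComp.Act
open Cfsg.Agent.FixBN.BTheorem Cfsg.Agent.FixBN.BRelative
open Cfsg.Agent.UGT.Triple Cfsg.Agent.UGT.Iface Cfsg.Agent.UGT.InnB
open Cfsg.Agent.UGT.Trich (normal_fs centralizer_fs sup_eq_top)
open Cfsg.Agent.UGT.U2.AutBar
open scoped commutatorElement

namespace Cfsg.Agent.UGT.U2.TypeOf

universe u

local notation "Fs" => generalizedFittingSubgroup

/-! ### 2-components are contained in `F*(G)` -/

section le

variable {G : Type u} [Group G] [Finite G]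

/-- If `O(C(x)) ≠ 1` for some involution `x`, then every 2-component of every subgroup lies in `F*(G)`. -/
theorem le_fs_of_core (h : MinCex G) {x : G} (hx : orderOf x = 2)
    (hO : core (centralizer ({x} : Set G)) ≠ ⊥) {H L : Subgroup G} (hL : IsComp H L) : L ≤ Fs G := by
  have hXn : (Fs G).Normal := normal_fs
  obtain ⟨O, hOd⟩ : ∃ O, O = core (centralizer ({x} : Set G)) := ⟨_, rfl⟩
  have htop := sup_eq_top h hx hO
  rw [← hOd] at htop
  obtain ⟨N, hN⟩ : ∃ N, N = Fs G ⊔ O := ⟨_, rfl⟩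
  have hxO : ∀ o ∈ O, x * o = o * x := by
    intro o ho
    rw [hOd] at ho
    exact (comm_c (core_le _ ho)).symm
  have hxN : x ∈ normalizer (N : Set G) := by
    rw [mem_normalizer_iff_cj]
    have e1 : IntrinsicBasic.cj x N = IntrinsicBasic.cj x (Fs G) ⊔ IntrinsicBasic.cj x O := by
      rw [hN, cj_def, cj_def, cj_def, Subgroup.map_sup]
    have e2 : IntrinsicBasic.cj x (Fs G) = Fs G := by
      have : x ∈ normalizer (Fs G : Set G) := by
        rw [Subgroup.normalizer_eq_top_iff.mpr normal_fs]; exact mem_top x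
      exact mem_normalizer_iff_cj.mp this
    have e3 : IntrinsicBasic.cj x O = O := by
      apply mem_normalizer_iff_cj.mp
      rw [mem_normalizer_iff]
      intro o
      constructor
      · intro ho
        rw [hxO o ho, mul_inv_cancel_right]; exact ho
      · intro ho
        have h1 := hxO _ ho
        have h2 : x * o * x⁻¹ = o := by
          have h3 : x * (x * o * x⁻¹) = x * o := by rw [h1]; group
          exact mul_left_cancel h3
        rwa [h2] at ho
    rw [e1, e2, e3, hN]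
  have hNn : N.Normal := by
    rw [← Subgroup.normalizer_eq_top_iff, eq_top_iff, ← htop, sup_le_iff, sup_le_iff]
    refine ⟨⟨(hN ▸ le_sup_left : Fs G ≤ N).trans le_normalizer, ?_⟩,
      (hN ▸ le_sup_right : O ≤ N).trans le_normalizer⟩
    rw [zpowers_le]; exact hxN
  have htop' : zpowers x ⊔ N = ⊤ := by
    rw [hN, ← sup_assoc, sup_comm (zpowers x)]; exact htop
  -- `L ≤ N`
  have hLN : L ≤ N := by
    rw [← hL.perfect, commutator_le]
    intro g₁ _ g₂ _
    have key : ∀ g : G, ∃ i : ℤ, (QuotientGroup.mk g : G ⧸ N) = (QuotientGroup.mk x : G ⧸ N) ^ i := by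
      intro g
      have hg : g ∈ zpowers x ⊔ N := by rw [htop']; exact mem_top g
      obtain ⟨y, hy, n, hn, rfl⟩ := mem_sup_of_normal_right.mp hg
      obtain ⟨i, rfl⟩ := mem_zpowers_iff.mp hy
      refine ⟨i, ?_⟩
      rw [QuotientGroup.mk_mul, (QuotientGroup.eq_one_iff n).mpr hn, mul_one]
      rfl
    rw [← QuotientGroup.eq_one_iff]
    have e : (QuotientGroup.mk ⁅g₁, g₂⁆ : G ⧸ N) =
        ⁅(QuotientGroup.mk g₁ : G ⧸ N), (QuotientGroup.mk g₂ : G ⧸ N)⁆ := rfl
    obtain ⟨i, hi⟩ := key g₁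
    obtain ⟨j, hj⟩ := key g₂
    rw [e, commutatorElement_eq_one_iff_mul_comm, hi, hj, ← zpow_add, ← zpow_add, add_comm]
  -- 2-elements of `N` lie in `F*(G)`
  refine hL.le_of_two fun k hk n hkn => ?_
  have hkN := hLN hk
  rw [hN] at hkN
  obtain ⟨y, hy, o, ho, rfl⟩ := mem_sup_of_normal_left.mp hkN
  obtain ⟨ō, hō⟩ : ∃ ō, ō = (QuotientGroup.mk o : G ⧸ Fs G) := ⟨_, rfl⟩
  have h1 : (QuotientGroup.mk (y * o) : G ⧸ Fs G) = ō := by
    rw [QuotientGroup.mk_mul, (QuotientGroup.eq_one_iff y).mpr hy, one_mul, hō]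
  have h2 : ō ^ 2 ^ n = 1 := by
    rw [← h1, ← QuotientGroup.mk_pow, hkn, QuotientGroup.mk_one]
  have h3 : Odd (orderOf ō) := by
    have h4 : orderOf ō ∣ orderOf o := by
      rw [hō]
      exact orderOf_map_dvd (QuotientGroup.mk' (Fs G)) o
    have h5 : orderOf o ∣ Nat.card O := Subgroup.orderOf_dvd_natCard O ho
    have h6 : Odd (Nat.card O) := hOd ▸ odd_card_core _
    exact Odd.of_dvd_nat h6 (h4.trans h5)
  have h4 : orderOf ō ∣ 2 ^ n := orderOf_dvd_of_pow_eq_one h2
  have h5 : orderOf ō = 1 := by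
    have h6 : (orderOf ō).Coprime (2 ^ n) := (Nat.coprime_comm.mp (Nat.coprime_two_left.mpr h3)).pow_right n
    exact h6.eq_one_of_dvd h4
  rw [orderOf_eq_one_iff, ← h1] at h5
  exact (QuotientGroup.eq_one_iff _).mp h5

theorem core_ne_bot {x a : G} {L : Subgroup G} (T : IsTriple x a L) :
    core (centralizer ({x} : Set G)) ≠ ⊥ := by
  intro h
  obtain ⟨d, hd, -, hf⟩ := T.bad
  rw [h, mem_bot] at hd
  rw [hd] at hf
  exact hf (fixes_one L)

theorem le_fs (h : MinCex G) {x a : G} {L : Subgroup G} (T : IsTriple x a L) : L ≤ Fs G :=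
  le_fs_of_core h T.invx (core_ne_bot T) T.comp

theorem card_lt (h : MinCex G) {x a : G} {L : Subgroup G} (T : IsTriple x a L) :
    Nat.card ↥L < Nat.card ↥(Fs G) := by
  refine lt_of_le_of_ne (Subgroup.card_le_of_le (le_fs h T)) fun he => ?_
  have h1 : L = Fs G := Subgroup.eq_of_le_of_card_ge (le_fs h T) he.ge
  have h2 : a ∈ centralizer (Fs G : Set G) := by
    rw [mem_centralizer_iff]
    intro y hy
    exact comm_c (T.comp.le (h1 ▸ hy))
  rw [centralizer_fs h, mem_bot] at h2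
  exact ne_one_of_order T.inva h2

end le

/-! ### quasisimplicity of `L / O(L)` -/

theorem quasisimple {G : Type u} [Group G] [Finite G] {H L : Subgroup G} (hL : IsComp H L) :
    IsQuasisimple (Bar L) := (isComp_iff.mp hL).2.2.1

theorem oddCore_bar {G : Type u} [Group G] [Finite G] (L : Subgroup G) : oddCore (Bar L) = ⊥ := by
  have h2 : Fact (Nat.Prime 2) := ⟨Nat.prime_two⟩
  exact Lib.Cores.pPrimeCore_quotient_pPrimeCore (G := ↥L) 2

theorem center_two {G : Type u} [Group G] [Finite G] (L : Subgroup G) : IsPGroup 2 ↥(center (Bar L)) :=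
  isPGroup_center (oddCore_bar L)

theorem not_comm_of_quasisimple {M : Type u} [Group M] (hq : IsQuasisimple M) :
    ¬ IsMulCommutative (M ⧸ center M) := by
  intro hcm
  have h11 : commutator M ≤ center M := by
    rw [commutator_def, commutator_le]
    intro a _ b _
    have h12 : (QuotientGroup.mk ⁅a, b⁆ : M ⧸ center M) = 1 := by
      have : (QuotientGroup.mk ⁅a, b⁆ : M ⧸ center M) =
        ⁅(QuotientGroup.mk a : M ⧸ center M), QuotientGroup.mk b⁆ := rfl
      rw [this, commutatorElement_eq_one_iff_mul_comm]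
      exact hcm.is_comm.comm _ _
    exact (QuotientGroup.eq_one_iff _).mp h12
  rw [hq.1.commutator_eq_top, top_le_iff] at h11
  have h12 := hq.2.toNontrivial
  have h13 : Subsingleton (M ⧸ center M) := ⟨fun a b => by
    obtain ⟨a, rfl⟩ := QuotientGroup.mk_surjective a
    obtain ⟨b, rfl⟩ := QuotientGroup.mk_surjective b
    rw [QuotientGroup.eq, h11]
    exact mem_top _⟩
  exact not_subsingleton _ h13

/-! ### the pair on `L / O(L)` -/

/-- the pair `(τ, D)` of a triple; `D` centralizes the centre of `L / O(L)`. -/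
theorem exists_image' {G : Type u} [Group G] [Finite G] {x a : G} {L : Subgroup G} (T : IsTriple x a L) :
    ∃ (τ : MulAut (Bar L)) (D : Subgroup (MulAut (Bar L))),
      τ = act L ⟨x, T.x_mem⟩ ∧ τ * τ = 1 ∧ τ ≠ 1 ∧ Odd (Nat.card D) ∧ D ≠ ⊥ ∧
      (∀ δ ∈ D, δ * τ = τ * δ) ∧
      (∀ k : Bar L, τ k = k → ∀ δ ∈ D, MulAut.conj k * δ * (MulAut.conj k)⁻¹ ∈ D) ∧
      (∀ z ∈ center (Bar L), ∀ δ ∈ D, δ z = z) ∧
      (∀ δ ∈ D, ∃ (d : G) (hd : d ∈ normalizer (L : Set G)), d ∈ DC x a ∧ δ = act L ⟨d, hd⟩) := by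
  have hx2 := sq_of_order T.invx
  have hxN := T.x_mem
  have hDN : ∀ d ∈ DC x a, d ∈ normalizer (L : Set G) := fun d hd =>
    T.mem_normalizer_of_core (mem_inf.mp hd).1 (mem_inf.mp hd).2
  obtain ⟨τ, hτ⟩ : ∃ τ, τ = act L ⟨x, T.x_mem⟩ := ⟨_, rfl⟩
  obtain ⟨D, hD⟩ : ∃ D : Subgroup (MulAut (Bar L)), D = ((DC x a).subgroupOf
    (normalizer (L : Set G))).map (act L) := ⟨_, rfl⟩
  have hmem : ∀ δ, δ ∈ D ↔ ∃ (d : G) (hd : d ∈ DC x a), δ = act L ⟨d, hDN d hd⟩ := by
    intro δ
    rw [hD]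
    constructor
    · rintro ⟨y, hy, rfl⟩
      exact ⟨y, hy, rfl⟩
    · rintro ⟨d, hd, rfl⟩
      exact ⟨⟨d, hDN d hd⟩, hd, rfl⟩
  have hττ : τ * τ = 1 := by
    rw [hτ, ← map_mul, ← map_one (act L)]
    congr 1
    exact Subtype.ext hx2
  have hDodd : Odd (Nat.card D) := by
    rw [hD]
    refine Odd.of_dvd_nat (odd_DC x a) ((Subgroup.card_map_dvd _ _).trans ?_)
    rw [Nat.card_congr (subgroupOfEquivOfLe (H := DC x a) (K := normalizer (L : Set G)) hDN).toEquiv]
  have hcomm : ∀ δ ∈ D, δ * τ = τ * δ := by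
    intro δ hδ
    obtain ⟨d, hd, rfl⟩ := (hmem δ).mp hδ
    rw [hτ, ← map_mul, ← map_mul]
    congr 1
    exact Subtype.ext (comm_c (core_le _ (mem_inf.mp hd).1))
  -- lifting of fixed points
  have hlift : ∀ k : Bar L, τ k = k → ∃ (n : G) (hn : n ∈ L), k = QuotientGroup.mk ⟨n, hn⟩ ∧
      n * x = x * n := by
    intro k hk
    obtain ⟨⟨n0, hn0⟩, rfl⟩ := QuotientGroup.mk_surjective k
    rw [hτ, act_mk hxN hn0] at hk
    have h1 := (mk_eq_iff hn0 (Cfsg.Agent.McLLyComp.Act.conj_mem hxN hn0)).mp hk.symm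
    obtain ⟨o, ho, hxo⟩ := Intrinsic.Lifting.exists_commute (n := 1) (odd_card_core L)
      (by rw [pow_one, pow_two, hx2]) (normalizer_le_normalizer_core L hxN) h1
    have hoL := core_le L ho
    have hnL : n0 * o ∈ L := mul_mem hn0 hoL
    refine ⟨n0 * o, hnL, ?_, hxo.symm⟩
    rw [mk_eq_iff hn0 hnL]
    convert ho using 1
    group
  refine ⟨τ, D, hτ, hττ, ?_, hDodd, ?_, hcomm, ?_, ?_, ?_⟩
  · rw [hτ]
    exact fun h => T.not_fixes ((act_eq_one_iff _).mp h)
  · intro hbot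
    obtain ⟨d, hd, hda, hf⟩ := T.bad
    apply hf
    have h1 : act L ⟨d, hDN d (mem_inf.mpr ⟨hd, hda⟩)⟩ ∈ D := (hmem _).mpr ⟨d, mem_inf.mpr ⟨hd, hda⟩, rfl⟩
    rw [hbot, mem_bot] at h1
    exact (act_eq_one_iff _).mp h1
  · intro k hk δ hδ
    obtain ⟨d, hd, rfl⟩ := (hmem δ).mp hδ
    obtain ⟨n, hnL, rfl, hnx⟩ := hlift k hk
    have hna : n * a = a * n := comm_c (T.comp.le hnL)
    have hd' := DC_norm hnx hna hd
    refine (hmem _).mpr ⟨_, hd', ?_⟩
    rw [← act_of_mem hnL, ← map_inv, ← map_mul, ← map_mul]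
    congr 1
  · -- `D` centralizes `Z(L / O(L))`
    have hfixed : ∀ z ∈ center (Bar L), τ z = z → ∀ δ ∈ D, δ z = z := by
      intro z hz hτz δ hδ
      obtain ⟨d, hd, rfl⟩ := (hmem δ).mp hδ
      obtain ⟨n, hnL, rfl, hnx⟩ := hlift z hτz
      have hna : n * a = a * n := comm_c (T.comp.le hnL)
      have h1 := DC_norm hnx hna (inv_mem hd)
      have hdn := hDN d hd
      have h2 : d * (n * d⁻¹ * n⁻¹) ∈ DC x a := mul_mem hd h1
      have h3 : d * (n * d⁻¹ * n⁻¹) ∈ L := by
        have h4 := mul_mem (Cfsg.Agent.McLLyComp.Act.conj_mem hdn hnL) (inv_mem hnL)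
        convert h4 using 1
        group
      obtain ⟨w, hw⟩ : ∃ w : Bar L, w = QuotientGroup.mk ⟨_, h3⟩ := ⟨_, rfl⟩
      have h4 : w = act L ⟨d, hdn⟩ (QuotientGroup.mk ⟨n, hnL⟩) * (QuotientGroup.mk ⟨n, hnL⟩)⁻¹ := by
        rw [hw, act_mk hdn hnL]
        change (QuotientGroup.mk _ : Bar L) = QuotientGroup.mk _
        congr 1
        apply Subtype.ext
        change d * (n * d⁻¹ * n⁻¹) = d * n * d⁻¹ * n⁻¹
        group
      have h5 : w ∈ center (Bar L) := by
        rw [h4]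
        exact mul_mem (map_mem_center _ hz) (inv_mem hz)
      have h6 : Odd (orderOf w) := by
        have h7 : orderOf w ∣ orderOf (⟨_, h3⟩ : ↥L) := by
          rw [hw]
          exact orderOf_map_dvd (QuotientGroup.mk' (oddCore ↥L)) _
        rw [Subgroup.orderOf_mk] at h7
        exact Odd.of_dvd_nat (odd_DC x a) (h7.trans (Subgroup.orderOf_dvd_natCard _ h2))
      have h7 : w = 1 := by
        obtain ⟨j, hj⟩ := center_two L ⟨w, h5⟩
        have hj' : w ^ 2 ^ j = 1 := congrArg Subtype.val hj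
        have h8 : (orderOf w).Coprime (2 ^ j) :=
          (Nat.coprime_comm.mp (Nat.coprime_two_left.mpr h6)).pow_right j
        exact orderOf_eq_one_iff.mp (h8.eq_one_of_dvd (orderOf_dvd_of_pow_eq_one hj'))
      rw [h4, mul_inv_eq_one] at h7
      exact h7
    intro z hz δ hδ
    have res : ∀ φ : MulAut (Bar L), ∃ f : ↥(center (Bar L)) →* ↥(center (Bar L)),
        ∀ c, (f c : Bar L) = φ c := fun φ =>
      ⟨{ toFun := fun c => ⟨φ c, map_mem_center φ c.2⟩
         map_one' := Subtype.ext (map_one φ)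
         map_mul' := fun a b => Subtype.ext (map_mul φ _ _) }, fun c => rfl⟩
    obtain ⟨f, hf⟩ := res δ
    obtain ⟨g, hg⟩ := res τ
    have hit : ∀ (m : ℕ) (c : ↥(center (Bar L))), ((f^[m] c : ↥(center (Bar L))) : Bar L) = (δ ^ m) (c : Bar L) := by
      intro m
      induction m with
      | zero => intro c; rfl
      | succ m ih =>
        intro c
        rw [Function.iterate_succ_apply, ih, hf, pow_succ, MulAut.mul_apply]
    have hm : Odd (orderOf δ) := Odd.of_dvd_nat hDodd (Subgroup.orderOf_dvd_natCard _ hδ)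
    have h1 := trivial_of_fixed' (A := ↥(center (Bar L)))
      (fun a b => Subtype.ext (mem_center_iff.mp b.2 a)) (center_two L) f g
      (fun c => Subtype.ext (by rw [hg, hg]; exact DFunLike.congr_fun hττ c.1))
      (fun c => Subtype.ext (by rw [hf, hg, hg, hf]; exact DFunLike.congr_fun (hcomm δ hδ) c.1)) hm
      (fun c => Subtype.ext (by rw [hit, pow_orderOf_eq_one, MulAut.one_apply]))
      (fun c hc => Subtype.ext (by
        rw [hf]
        exact hfixed c c.2 (by rw [← hg, hc]) δ hδ)) ⟨z, hz⟩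
    rw [← hf ⟨z, hz⟩, h1]
  · intro δ hδ
    obtain ⟨d, hd, rfl⟩ := (hmem δ).mp hδ
    exact ⟨d, hDN d hd, hd, rfl⟩

/-- a triple unbalances `K / Z(K)`, `K = L / O(L)`. -/
theorem not_balanced_bar {G : Type u} [Group G] [Finite G] {x a : G} {L : Subgroup G} (T : IsTriple x a L) :
    ¬ IsLocallyBalanced (Bar L ⧸ center (Bar L)) := by
  obtain ⟨τ, D, -, h1, h2, h3, h4, h5, h6, h7, -⟩ := exists_image' T
  exact not_balanced (quasisimple T.comp) h1 h2 h3 h4 h5 h6 h7

/-- **The type of a triple.** -/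
theorem inU_bar {G : Type u} [Group G] [Finite G] (h : MinCex G) {x a : G} {L : Subgroup G}
    (T : IsTriple x a L) : InU (Bar L ⧸ center (Bar L)) := by
  have hq := quasisimple T.comp
  have hs := hq.2
  have hna := not_comm_of_quasisimple hq
  have hcard : Nat.card (Bar L ⧸ center (Bar L)) < Nat.card ↥(Fs G) := by
    refine lt_of_le_of_lt ?_ (card_lt h T)
    refine le_trans (Nat.le_of_dvd Nat.card_pos (Subgroup.card_quotient_dvd_card _)) ?_
    exact Nat.le_of_dvd Nat.card_pos (Subgroup.card_quotient_dvd_card _)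
  rcases inU_or_locallyBalanced h.small hna hcard with h1 | h1
  · exact h1
  · exact absurd h1 (not_balanced_bar T)

end Cfsg.Agent.UGT.U2.TypeOf
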