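import Cfsg.Agent.UGT.U2.ReeAut
import Cfsg.Agent.UGT.EndJ1.Inner

/-!
# The small Ree groups are locally balanced
-/

set_option autoImplicit false

namespace Cfsg.Agent.UGT.U2.Ree

open Subgroup Cfsg
open Cfsg.Agent.LieRecognition Cfsg.Agent.LieRecognition.ReeAbs Cfsg.Agent.FixBN.ReeSplit
open Cfsg.Agent.UGT.EndJ1

universe u

theorem bal {F : Type*} [Field F] [Fintype F] {m : ℕ} (hm : 1 ≤ m) (hF : Fintype.card F = 3 ^ (2 * m + 1)) :
    Abs.Bal ↥(Cfsg.Lie.twistedG2 F (3 ^ m)) := by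
  classical
  have hchar := charP_three hF
  obtain ⟨U, h, n, D⟩ := Cfsg.Agent.ChevalleyStructure.Ree.Data.exists_data hF
  have hfin : Finite ↥(Cfsg.Lie.twistedG2 F (3 ^ m)) := ReeSylowThree.finite D
  obtain ⟨a, haH, ha1, ha2⟩ := Cfsg.Agent.S1157.exists_involution hF
  obtain ⟨⟨e⟩, hS⟩ := Cfsg.Agent.S1152.result hF a haH ha1 ha2
  have hcd := ReeCent.centData ha1 ha2 e ReePSL.klein
  have hL : IsSimpleGroup (Matrix.ProjectiveSpecialLinearGroup (Fin 2) F) := by
    apply Matrix.ProjectiveSpecialLinearGroup.rank_two_simple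
    rw [Nat.card_eq_fintype_card, hF]
    have : 3 ^ 3 ≤ 3 ^ (2 * m + 1) := Nat.pow_le_pow_right (by norm_num) (by omega)
    omega
  have hconj : ∀ u : ↥(Cfsg.Lie.twistedG2 F (3 ^ m)), u ≠ 1 → u * u = 1 → ∃ c, c * a * c⁻¹ = u :=
    fun u hu1 hu2 => ReeInv.isConj_involution hcd ReePSL.klein (Cfsg.Agent.S1116.result hF hm) hS hu1 hu2
  have ht2 : h (-1) * h (-1) = 1 := by
    rw [← D.h_mul, neg_mul_neg, mul_one, D.h_one]
  have ht1 : h (-1) ≠ 1 := by
    intro h1
    rw [← D.h_one] at h1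
    have h2 := congrArg Units.val (h_inj D h1)
    rw [Units.val_neg, Units.val_one] at h2
    have h30 : (3 : F) = 0 := by exact_mod_cast CharP.cast_eq_zero F 3
    have h3 : (1 : F) = 0 := by linear_combination h2 + h30
    exact one_ne_zero h3
  refine ⟨hfin, hS, ?_, ?_⟩
  · intro u hu2 hu1 N hN hn ho
    obtain ⟨c, rfl⟩ := hconj u hu1 hu2
    let f : Multiplicative (ZMod 2) × Matrix.ProjectiveSpecialLinearGroup (Fin 2) F →*
        ↥(Cfsg.Lie.twistedG2 F (3 ^ m)) :=
      (MulAut.conj c).toMonoidHom.comp ((centralizer {a}).subtype.comp e.symm.toMonoidHom)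
    have hf : ∀ w, f w = c * (e.symm w : ↥(Cfsg.Lie.twistedG2 F (3 ^ m))) * c⁻¹ := fun w => rfl
    have hfi : Function.Injective f :=
      (MulAut.conj c).injective.comp ((centralizer {a}).subtype_injective.comp e.symm.injective)
    have hfc : ∀ w, f w ∈ centralizer ({c * a * c⁻¹} : Set ↥(Cfsg.Lie.twistedG2 F (3 ^ m))) := by
      intro w
      rw [mem_centralizer_singleton_iff, hf]
      have h1 := mem_centralizer_singleton_iff.1 (e.symm w).2
      calc c * (e.symm w : ↥(Cfsg.Lie.twistedG2 F (3 ^ m))) * c⁻¹ * (c * a * c⁻¹)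
          = c * ((e.symm w : ↥(Cfsg.Lie.twistedG2 F (3 ^ m))) * a) * c⁻¹ := by group
        _ = c * (a * (e.symm w : ↥(Cfsg.Lie.twistedG2 F (3 ^ m)))) * c⁻¹ := by rw [h1]
        _ = _ := by group
    have hW := Cfsg.Agent.FixBN.RankOneRee.odd_normal_prod (Cfsg.Agent.FixBN.RankOneRee.even_card_psl hF)
      (N.comap f) ⟨fun w hw g => by
        rw [mem_comap] at hw ⊢
        rw [map_mul, map_mul, map_inv]
        exact hn _ (hfc g) _ hw⟩ (by
        have h1 : Nat.card (N.comap f) = Nat.card ((N.comap f).map f) := (card_map_of_injective hfi).symm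
        rw [h1]
        exact ho.of_dvd_nat (card_dvd_of_le (map_comap_le _ _)))
    rw [eq_bot_iff]
    intro x hx
    have h1 : c⁻¹ * x * c ∈ centralizer ({a} : Set ↥(Cfsg.Lie.twistedG2 F (3 ^ m))) := by
      have h2 := mem_centralizer_singleton_iff.1 (hN hx)
      rw [mem_centralizer_singleton_iff]
      calc c⁻¹ * x * c * a = c⁻¹ * (x * (c * a * c⁻¹)) * c := by group
        _ = c⁻¹ * (c * a * c⁻¹ * x) * c := by rw [h2]
        _ = _ := by group
    have h2 : f (e ⟨_, h1⟩) = x := by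
      rw [hf, e.symm_apply_apply]
      group
    have h3 : e ⟨_, h1⟩ ∈ N.comap f := by
      rw [mem_comap, h2]
      exact hx
    rw [hW, mem_bot] at h3
    rw [mem_bot, ← h2, h3, map_one]
  · intro u hu2 hu1 α ho hfix
    obtain ⟨c, hc⟩ := hconj u hu1 hu2
    obtain ⟨d, hd⟩ := hconj _ ht1 ht2
    -- `u = g t g⁻¹`
    obtain ⟨g, hg⟩ : ∃ g, g * h (-1) * g⁻¹ = u := ⟨c * d⁻¹, by rw [← hd, ← hc]; group⟩
    have h1 : (MulAut.conj g)⁻¹ * α * MulAut.conj g = 1 := by
      refine ReeAut.aut_trivial hm hF D _ ?_ ?_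
      · have h2 : orderOf ((MulAut.conj g)⁻¹ * α * MulAut.conj g) = orderOf α := by
          have h3 := orderOf_injective (MulAut.conj (MulAut.conj g)⁻¹).toMonoidHom
            (MulAut.conj (MulAut.conj g)⁻¹).injective α
          rw [← h3]
          congr 1
        rw [h2]
        exact ho
      · intro x hx
        have h2 : α (g * x * g⁻¹) = g * x * g⁻¹ := by
          apply hfix
          rw [← hg]
          calc g * x * g⁻¹ * (g * h (-1) * g⁻¹) = g * (x * h (-1)) * g⁻¹ := by group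
            _ = g * (h (-1) * x) * g⁻¹ := by rw [hx]
            _ = _ := by group
        rw [MulAut.mul_apply, MulAut.mul_apply, MulAut.conj_apply, h2, ← map_inv, MulAut.conj_apply]
        group
    calc α = MulAut.conj g * ((MulAut.conj g)⁻¹ * α * MulAut.conj g) * (MulAut.conj g)⁻¹ := by group
      _ = 1 := by rw [h1]; group

/-- **The small Ree groups are locally balanced.** -/
theorem locallyBalanced_ree {K : Type u} [Group K] (h : Lie.IsoRee K) : IsLocallyBalanced K := by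
  obtain ⟨F, _, _, m, hm, hF, ⟨e⟩⟩ := h
  obtain ⟨hs, hc⟩ := Cfsg.Agent.S1073.result hm hF
  have B := bal hm hF
  obtain ⟨h1, h2⟩ := Inner.autCoreFree hc B
  have hfin := B.fin
  have hfinK : Finite K := Finite.of_injective e e.injective
  refine (h1.congr e.symm).locallyBalanced ?_
  rw [eq_bot_iff]
  intro z hz
  have h3 : e z ∈ center ↥(Cfsg.Lie.twistedG2 F (3 ^ m)) := by
    rw [mem_center_iff] at hz ⊢
    intro x
    obtain ⟨y, rfl⟩ := e.surjective x
    rw [← map_mul, ← map_mul, hz]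
  rw [h2, mem_bot] at h3
  rw [mem_bot]
  exact e.injective (by rw [h3, map_one])

end Cfsg.Agent.UGT.U2.Ree
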