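import Cfsg.Agent.UGT.U2.Lift
import Cfsg.Agent.UGT.U2.TypeOf
import Cfsg.Agent.OddHalf.Stmts
import Cfsg.Agent.UGT.End.MEleven

/-!
# No frames in a minimal counterexample (step (N) of node U2)

`G` a minimal counterexample to S1311.

* `not_qsl` : no involution `z` lies in a 2-component `K` of `C(z)` with `K / O(K) ≃ SL₂(F)`.
* `hasB` : the 2-components of `C(S)`, `S` a nonempty set of commuting involutions, have the B-property mod core.
* `no_family` : Theorem X.
* `not_frame` : `D` a 2-component of `C(z)`, `z ∈ D` an involution: there is no frame of `D / O(D)` for `z`.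
* `not_even` : the same with `FrameFact`: `D / O(D)` is not of large Lie type if `z` is even in `D / O(D)`.
-/

set_option autoImplicit false

open Cfsg Subgroup
open Cfsg.Agent.SignalizersComponents Cfsg.Agent.Lib
open Cfsg.Agent.Intrinsic.Basic
open Cfsg.Agent.FixBN.BTheorem Cfsg.Agent.FixBN.BRelative
open Cfsg.Agent.UGT.Iface
open Cfsg.Agent.UGT.Trich (normal_fs centralizer_fs)
open Cfsg.Agent.UGT.U2.ThmX Cfsg.Agent.UGT.U2.ThmXQ
open Cfsg.Agent.OddHalf (Stmts.P1310)
open Cfsg.Agent.OddHalf.NI (Frame FrameFact Even8 LieBig)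

namespace Cfsg.Agent.UGT.U2.World

universe u

local notation "Fs" => generalizedFittingSubgroup

variable {G : Type u} [Group G] [Finite G]

/-- every 2-component of every subgroup lies in `F*(G)` -/
theorem le_fs (h : MinCex G) {H L : Subgroup G} (hL : IsComp H L) : L ≤ Fs G := by
  obtain ⟨x, hx, hO⟩ := h.unbal
  exact TypeOf.le_fs_of_core h hx hO hL

theorem card_lt (h : MinCex G) {s : G} (hs : orderOf s = 2) {H L : Subgroup G} (hL : IsComp H L)
    (hsL : ∀ x ∈ L, s * x = x * s) : Nat.card ↥L < Nat.card ↥(Fs G) := by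
  refine lt_of_le_of_ne (Subgroup.card_le_of_le (le_fs h hL)) fun he => ?_
  have h1 : L = Fs G := Subgroup.eq_of_le_of_card_ge (le_fs h hL) he.ge
  have h2 : s ∈ centralizer (Fs G : Set G) := by
    rw [mem_centralizer_iff]
    intro y hy
    exact (hsL y (h1 ▸ hy)).symm
  rw [centralizer_fs h, mem_bot] at h2
  exact ne_one_of_order hs h2

theorem hasStrongB (h : MinCex G) (hk : Known.{u}) {s : G} (hs : orderOf s = 2) {H L : Subgroup G}
    (hL : IsComp H L) (hsL : ∀ x ∈ L, s * x = x * s) : HasStrongBProperty (Bar L) := by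
  refine hasStrongB_of_card_lt h.small hk (lt_of_le_of_lt ?_ (card_lt h hs hL hsL))
  exact Nat.le_of_dvd Nat.card_pos (Subgroup.card_quotient_dvd_card _)

/-- the B-property of `D / O(D)` -/
theorem hasB (h : MinCex G) (hk : Known.{u}) (S : Set G) (D : Subgroup G) (hS : S.Nonempty) (hSI : CInv S)
    (hD : IsComp (centralizer S) D) : HasBProperty (Bar D) := by
  obtain ⟨s, hs⟩ := hS
  have hsD : ∀ x ∈ D, s * x = x * s := fun x hx => mem_centralizer_iff.mp (hD.le hx) s hs
  refine hasB_of_lt h.small hk (isComposition_of_isKGroupWith (isKGroupWith_of_card_lt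
    (lt_of_le_of_lt ?_ (card_lt h (hSI.ord s hs) hD hsD))))
  exact Nat.le_of_dvd Nat.card_pos (Subgroup.card_quotient_dvd_card _)

/-- no classical involutions -/
theorem not_qsl (P : Stmts.P1310.{u}) (h : MinCex G) {F : Type} [Field F] [Fintype F]
    (hF : Odd (Fintype.card F)) {z : G} {K : Subgroup G} (hz : orderOf z = 2) (hzK : z ∈ K)
    (hQ : QSL F K) : ¬ IsComp (centralizer ({z} : Set G)) K := by
  intro hK
  obtain ⟨t, ht, hO⟩ := h.unbal
  rcases P h.simple h.nonab z hz K hK.le hzK (isComp_iff.mp hK).2.1 (Or.inl ⟨F, _, _, hF, hQ⟩) with h1 | h1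
  · exact h.notU (Or.inl h1)
  · exact hO (UGT.End.MEleven.core_eq_bot h1 t ht)

/-- the same for `2.A₇` -/
theorem not_cover (P : Stmts.P1310.{u}) (h : MinCex G) {z : G} {K : Subgroup G} (hz : orderOf z = 2)
    (hzK : z ∈ K) (hQ : IsNonsplitDoubleCover (Bar K) ↥(alternatingGroup (Fin 7))) :
    ¬ IsComp (centralizer ({z} : Set G)) K := by
  intro hK
  obtain ⟨t, ht, hO⟩ := h.unbal
  rcases P h.simple h.nonab z hz K hK.le hzK (isComp_iff.mp hK).2.1 (Or.inr hQ) with h1 | h1
  · exact h.notU (Or.inl h1)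
  · exact hO (UGT.End.MEleven.core_eq_bot h1 t ht)

/-- The two inputs of Theorem X: (F2') on quasisimple groups and Solomon's configuration, for one `S7` (which may
depend on `F`). -/
structure Inputs (S7 : ∀ (F : Type) [Field F] [Fintype F] (N : Type u) [Group N],
    N → N → Subgroup N → Subgroup N → Subgroup N → Prop) : Prop where
  f2 : ∀ (F : Type) [Field F] [Fintype F], Odd (Fintype.card F) → 3 < Fintype.card F → F2N F (S7 F)
  sol : ∀ (G : Type u) [Group G] [Finite G] (F : Type) [Field F] [Fintype F], Odd (Fintype.card F) →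
    3 < Fintype.card F → Sol (G := G) (PN F (S7 F))

variable {S7 : ∀ (F : Type) [Field F] [Fintype F] (N : Type u) [Group N],
  N → N → Subgroup N → Subgroup N → Subgroup N → Prop}

/-- **THEOREM X** in a minimal counterexample. -/
theorem no_family (P : Stmts.P1310.{u}) (hk : Known.{u}) (hI : Inputs.{u} S7) (h : MinCex G) {F : Type}
    [Field F] [Fintype F] (hF : Odd (Fintype.card F)) (hF3 : 3 < Fintype.card F) (R : Finset G)
    (hne : R.Nonempty) (hR : CInv (R : Set G))
    (hK : ∀ a ∈ R, ∃ K : Subgroup G, IsComp (centralizer (R : Set G)) K ∧ a ∈ K ∧ QSL F K)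
    (h3 : ∀ a ∈ R, ∀ b ∈ R, ∀ c ∈ R, a ≠ b → a ≠ c → b ≠ c → a * b ≠ c) : False :=
  false_of_set hF (hI.f2 F hF hF3) (hI.sol G F hF hF3) (hasB h hk)
    (fun _ _ hz hzK hQ => not_qsl P h hF hz hzK hQ) R hne hR hK h3

/-- **(N)**: there is no frame for `z` in `D / O(D)`, `z ∈ D` an involution, `D` a 2-component of `C(z)`. -/
theorem not_frame (P : Stmts.P1310.{u}) (hk : Known.{u}) (hI : Inputs.{u} S7) (h : MinCex G) {z : G}
    (hz : orderOf z = 2) {D : Subgroup G} (hD : IsComp (centralizer ({z} : Set G)) D) (hzD : z ∈ D) :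
    ¬ Nonempty (Frame (Bar D) (QuotientGroup.mk ⟨z, hzD⟩)) := by
  rintro ⟨f⟩
  let _ := f.field
  let _ := f.fin
  obtain ⟨R, hne, hR, hK, h3⟩ := Lift.exists_family hz hD hzD f
  exact false_of_set f.odd (hI.f2 f.F f.odd f.card) (hI.sol G f.F f.odd f.card) (hasB h hk)
    (fun z K hz hzK hQ => not_qsl P h f.odd hz hzK hQ) R hne hR hK h3

/-- **(N)** with the type fact (T'). -/
theorem not_even (P : Stmts.P1310.{u}) (hk : Known.{u}) (hI : Inputs.{u} S7) (hFF : FrameFact.{u})
    (h : MinCex G) {z : G} (hz : orderOf z = 2) {D : Subgroup G}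
    (hD : IsComp (centralizer ({z} : Set G)) D) (hzD : z ∈ D)
    (he : Even8 (QuotientGroup.mk ⟨z, hzD⟩ : Bar D)) : ¬ LieBig (Bar D ⧸ center (Bar D)) := by
  intro hL
  refine not_frame P hk hI h hz hD hzD (hFF (Bar D) (TypeOf.quasisimple hD) (TypeOf.center_two D) hL _ ?_ he)
  exact mk_mem_center hzD (fun x hx => (mem_centralizer_singleton_iff.mp (hD.le hx)).symm)

end Cfsg.Agent.UGT.U2.World
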