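import Cfsg.Agent.UGT.U2.Covers
import Cfsg.Agent.UGT.Nodes
import Cfsg.Agent.UGT.InUList
import Cfsg.Agent.OddHalf.Stmts

/-!
# Node U2: the cut

* `RowLie`: no triple `(x, a, L)` with `L / O(L)` of Lie type in odd characteristic (mod centre), not `PSL₂(q)`.
* `P34`: no triple `(x, c, M)`, `c ∈ M`, with `M / Z*(M) = PSL₃(4)` (literally `I34.Main.P34T`).
* `false_of_mem`: with S1310, S1738 and the ends `M₁₁`, `Ly`: no triple `(x, c, M)` with `c ∈ M`.
* `center_bot`: `L / O(L)` is simple for all triples.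
* `nodeU2`, `nodeCov`.
-/

set_option autoImplicit false

open Cfsg Subgroup
open Cfsg.Agent.SignalizersComponents Cfsg.Agent.Lib
open Cfsg.Agent.SignalizersComponents.PLayerAut
open Cfsg.Agent.Intrinsic.Basic
open Cfsg.Agent.FixBN.BTheorem Cfsg.Agent.FixBN.BRelative
open Cfsg.Agent.UGT.Triple Cfsg.Agent.UGT.Iface
open Cfsg.Agent.UGT.Nodes (NodeCov Types IsCov)
open Cfsg.Agent.UGT.InUList (Excl)
open Cfsg.Agent.UGT.U2.AutBar Cfsg.Agent.UGT.U2.TypeOf Cfsg.Agent.UGT.U2.ToIntr Cfsg.Agent.UGT.U2.Covers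

namespace Cfsg.Agent.UGT.U2.Cut

universe u

local notation "Fs" => generalizedFittingSubgroup

/-- the rows of Lie type of rank at least 2 (and `²G₂`) -/
def RowLie : Prop := ∀ (G : Type u) [Group G] [Finite G], MinCex G →
  ∀ (x a : G) (L : Subgroup G), IsTriple x a L →
    (∃ p : ℕ, p.Prime ∧ p ≠ 2 ∧ IsLieTypeChar p (Bar L ⧸ center (Bar L))) →
    ¬ IsL2 (Bar L ⧸ center (Bar L)) → False

/-- no intrinsic triple with quotient `PSL₃(4)` -/
def P34 : Prop := ∀ (G : Type u) [Group G] [Finite G], MinCex G →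
  ∀ (x c : G) (M : Subgroup G), IsTriple x c M → c ∈ M → ¬ IsL34 (Bar M ⧸ center (Bar M))

/-- `O(G) = 1` for a minimal counterexample with a triple -/
theorem oddCore_eq_bot {G : Type u} [Group G] [Finite G] (h : MinCex G) {x a : G} {L : Subgroup G}
    (T : IsTriple x a L) : oddCore G = ⊥ := by
  have hs := h.simple
  have hXn : (Fs G).Normal := Trich.normal_fs
  have hOn : (oddCore G).Normal := Lib.Cores.pPrimeCore_normal 2
  have hodd : Odd (Nat.card ↥(oddCore G)) :=
    Nat.coprime_two_right.mp (Lib.Cores.pPrimeCore_coprime (G := G) 2)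
  have hn : ((oddCore G).subgroupOf (Fs G)).Normal := hOn.comap _
  rcases hn.eq_bot_or_eq_top with h1 | h1
  · -- `O(G)` centralizes `F*(G)`
    have hdis : ∀ g ∈ oddCore G, g ∈ Fs G → g = 1 := by
      intro g hg hf
      have h2 : (⟨g, hf⟩ : ↥(Fs G)) ∈ (oddCore G).subgroupOf (Fs G) := hg
      rw [h1, mem_bot] at h2
      exact congrArg Subtype.val h2
    have h2 : oddCore G ≤ centralizer (Fs G : Set G) := by
      intro o ho
      rw [mem_centralizer_iff]
      intro f hf
      have h3 : o * f * o⁻¹ * f⁻¹ ∈ oddCore G := by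
        have h4 : f * o⁻¹ * f⁻¹ ∈ oddCore G := hOn.conj_mem _ (inv_mem ho) f
        have h5 := mul_mem ho h4
        convert h5 using 1
        group
      have h6 := hdis _ h3 (mul_mem (hXn.conj_mem _ hf o) (inv_mem hf))
      rw [mul_inv_eq_one, mul_inv_eq_iff_eq_mul] at h6
      exact h6.symm
    rw [Trich.centralizer_fs h] at h2
    exact le_bot_iff.mp h2
  · exact absurd ((le_fs h T).trans (Subgroup.subgroupOf_eq_top.mp h1)) (T.comp.not_odd hodd)

/-- `G` is not a minimal counterexample if `F*(G)` is quasisimple with a 2-component `M ∋ c` of type `2.Aₙ`. -/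
theorem false_of_mem (h1310 : OddHalf.Stmts.P1310.{u}) (h1738 : OddHalf.Stmts.P1738.{u})
    (hM11 : Excl.{u} (fun X _ => Spor.IsoM11 X)) (hLy : Excl.{u} (fun X _ => Spor.IsoLy X))
    (hLie : RowLie.{u}) (h34 : P34.{u}) {G : Type u} [Group G] [Finite G] (h : MinCex G) {x c : G}
    {M : Subgroup G} (T : IsTriple x c M) (hcM : c ∈ M) : False := by
  have hq := quasisimple T.comp
  obtain ⟨hc1, hc2⟩ := center_ne_bot T.inva T.comp hcM
  have hp : commutator (Bar M) = ⊤ := hq.1.commutator_eq_top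
  have hne : center (Bar M) ≠ ⊥ := by
    intro h0
    rw [h0, mem_bot] at hc1
    exact hc2 hc1
  have hsub := (isComp_iff.mp T.comp).2.1
  have use1310 : ((∃ (F : Type) (_ : Field F) (_ : Fintype F), Odd (Fintype.card F) ∧
      Nonempty (↥M ⧸ oddCore ↥M ≃* Matrix.SpecialLinearGroup (Fin 2) F)) ∨
        IsNonsplitDoubleCover (↥M ⧸ oddCore ↥M) ↥(alternatingGroup (Fin 7))) → False := by
    intro hJ
    rcases h1310 h.simple h.nonab c T.inva M T.comp.le hcM hsub hJ with h1 | h1
    · exact h.notU (Or.inl h1)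
    · exact hM11 G h h1
  rcases Covers.cases hq (center_two M) (inU_bar h T) with h1 | h1 | h1 | h1 | h1 | h1 | h1
  · exact hne (center_L2 hp h1)
  · obtain ⟨F, i1, i2, ho, -, e⟩ := h1
    exact use1310 (Or.inl ⟨F, i1, i2, ho, e⟩)
  · exact hne (center_alt hp h1)
  · obtain ⟨n, hn, h7, hcov⟩ := h1
    rcases h7.eq_or_lt with rfl | h8
    · exact use1310 (Or.inr hcov)
    · -- S1738
      have hK : IsPComponent 2 (M.subgroupOf (centralizer ({c} : Set G))) := T.comp.2
      obtain ⟨e⟩ : Nonempty (↥(M.subgroupOf (centralizer ({c} : Set G))) ⧸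
          oddCore ↥(M.subgroupOf (centralizer ({c} : Set G))) ≃* Bar M) :=
        ⟨QuotientGroup.congr _ _ (subgroupOfEquivOfLe T.comp.le) (Lib.Cores.map_equiv_pPrimeCore _ 2)⟩
      have h9 := h1738 (oddCore_eq_bot h T)
        (SignalizersComponents.IntrinsicDiag.quasisimple_of_simple h.simple h.nonab) c T.inva
        (M.subgroupOf (centralizer ({c} : Set G))) hK
        ⟨⟨c, T.comp.le hcM⟩, hcM, rfl⟩ n (by omega) (cover_congr e.symm hcov)
      rcases h9 with h9 | ⟨rfl, -⟩ | ⟨-, h9⟩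
      · have h10 := h9.1
        rw [@center_eq_bot _ _ h.simple h.nonab] at h10
        simp at h10
      · exact absurd hn (by decide)
      · exact hLy G h h9
  · exact h34 G h x c M T hcM h1
  · exact hne (center_he hp h1)
  · exact hLie G h x c M T h1.1 h1.2

theorem neg_one_ne {F : Type} [Field F] [Fintype F] (ho : Odd (Fintype.card F)) :
    (-1 : Matrix.SpecialLinearGroup (Fin 2) F) ≠ 1 := by
  intro h
  have h1 := congrArg (fun g : Matrix.SpecialLinearGroup (Fin 2) F => (g : Matrix (Fin 2) (Fin 2) F) 0 0) h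
  simp at h1
  have h2 : (2 : F) = 0 := by
    have h3 : (1 : F) + 1 = 0 := by
      nth_rewrite 1 [← h1]
      ring
    rw [← h3]; norm_num
  exact TwoFusion.QuatCoverSL.two_ne_zero_of_odd ho h2

section main

variable (h1310 : OddHalf.Stmts.P1310.{u}) (h1738 : OddHalf.Stmts.P1738.{u})
  (hM11 : Excl.{u} (fun X _ => Spor.IsoM11 X)) (hLy : Excl.{u} (fun X _ => Spor.IsoLy X))
  (hLie : RowLie.{u}) (h34 : P34.{u})

include h1310 h1738 hM11 hLy hLie h34

/-- **`L / O(L)` is centreless for every triple.** -/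
theorem center_bot {G : Type u} [Group G] [Finite G] (h : MinCex G) {x a : G} {L : Subgroup G}
    (T : IsTriple x a L) : center (Bar L) = ⊥ := by
  by_contra hZ
  obtain ⟨c, b, M, J, O, -⟩ := exists_intrinsic T hZ
  exact false_of_mem h1310 h1738 hM11 hLy hLie h34 h O.top O.c_mem

/-- The type of a triple: `PSL₂(q)`, `Aₙ`, `PSL₃(4)` or `He`; `L / O(L)` is simple. -/
theorem types {G : Type u} [Group G] [Finite G] (h : MinCex G) {x a : G} {L : Subgroup G}
    (T : IsTriple x a L) :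
    IsL2 (Bar L) ∨ IsAltOdd (Bar L) ∨ (IsL34 (Bar L ⧸ center (Bar L)) ∧ center (Bar L) = ⊥) ∨
      Spor.IsoHe (Bar L) := by
  have hZ := center_bot h1310 h1738 hM11 hLy hLie h34 h T
  have h5 : 5 ≤ 7 := by norm_num
  rcases Covers.cases (quasisimple T.comp) (center_two L) (inU_bar h T) with h1 | h1 | h1 | h1 | h1 | h1 | h1
  · exact Or.inl h1
  · exfalso
    obtain ⟨F, i1, i2, ho, hF, ⟨e⟩⟩ := h1
    have h2 := center_congr e.symm hZ
    have h3 : (-1 : Matrix.SpecialLinearGroup (Fin 2) F) ∈ center (Matrix.SpecialLinearGroup (Fin 2) F) := by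
      rw [mem_center_iff]
      intro g
      rw [mul_neg, neg_mul, mul_one, one_mul]
    rw [h2, mem_bot] at h3
    exact neg_one_ne ho h3
  · exact Or.inr (Or.inl h1)
  · exfalso
    obtain ⟨n, -, -, hcov⟩ := h1
    have h2 := hcov.1
    rw [hZ] at h2
    simp at h2
  · exact Or.inr (Or.inr (Or.inl ⟨h1, hZ⟩))
  · exact Or.inr (Or.inr (Or.inr h1))
  · exact (hLie G h x a L T h1.1 h1.2).elim

/-- **Node U2.** -/
theorem nodeU2 : NodeU2.{u} := by
  intro G _ _ h x a L T
  rcases types h1310 h1738 hM11 hLy hLie h34 h T with h1 | h1 | h1 | h1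
  · exact Or.inl h1
  · exact Or.inr (Or.inl h1)
  · exact Or.inr (Or.inr (Or.inl h1.1))
  · exact Or.inr (Or.inr (Or.inr h1))

/-- **Node Cov.** -/
theorem nodeCov : NodeCov.{u} := by
  intro G _ _ h _ x a L T hcov
  exact hcov.2 (center_bot h1310 h1738 hM11 hLy hLie h34 h T)

end main

end Cfsg.Agent.UGT.U2.Cut
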