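import Cfsg.Agent.UGT.U2.ThmX
import Cfsg.Agent.UGT.Iface
import Cfsg.Agent.Lib.PSL2Inv
import Cfsg.Agent.ClassificationK.PCompTransport

/-!
# THEOREM X modulo cores, `Q K` : `K / O(K) ≃ SL₂(F)`, inputs on the quotients `D / O(D)` only

* `QSL F K` : `K / O(K) ≃ SL₂(F)`.
* `F2N F S7` : (F2') for quasisimple `N` with `O(N) = 1` and the B-property.
* `PN S7 c d D A B B'` : `A ∋ c`, `B ∋ d`, `B' ∋ c d` 2-components of `C_D(d)` with `S7` in `D / O(D)`.
* `f2p_of_f2N` : `F2N F S7` gives (F2') modulo cores.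
* `false_of_set` : THEOREM X.
-/

set_option autoImplicit false

open Cfsg Subgroup
open Cfsg.Agent.SignalizersComponents Cfsg.Agent.Lib
open Cfsg.Agent.SignalizersComponents.IntrinsicBasic
open Cfsg.Agent.SignalizersComponents.IntrinsicIntr
open Cfsg.Agent.Intrinsic.Basic Cfsg.Agent.Intrinsic.Cen Cfsg.Agent.Intrinsic.Quot
open Cfsg.Agent.McLLyComp.Act
open Cfsg.Agent.UGT.Iface (Bar)
open scoped commutatorElement

namespace Cfsg.Agent.UGT.U2.ThmXQ

open Cfsg.Agent.UGT.U2.ThmX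

universe u

/-- `K / O(K) ≃ SL₂(F)` -/
def QSL (F : Type) [Field F] [Fintype F] {G : Type*} [Group G] (K : Subgroup G) : Prop :=
  Nonempty (Bar K ≃* Matrix.SpecialLinearGroup (Fin 2) F)

/-- **(F2')** for quasisimple core-free groups with the B-property -/
def F2N (F : Type) [Field F] [Fintype F]
    (S7 : ∀ (N : Type u) [Group N], N → N → Subgroup N → Subgroup N → Subgroup N → Prop) : Prop :=
  ∀ (N : Type u) [Group N] [Finite N], IsQuasisimple N → oddCore N = ⊥ → HasBProperty N →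
    ∀ (c d : N) (A B : Subgroup N), c ∈ center N → orderOf c = 2 → orderOf d = 2 → d ∉ center N →
      c ∈ A → d ∈ B → A ≠ B → IsComp (centralizer ({d} : Set N)) A → IsComp (centralizer ({d} : Set N)) B →
      QSL F A → QSL F B →
      ∃ A' : Subgroup N, IsComp (centralizer ({d} : Set N)) A' ∧ c * d ∈ A' ∧ QSL F A' ∧
        (∀ K : Subgroup N, IsComp (centralizer ({d} : Set N)) K → K = A ∨ K = B ∨ K = A') ∧
        S7 N c d A B A'

/-- the data `P` of Theorem X -/
structure PN {G : Type u} [Group G] (F : Type) [Field F] [Fintype F]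
    (S7 : ∀ (N : Type u) [Group N], N → N → Subgroup N → Subgroup N → Subgroup N → Prop)
    (c d : G) (D A B B' : Subgroup G) : Prop where
  memc : c ∈ A
  memd : d ∈ B
  memcd : c * d ∈ B'
  compA : IsComp (D ⊓ centralizer ({d} : Set G)) A
  compB : IsComp (D ⊓ centralizer ({d} : Set G)) B
  compB' : IsComp (D ⊓ centralizer ({d} : Set G)) B'
  qA : QSL F A
  qB : QSL F B
  qB' : QSL F B'
  all : ∀ K : Subgroup G, IsComp (D ⊓ centralizer ({d} : Set G)) K → K = A ∨ K = B ∨ K = B'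
  s7 : ∃ (hc : c ∈ D) (hd : d ∈ D), S7 (Bar D) (QuotientGroup.mk ⟨c, hc⟩) (QuotientGroup.mk ⟨d, hd⟩)
    (qs D A) (qs D B) (qs D B')

/-! ### Preliminaries -/

theorem two_ne_zero {F : Type} [Field F] [Fintype F] (hF : Odd (Fintype.card F)) : (2 : F) ≠ 0 := by
  intro h
  have h1 : ringChar F ≠ 2 := by
    intro h3
    have h4 := FiniteField.even_card_of_char_two h3
    rw [Nat.odd_iff] at hF
    omega
  apply h1
  have := ringChar.charP F
  have : ringChar F ∣ 2 := (CharP.cast_eq_zero_iff F (ringChar F) 2).mp (by exact_mod_cast h)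
  rcases (Nat.dvd_prime Nat.prime_two).mp this with h4 | h4
  · exfalso
    exact CharP.char_ne_one F (ringChar F) h4
  · exact h4

section

variable {F : Type} [Field F] [Fintype F]

/-- commuting involutions of `K`, `K / O(K) ≃ SL₂(F)`, are equal -/
theorem QSL.ui {G : Type*} [Group G] [Finite G] {K : Subgroup G} (hF : Odd (Fintype.card F)) (h : QSL F K) :
    UI K := by
  obtain ⟨e⟩ := h
  have key : ∀ x : G, ∀ hx : x ∈ K, orderOf x = 2 → e (QuotientGroup.mk ⟨x, hx⟩) = -1 := by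
    intro x hx ho
    have h1 : e (QuotientGroup.mk ⟨x, hx⟩) * e (QuotientGroup.mk ⟨x, hx⟩) = 1 := by
      rw [← map_mul, ← QuotientGroup.mk_mul]
      have h2 : (⟨x, hx⟩ * ⟨x, hx⟩ : ↥K) = 1 := Subtype.ext (sq_of_order ho)
      rw [h2, QuotientGroup.mk_one, map_one]
    rcases Lib.PSL2Inv.sq_eq_one (two_ne_zero hF) h1 with h2 | h2
    · exfalso
      rw [← map_one e] at h2
      have h3 := e.injective h2
      rw [Intrinsic.Quot.mk_eq_one_iff hx] at h3
      exact ne_one_of_order ho (eq_one_of_mem_core_sq h3 (sq_of_order ho))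
    · exact h2
  intro x hx y hy hox hoy hxy
  have h1 : e (QuotientGroup.mk ⟨x, hx⟩) = e (QuotientGroup.mk ⟨y, hy⟩) := by
    rw [key x hx hox, key y hy hoy]
  have h2 := (mk_eq_mk_iff' hx hy).mp (e.injective h1)
  have h3 : x⁻¹ * y = 1 := by
    refine eq_one_of_mem_core_sq h2 ?_
    have hx' : x⁻¹ = x := inv_eq_of_mul_eq_one_left (sq_of_order hox)
    rw [hx']
    calc x * y * (x * y) = x * (y * x) * y := by group
      _ = (x * x) * (y * y) := by rw [← hxy]; group
      _ = 1 := by rw [sq_of_order hox, sq_of_order hoy, one_mul]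
  exact (inv_mul_eq_one.mp h3)

theorem QSL.of_sup {G : Type*} [Group G] [Finite G] {K D : Subgroup G} (hs : K ⊔ core D = D) (h : QSL F K) :
    QSL F D := by
  obtain ⟨e⟩ := h
  obtain ⟨f, -⟩ := exists_quotEquiv hs
  exact ⟨f.symm.trans e⟩

theorem qsl_qs {G : Type*} [Group G] [Finite G] {M J : Subgroup G} (hJM : J ≤ M) : QSL F (qs M J) ↔ QSL F J := by
  obtain ⟨f, -⟩ := exists_qs_equiv hJM
  constructor
  · rintro ⟨e⟩; exact ⟨f.trans e⟩
  · rintro ⟨e⟩; exact ⟨f.symm.trans e⟩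

end

/-- the B-property: 2-components of `C(d)` are quasisimple -/
theorem quasisimple_of_B {N : Type*} [Group N] [Finite N] (hO : oddCore N = ⊥) (hB : HasBProperty N) {d : N}
    (hd : orderOf d = 2) {E : Subgroup N} (hE : IsComp (centralizer ({d} : Set N)) E) : IsQuasisimple ↥E := by
  have h0 : ⁅pLayer 2 ↥(centralizer ({d} : Set N)), oddCore ↥(centralizer ({d} : Set N))⁆ = ⊥ := by
    have h1 := hB d hd
    rw [hO, le_bot_iff, Subgroup.map_eq_bot_iff_of_injective _ (Subgroup.subtype_injective _)] at h1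
    exact h1
  have : Fact (Nat.Prime 2) := ⟨Nat.prime_two⟩
  have h1 : ⁅E.subgroupOf (centralizer ({d} : Set N)), pPrimeCore 2 ↥(centralizer ({d} : Set N))⁆ = ⊥ := by
    rw [eq_bot_iff, ← h0]
    exact commutator_mono (le_sSup (show _ ∈ {K | IsPComponent 2 K} from hE.2)) le_rfl
  have h2 := ClassificationK.PCompTransport.isComponent_of_isPComponent 2 hE.2 h1
  exact Components.isQuasisimple_of_mulEquiv (subgroupOfEquivOfLe hE.le) h2.2

variable {G : Type u} [Group G] [Finite G] {F : Type} [Field F] [Fintype F]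
  {S7 : ∀ (N : Type u) [Group N], N → N → Subgroup N → Subgroup N → Subgroup N → Prop}

omit [Finite G] in
theorem mk_mem_center {D : Subgroup G} {c : G} (hc : c ∈ D) (h : ∀ x ∈ D, c * x = x * c) :
    (QuotientGroup.mk ⟨c, hc⟩ : Bar D) ∈ center (Bar D) := by
  rw [mem_center_iff]
  intro g
  obtain ⟨⟨x, hx⟩, rfl⟩ := QuotientGroup.mk'_surjective (oddCore ↥D) g
  change (QuotientGroup.mk (⟨x, hx⟩ * ⟨c, hc⟩ : ↥D) : Bar D) = QuotientGroup.mk (⟨c, hc⟩ * ⟨x, hx⟩ : ↥D)
  congr 1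
  exact Subtype.ext (h x hx).symm

omit [Finite G] in
theorem fixes_of_mk_mem_center {D : Subgroup G} {d : G} (hd : d ∈ D)
    (h : (QuotientGroup.mk ⟨d, hd⟩ : Bar D) ∈ center (Bar D)) : Fixes d D := by
  rw [fixes_iff_conj]
  refine ⟨le_normalizer hd, fun y hy => ?_⟩
  have h1 := mem_center_iff.mp h (QuotientGroup.mk ⟨y, hy⟩)
  exact (mk_comm_iff hy hd).mp h1

theorem orderOf_mk {D : Subgroup G} {c : G} (hc : c ∈ D) (ho : orderOf c = 2) :
    orderOf (QuotientGroup.mk ⟨c, hc⟩ : Bar D) = 2 := by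
  refine orderOf_eq_prime ?_ ?_
  · rw [pow_two, ← QuotientGroup.mk_mul]
    have h2 : (⟨c, hc⟩ * ⟨c, hc⟩ : ↥D) = 1 := Subtype.ext (sq_of_order ho)
    rw [h2, QuotientGroup.mk_one]
  · intro h
    exact ne_one_of_order ho (eq_one_of_mem_core_sq ((Intrinsic.Quot.mk_eq_one_iff hc).mp h) (sq_of_order ho))

/-- (F2') modulo cores from (F2') on the quotients -/
theorem f2p_of_f2N (hF : Odd (Fintype.card F)) (h : F2N F S7)
    (hB : ∀ (S : Set G) (D : Subgroup G), S.Nonempty → CInv S → IsComp (centralizer S) D →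
      HasBProperty (Bar D)) :
    F2p (G := G) (QSL F) (PN F S7) := by
  intro S c d D A B hS hcS hcd hD hdD hdn hcA hdB hQA hQB hAB hA hB'
  have hSI : CInv S := hS.mono (Set.subset_insert d S)
  have hoc : orderOf c = 2 := hSI.ord c hcS
  have hod : orderOf d = 2 := hS.ord d (Set.mem_insert _ _)
  have hdd : d * d = 1 := sq_of_order hod
  have hcD : c ∈ D := (hA.le hcA).1
  have hcc : ∀ x ∈ D, c * x = x * c := fun x hx => mem_centralizer_iff.mp (hD.le hx) c hcS
  have hAD : A ≤ D := hA.le.trans inf_le_left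
  have hBD : B ≤ D := hB'.le.trans inf_le_left
  have hBN := hB S D ⟨c, hcS⟩ hSI hD
  have hON := oddCore_quot D
  have hne : qs D A ≠ qs D B := fun h => hAB (eq_of_qs_eq hdD hdd hA hB' h)
  have hod' := orderOf_mk hdD hod
  obtain ⟨E, hE, hcdE, hQE, hall, hS7⟩ := h (Bar D) (quasisimple_quot hD) hON hBN
    (QuotientGroup.mk ⟨c, hcD⟩) (QuotientGroup.mk ⟨d, hdD⟩) (qs D A) (qs D B) (mk_mem_center hcD hcc)
    (orderOf_mk hcD hoc) hod' (fun hc => hdn (fixes_of_mk_mem_center hdD hc)) (mk_mem_qs hcD hcA)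
    (mk_mem_qs hdD hdB) hne (isComp_qs hdD hdd hA) (isComp_qs hdD hdd hB') ((qsl_qs hAD).mpr hQA)
    ((qsl_qs hBD).mpr hQB)
  obtain ⟨Z, hZ, rfl⟩ := exists_lift_comp hdD hdd hE (quasisimple_of_B hON hBN hod' hE)
  have hZD : Z ≤ D := hZ.le.trans inf_le_left
  have hQZ : QSL F Z := (qsl_qs hZD).mp hQE
  have hcomm : c * d = d * c := hcc d hdD
  have hocd := order_mul hoc hod hcomm hcd
  have hcdZ : c * d ∈ Z := by
    have h1 : c * d ∈ centralizer ({d} : Set G) := by
      rw [mem_centralizer_singleton_iff, mul_assoc, hdd, mul_one, hcomm, ← mul_assoc, hdd, one_mul]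
    refine mem_of_mk_mem hdD hdd hZ (D.mul_mem hcD hdD) h1 (n := 1) ?_ hcdE
    rw [pow_one, ← hocd, pow_orderOf_eq_one]
  have hall' : ∀ K : Subgroup G, IsComp (D ⊓ centralizer ({d} : Set G)) K → K = A ∨ K = B ∨ K = Z := by
    intro K hK
    rcases hall _ (isComp_qs hdD hdd hK) with h1 | h1 | h1
    · exact Or.inl (eq_of_qs_eq hdD hdd hK hA h1)
    · exact Or.inr (Or.inl (eq_of_qs_eq hdD hdd hK hB' h1))
    · exact Or.inr (Or.inr (eq_of_qs_eq hdD hdd hK hZ h1))
  exact ⟨Z, hZ, hQZ.ui hF, hcdZ, hall',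
    { memc := hcA, memd := hdB, memcd := hcdZ, compA := hA, compB := hB', compB' := hZ, qA := hQA, qB := hQB,
      qB' := hQZ, all := hall', s7 := ⟨hcD, hdD, hS7⟩ }⟩

/-- **THEOREM X** modulo cores -/
theorem false_of_set (hF : Odd (Fintype.card F)) (h : F2N F S7) (hSol : Sol (G := G) (PN F S7))
    (hB : ∀ (S : Set G) (D : Subgroup G), S.Nonempty → CInv S → IsComp (centralizer S) D →
      HasBProperty (Bar D))
    (hcl : ∀ (z : G) (K : Subgroup G), orderOf z = 2 → z ∈ K → QSL F K →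
      ¬ IsComp (centralizer ({z} : Set G)) K)
    (R : Finset G) (hne : R.Nonempty) (hR : CInv (R : Set G))
    (hK : ∀ a ∈ R, ∃ K : Subgroup G, IsComp (centralizer (R : Set G)) K ∧ a ∈ K ∧ QSL F K)
    (h3 : ∀ a ∈ R, ∀ b ∈ R, ∀ c ∈ R, a ≠ b → a ≠ c → b ≠ c → a * b ≠ c) : False :=
  ThmX.false_of_set (fun _ hK => QSL.ui hF hK) (fun _ _ _ _ hs hK => QSL.of_sup hs hK) hcl
    (f2p_of_f2N hF h hB) hSol R hne hR hK h3

end Cfsg.Agent.UGT.U2.ThmXQ
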