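import Cfsg.Agent.UGT.U2.SolEnd
import Cfsg.Agent.UGT.U2.ThmXQ
import Cfsg.Agent.UGT.U2.TypeOf
import Cfsg.Agent.OddHalf.NI.SolTorThree
import Cfsg.Agent.SignalizersComponents.SLQuasisimple
import Cfsg.Agent.Lib.ComponentSolvable

/-!
# Solomon's configuration modulo cores: the input `Sol` of Theorem X

`SPOf F S7` : the frames (`SP`) of the groups with the property `S7`, for all torus data of `SL₂(F)`.
`sol_of` : `SPOf F S7` gives `Sol (PN F S7)`.
-/

set_option autoImplicit false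

open Cfsg Subgroup
open Cfsg.Agent.SignalizersComponents Cfsg.Agent.Lib
open Cfsg.Agent.SignalizersComponents.IntrinsicBasic
open Cfsg.Agent.Intrinsic.Basic Cfsg.Agent.Intrinsic.Cen Cfsg.Agent.Intrinsic.Quot
open Cfsg.Agent.McLLyComp.Act
open Cfsg.Agent.UGT.Iface (Bar)
open Cfsg.Agent.OddHalf.NI.Sol
open Cfsg.Agent.Lib.SL2Mat Cfsg.Agent.Lib.AutSL2 Cfsg.Agent.Lib.AutSL2Out
open Cfsg.Agent.UGT.U2.ThmX Cfsg.Agent.UGT.U2.ThmXQ

namespace Cfsg.Agent.UGT.U2.SolMod

open Cfsg.Agent.UGT.U2.Sol (SP Half CoreFree pr pr_mem sw)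

universe u

/-- `SL₂(F)` has no normal subgroups of odd order. -/
theorem coreFree_SL2 {F : Type} [Field F] [Fintype F] (ho : Odd (Fintype.card F)) (h3 : 3 < Fintype.card F) :
    CoreFree (Matrix.SpecialLinearGroup (Fin 2) F) := by
  intro N hN hodd
  have h2 : (2 : F) ≠ 0 := ThmXQ.two_ne_zero ho
  have hq : IsQuasisimple (Matrix.SpecialLinearGroup (Fin 2) F) :=
    SLQuasisimple.isQuasisimple_two (by rw [Nat.card_eq_fintype_card]; omega)
  have hle : N ≤ center (Matrix.SpecialLinearGroup (Fin 2) F) := by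
    rcases Lib.ComponentSolvable.quasisimple_normal_cases hq hN with h | h
    rotate_left
    · exact h
    · exfalso
      have h4 : Even (Nat.card (Matrix.SpecialLinearGroup (Fin 2) F)) := SLQuasisimple.even_card h2
      rw [h, Subgroup.card_top] at hodd
      exact (Nat.not_even_iff_odd.mpr hodd) h4
  rw [eq_bot_iff]
  intro x hx
  have hxc := hle hx
  have h5 : x = 1 ∨ x = -1 := (Cfsg.Agent.LFourA.AutTwo.mem_center_iff' h2).mp hxc
  rcases h5 with h5 | h5
  · exact h5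
  · exfalso
    have h6 : orderOf (⟨x, hx⟩ : N) ∣ Nat.card N := orderOf_dvd_natCard _
    have h7 : (⟨x, hx⟩ : N) ^ 2 = 1 := by
      apply Subtype.ext
      change x ^ 2 = 1
      rw [h5, pow_two, neg_mul_neg, one_mul]
    have h8 : (⟨x, hx⟩ : N) = 1 := by
      have h9 : orderOf (⟨x, hx⟩ : N) ∣ 2 := orderOf_dvd_of_pow_eq_one h7
      have h10 : Odd (orderOf (⟨x, hx⟩ : N)) := Odd.of_dvd_nat hodd h6
      rcases (Nat.dvd_prime Nat.prime_two).mp h9 with h11 | h11
      · exact orderOf_eq_one_iff.mp h11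
      · rw [h11] at h10
        exact absurd h10 (by decide)
    have h9 : x = 1 := congrArg Subtype.val h8
    rw [h9] at h5
    exact (Cfsg.Agent.LFourA.AutTwo.one_ne_neg h2) h5

/-- the frames of the groups with the property `S7` -/
def SPOf (F : Type) [Field F] [Fintype F]
    (S7 : ∀ (N : Type u) [Group N], N → N → Subgroup N → Subgroup N → Subgroup N → Prop) : Prop :=
  ∀ (N : Type u) [Group N] [Finite N], IsQuasisimple N → oddCore N = ⊥ → IsPGroup 2 ↥(center N) →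
    ∀ (c d : N) (A B A' : Subgroup N), c ∈ center N → orderOf c = 2 → orderOf d = 2 →
      c ∈ A → d ∈ B → c * d ∈ A' → IsComp (centralizer ({d} : Set N)) A → IsComp (centralizer ({d} : Set N)) B →
      IsComp (centralizer ({d} : Set N)) A' → QSL F A → QSL F B → QSL F A' → S7 N c d A B A' →
      ∀ (τ : F) (hτ : τ ^ 2 ≠ 4) (x y : F) (hxy : x ^ 2 - τ * x * y + y ^ 2 = -1) (m : ℕ),
        Tor (conjGL (Dgl τ hτ)) (tt τ) (nn τ x y hxy) (-1) m →
        ∃ Γ : Subgroup N, SP (conjGL (Dgl τ hτ)) (tt τ) (-1) c d ![A, B, A'] Γ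

variable {G : Type u} [Group G] [Finite G] {F : Type} [Field F] [Fintype F]
  {S7 : ∀ (N : Type u) [Group N], N → N → Subgroup N → Subgroup N → Subgroup N → Prop}

/-- one half -/
theorem exists_half (hSP : SPOf F S7) {S : Set G} {u v : G} {D Ju Jv Jw : Subgroup G}
    (hS : CInv (insert u (insert v S))) (hD : IsComp (centralizer (insert u S)) D)
    (hP : PN F S7 u v D Ju Jv Jw) {τ : F} {hτ : τ ^ 2 ≠ 4} {x y : F} {hxy : x ^ 2 - τ * x * y + y ^ 2 = -1} {m : ℕ}
    (hT : Tor (conjGL (Dgl τ hτ)) (tt τ) (nn τ x y hxy) (-1) m) :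
    ∃ Γ, Half (conjGL (Dgl τ hτ)) (tt τ) (-1) (centralizer S) D u v ![Ju, Jv, Jw] Γ := by
  have hu2 : orderOf u = 2 := hS.ord u (Set.mem_insert _ _)
  have hv2 : orderOf v = 2 := hS.ord v (Set.mem_insert_of_mem _ (Set.mem_insert _ _))
  have huu : u * u = 1 := sq_of_order hu2
  have hvv : v * v = 1 := sq_of_order hv2
  have huv : u * v = v * u := hS.comm u (Set.mem_insert _ _) v (Set.mem_insert_of_mem _ (Set.mem_insert _ _))
  obtain ⟨hc, hd, h7⟩ := hP.s7
  have hcc : ∀ g ∈ D, u * g = g * u := fun g hg => mem_centralizer_iff.mp (hD.le hg) u (Set.mem_insert _ _)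
  have hcD : (QuotientGroup.mk ⟨u, hc⟩ : Bar D) ∈ center (Bar D) := mk_mem_center hc hcc
  have huvD : u * v ∈ D := D.mul_mem hc hd
  have hq := quasisimple_quot hD
  have hO := oddCore_quot D
  have hZ : IsPGroup 2 ↥(center (Bar D)) := TypeOf.center_two D
  have hmul : (QuotientGroup.mk ⟨u, hc⟩ : Bar D) * QuotientGroup.mk ⟨v, hd⟩ = QuotientGroup.mk ⟨u * v, huvD⟩ := rfl
  obtain ⟨Γ, hΓ⟩ := hSP (Bar D) hq hO hZ _ _ _ _ _ hcD (orderOf_mk hc hu2) (orderOf_mk hd hv2)
    (mk_mem_qs hc hP.memc) (mk_mem_qs hd hP.memd) (by rw [hmul]; exact mk_mem_qs huvD hP.memcd)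
    (isComp_qs hd hvv hP.compA) (isComp_qs hd hvv hP.compB) (isComp_qs hd hvv hP.compB')
    ((qsl_qs (hP.compA.le.trans inf_le_left)).mpr hP.qA) ((qsl_qs (hP.compB.le.trans inf_le_left)).mpr hP.qB)
    ((qsl_qs (hP.compB'.le.trans inf_le_left)).mpr hP.qB') h7 τ hτ x y hxy m hT
  refine ⟨Γ, ⟨?_, ?_, ?_, huu, hvv, huv, ?_, hP.memc, hP.memd, hP.memcd, ?_⟩⟩
  · rw [← centralizer_insert]
    exact hD
  · rw [mem_centralizer_iff]
    intro s hs
    exact hS.comm s (Set.mem_insert_of_mem _ (Set.mem_insert_of_mem _ hs)) u (Set.mem_insert _ _)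
  · rw [mem_centralizer_iff]
    intro s hs
    exact hS.comm s (Set.mem_insert_of_mem _ (Set.mem_insert_of_mem _ hs)) v
      (Set.mem_insert_of_mem _ (Set.mem_insert _ _))
  · intro i
    fin_cases i
    · exact hP.compA
    · exact hP.compB
    · exact hP.compB'
  · rw [pr_mem hc, pr_mem hd]
    have h8 : (fun i => qs D ((![Ju, Jv, Jw] : Fin 3 → Subgroup G) i)) = ![qs D Ju, qs D Jv, qs D Jw] := by
      funext i
      fin_cases i <;> rfl
    rw [h8]
    exact hΓ

/-- **`Sol`** from the frames. -/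
theorem sol_of (hF : Odd (Fintype.card F)) (h3 : 3 < Fintype.card F) (hSP : SPOf.{u} F S7) :
    ThmX.Sol (G := G) (PN F S7) := by
  intro S u v Du Dv Ju Jv Jw hS _ hDu hDv hPu hPv
  obtain ⟨τ, hτ, x, y, hxy, m, hT⟩ := exists_tor hF h3
  have hS' : CInv (insert v (insert u S)) := by
    rw [Set.insert_comm]
    exact hS
  obtain ⟨Γ, h1⟩ := exists_half hSP hS hDu hPu hT
  obtain ⟨Γ', h2⟩ := exists_half hSP hS' hDv hPv hT
  have h4 : (![Jv, Ju, Jw] : Fin 3 → Subgroup G) = fun i => (![Ju, Jv, Jw] : Fin 3 → Subgroup G) (sw i) := by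
    funext i
    fin_cases i <;> rfl
  rw [h4] at h2
  exact h1.false hT (coreFree_SL2 hF h3) h2

end Cfsg.Agent.UGT.U2.SolMod
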