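import Cfsg.Agent.UGT.U2.SolDat
import Cfsg.Agent.OddHalf.NI.SolFrameTwo

/-!
# The property `SP` from the linear model `Pos`
-/

set_option autoImplicit false

namespace Cfsg.Agent.UGT.U2.Sol

open Subgroup Matrix
open Cfsg.Agent.OddHalf.NI.Sol
open Cfsg.Agent.Lib.SL2Mat Cfsg.Agent.Lib.AutSL2 Cfsg.Agent.Lib.AutSL2Out

variable {F : Type*} [Field F] {L : Type*} [Group L]

theorem SP.of_pos [Finite F] {u d : L} {a b c : SL F →* L} {π : L →* ((M2 F × M2 F) ≃ₗ[F] (M2 F × M2 F))}
    (H : Pos u a b c π) (perf : commutator (SL F) = ⊤) (h2 : (2 : F) ≠ 0) (hd : b (-1) = d) {τ x y : F}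
    (hτ : τ ^ 2 ≠ 4) (hxy : x ^ 2 - τ * x * y + y ^ 2 = -1) {m : ℕ}
    (hT : Tor (conjGL (Dgl τ hτ)) (tt τ) (nn τ x y hxy) (-1) m) :
    ∃ Γ : Subgroup L, SP (conjGL (Dgl τ hτ)) (tt τ) (-1) u d ![a.range, b.range, c.range] Γ := by
  obtain ⟨g, hg⟩ := H.aframe perf h2 hτ hxy hT
  have hF : Fr (conjGL (Dgl τ hτ)) (tt τ) (-1) (⊤ : Subgroup L) a b c g :=
    { ia := H.ia h2
      ib := H.ib
      ic := H.ic
      ma := fun A => mem_top _
      mb := fun A => mem_top _
      mc := fun A => mem_top _
      mg := mem_top _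
      ab := fun A B => H.ab perf A B
      ac := fun A B => H.ac perf A B
      bc := fun A B => H.bc perf A B
      cen := fun p _ => by rw [H.au]; exact H.cen p
      prod := by rw [H.au]; exact H.bcu
      gv := by
        rcases hg.gv with h1 | h1
        · exact Or.inl h1
        · right; rw [H.au]; exact h1
      ea := hg.ea
      eb := hg.eb
      ec := hg.ec
      ga := hg.ga
      gb := hg.gb
      gc := hg.gc
      rig := by
        intro y _ hc
        obtain ⟨c1, c2, c3⟩ := hc
        rcases hg.rig (MulAut.conj y) (fun A => by rw [MulAut.conj_apply, c1, mul_inv_cancel_right])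
          (fun A => by rw [MulAut.conj_apply, c2, mul_inv_cancel_right])
          (fun A => by rw [MulAut.conj_apply, c3, mul_inv_cancel_right]) with h1 | h1
        · left
          rw [MulAut.conj_apply] at h1
          exact mul_inv_eq_iff_eq_mul.mp h1
        · right
          rw [MulAut.conj_apply] at h1
          have h4 : y * b (-1) * g * (y * b (-1))⁻¹ = g := by
            refine Eq.trans ?_ h1
            group
          exact mul_inv_eq_iff_eq_mul.mp h4 }
  have hR : Rig (-1) a b c g := fun α h1 h3 h4 => hg.rig α h1 h3 h4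
  have h := SP.of_frame hT hF hR
  rw [H.au, hd] at h
  exact ⟨_, h⟩

end Cfsg.Agent.UGT.U2.Sol
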