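import Cfsg.Agent.UGT.U2.F2N
import Cfsg.Agent.UGT.U2.SolMod
import Cfsg.Agent.UGT.U2.SolOfPos
import Cfsg.Agent.UGT.U2.Rec.CenterOm
import Cfsg.Agent.OddHalf.NI.FTwo.Ident
import Cfsg.Agent.OddHalf.NI.FTwo.IdentSp
import Cfsg.Agent.OddHalf.NI.FTwo.Comps
import Cfsg.Agent.OddHalf.NI.SolPos
import Cfsg.Agent.OddHalf.NI.SolMain

/-!
# The inputs of Theorem X

* `sPOf` : the frames of a group with a chart of type `B₃` (position `c`, `d`).
* `inputs` : `World.Inputs` for `S7 := ChartB3`.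
-/

set_option autoImplicit false

open Cfsg Subgroup
open Cfsg.Agent.SignalizersComponents Cfsg.Agent.Lib
open Cfsg.Agent.Intrinsic.Basic
open Cfsg.Agent.UGT.U2.ThmXQ
open Cfsg.Agent.Cit (TStmt)
open Cfsg.Agent.OddHalf.NI (CompIn)
open Cfsg.Agent.OddHalf.NI.FTwo (ChartB3)
open Cfsg.Agent.OddHalf.NI.Sol
open Cfsg.Agent.Lib.SL2Mat Cfsg.Agent.Lib.AutSL2 Cfsg.Agent.Lib.AutSL2Out

namespace Cfsg.Agent.UGT.U2.InputsOf

universe u

/-- `ChartB3` as a property of the position, for all fields -/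
def S7 : ∀ (F : Type) [Field F] [Fintype F] (N : Type u) [Group N],
    N → N → Subgroup N → Subgroup N → Subgroup N → Prop :=
  fun F _ _ N _ c d A B A' => ChartB3 F N c d A B A'

theorem ne_of_inv {F : Type} [Field F] [Fintype F] (hF : Odd (Fintype.card F)) (h3 : 3 < Fintype.card F)
    {N : Type u} [Group N] {A B : Subgroup N} (e : Nonempty (↥A ≃* Matrix.SpecialLinearGroup (Fin 2) F))
    {x y : N} (hx : x ∈ A) (hy : y ∈ B) (ox : orderOf x = 2) (oy : orderOf y = 2) (hne : x ≠ y) : A ≠ B := by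
  rintro rfl
  exact hne (uniq_inv hF h3 e hx hy ox oy)

/-- **The frames.** -/
theorem sPOf (F : Type) [Field F] [Fintype F] (hF : Odd (Fintype.card F)) (h3 : 3 < Fintype.card F) :
    SolMod.SPOf.{u} F (S7.{u} F) := by
  intro N _ _ hq hO hZ c d A B A' hc oc od hcA hdB hcdA' cA cB cA' qA qB qA' hC τ hτ x y hxy m hT
  have hC' : ChartB3 F N c d A B A' := hC
  obtain ⟨Om, p, C, r, r', b, hOm, P⟩ := hC
  have h2 : (2 : F) ≠ 0 := Cfsg.Agent.LFourR.AutTorus.two_ne_zero' hF
  have eA : Nonempty (↥A ≃* Matrix.SpecialLinearGroup (Fin 2) F) := by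
    rw [P.A_eq]; exact P.sl b P.b_root
  have eB : Nonempty (↥B ≃* Matrix.SpecialLinearGroup (Fin 2) F) := by
    rw [P.B_eq]; exact P.sl r (C.cls.root r P.r_mem)
  have eA' : Nonempty (↥A' ≃* Matrix.SpecialLinearGroup (Fin 2) F) := by
    rw [P.A'_eq]; exact P.sl r' (C.cls.root r' P.r'_mem)
  -- the involutions
  have hcomm : ∀ z : N, z * c = c * z := fun z => mem_center_iff.mp hc z
  have hcc : c * c = 1 := by rw [← pow_two, ← oc]; exact pow_orderOf_eq_one c
  have hdd : d * d = 1 := by rw [← pow_two, ← od]; exact pow_orderOf_eq_one d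
  have hc1 : c ≠ 1 := by rintro rfl; rw [orderOf_one] at oc; omega
  have hd1 : d ≠ 1 := by rintro rfl; rw [orderOf_one] at od; omega
  obtain ⟨g, hg⟩ := P.conj_r P.r'_mem
  rw [P.zr'] at hg
  have hcd : c ≠ d := by
    rintro rfl
    rw [hcc] at hg
    apply hc1
    calc c = g⁻¹ * (g * c * g⁻¹) * g := by group
      _ = 1 := by rw [← hg]; group
  have hcd1 : c * d ≠ 1 := fun h => hcd (by rw [← mul_left_cancel_iff (a := c), h, hcc])
  have ocd : orderOf (c * d) = 2 := by
    refine orderOf_eq_prime ?_ hcd1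
    rw [pow_two]
    calc c * d * (c * d) = c * (d * c) * d := by group
      _ = (c * c) * (d * d) := by rw [hcomm d]; group
      _ = 1 := by rw [hcc, hdd, one_mul]
  -- the components commute
  have qsA := Components.isQuasisimple_of_mulEquiv eA.some.symm
    (SLQuasisimple.isQuasisimple_two (F := F) (by rw [Nat.card_eq_fintype_card]; exact h3))
  have iA : CompIn (centralizer ({d} : Set N)) A := FTwoN.compIn_of_isComp cA qsA
  obtain ⟨iB, iA', -⟩ := P.comps hq hOm h3 iA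
  have com : ∀ {K L : Subgroup N}, CompIn (centralizer ({d} : Set N)) K → CompIn (centralizer ({d} : Set N)) L →
      K ≠ L → ∀ x ∈ K, ∀ y ∈ L, x * y = y * x := fun hK hL hne x hx y hy =>
    (mem_centralizer_iff.1 (hK.comm hL hne hx) y hy).symm
  have hd_cd : d ≠ c * d := fun h => hc1 (mul_eq_right.mp h.symm)
  have hc_cd : c ≠ c * d := fun h => hd1 (mul_eq_left.mp h.symm)
  have AB := com iA iB (ne_of_inv hF h3 eA hcA hdB oc od hcd)
  have AA' := com iA iA' (ne_of_inv hF h3 eA hcA hcdA' oc ocd hc_cd)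
  have BA' := com iB iA' (ne_of_inv hF h3 eB hdB hcdA' od ocd hd_cd)
  -- the identification
  rcases OddHalf.NI.FTwo.Ident.exists_or hq hZ hC' with ⟨⟨e⟩⟩ | e
  · exact (OddHalf.NI.FTwo.IdentSp.false_of_psp hF h3 hq hZ e hc oc hdd hg.symm).elim
  · have hZ' := Rec.CenterOm.center_eq F 3 hF le_rfl hq.1.commutator_eq_top hZ e hc hc1
    obtain ⟨a, b', a', π, H, ra, rb, ra'⟩ := exists_pos hF h3 e hc hZ' eA eB eA' AB AA' BA' hcA hdB hcdA' oc od hcd
    have perf : commutator (SL F) = ⊤ :=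
      (SLQuasisimple.isQuasisimple_two (F := F) (by rw [Nat.card_eq_fintype_card]; exact h3)).1.commutator_eq_top
    have hb : b' (-1) = d := by
      have h4 : b' (-1) ∈ B := by rw [← rb]; exact ⟨-1, rfl⟩
      refine uniq_inv hF h3 eB h4 hdB ?_ od
      have h5 : Function.Injective b' := H.ib
      rw [orderOf_injective b' h5]
      exact TwoFusion.QuatCoverSL.orderOf_neg_one hF
    have := Cfsg.Agent.UGT.U2.Sol.SP.of_pos H perf h2 hb hτ hxy hT
    rwa [ra, rb, ra'] at this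

/-- **The inputs of Theorem X.** -/
theorem inputs (hT : TStmt.{u}) : World.Inputs.{u} S7.{u} where
  f2 F _ _ hF h3 := FTwoN.f2N hT F hF h3
  sol _ _ _ F _ _ hF h3 := SolMod.sol_of hF h3 (sPOf F hF h3)

end Cfsg.Agent.UGT.U2.InputsOf
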