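import Cfsg.Agent.UGT.U2.World
import Cfsg.Agent.OddHalf.NI.CovTwo
import Cfsg.Agent.Intrinsic.Lifting

/-!
# The diagonal pump-up of an intrinsic `SL₂(q)` (node U2)

`diag_false`: `G` a minimal counterexample, `N` a 2-component of `C(z)`, `N^a ≠ N`, `J = {k k^a}` contains the
involution `z` and `J / O(J) ≃ SL₂(F)`, `|F| > 3` odd: impossible. There is an involution `n ∈ N` with
`z = n n^a`, and `N`, `N^a` give a family for THEOREM X.
-/

set_option autoImplicit false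

open Cfsg Subgroup
open Cfsg.Agent.SignalizersComponents Cfsg.Agent.Lib
open Cfsg.Agent.SignalizersComponents.IntrinsicBasic
open Cfsg.Agent.SignalizersComponents.PLayerAut
open Cfsg.Agent.Intrinsic.Basic Cfsg.Agent.Intrinsic.Cen Cfsg.Agent.Intrinsic.Diag
open Cfsg.Agent.McLLyComp.Act
open Cfsg.Agent.FixBN.BTheorem Cfsg.Agent.FixBN.BRelative
open Cfsg.Agent.UGT.Iface
open Cfsg.Agent.UGT.U2.ThmX Cfsg.Agent.UGT.U2.ThmXQ
open Cfsg.Agent.OddHalf (Stmts.P1310)
open scoped commutatorElement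

namespace Cfsg.Agent.UGT.U2.DiagX

universe u

section lemmas

variable {G : Type u} [Group G] [Finite G] {F : Type} [Field F] [Fintype F]

theorem mem_c' {x y : G} (h : y * x = x * y) : y ∈ centralizer ({x} : Set G) :=
  mem_centralizer_singleton_iff.mpr h

theorem comm_c' {x y : G} (h : y ∈ centralizer ({x} : Set G)) : y * x = x * y :=
  mem_centralizer_singleton_iff.mp h

/-- a member of the family `{n, n'}`, `z = n n'` -/
theorem exists_member {z n n' : G} {N : Subgroup G} (hN : IsComp (centralizer ({z} : Set G)) N) (hn : n ∈ N)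
    (hnn : n * n = 1) (hn'n' : n' * n' = 1) (hz : z = n * n') (hc : n * n' = n' * n) (hf : Fixes n' N)
    (hQ : QSL F N) (S : Set G) (hS : S = {n, n'}) :
    ∃ K, IsComp (centralizer S) K ∧ n ∈ K ∧ QSL F K := by
  have hnz : n * z = z * n := by
    rw [hz]
    calc n * (n * n') = (n * n) * n' := by group
      _ = n' := by rw [hnn, one_mul]
      _ = (n * n') * n := by rw [hc, mul_assoc, hnn, mul_one]
  have hn'z : n' * z = z * n' := by
    rw [hz]
    calc n' * (n * n') = (n' * n) * n' := by group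
      _ = n * n' * n' := by rw [hc]
  have hfn : Fixes n N := by
    have h1 : Fixes z N := by
      refine ⟨?_, fun y hy => ?_⟩
      · rw [mem_normalizer_iff]
        intro y
        constructor
        · intro hy
          have h2 : z * y * z⁻¹ = y := by
            rw [← comm_c' (hN.le hy), mul_inv_cancel_right]
          rwa [h2]
        · intro hy
          have h2 := comm_c' (hN.le hy)
          have h3 : z * y * z⁻¹ = y := by
            have h4 : z * y * z⁻¹ * z = z * (z * y * z⁻¹) := h2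
            have h5 : z * y = z * (z * y * z⁻¹) := by
              rw [← h4]; group
            exact (mul_left_cancel h5).symm
          rwa [h3] at hy
      · have h2 : ⁅z, y⁆ = 1 := by
          rw [commutatorElement_def, ← comm_c' (hN.le hy)]
          group
        rw [h2]
        exact one_mem _
    have h2 : n = z * n'⁻¹ := by rw [hz]; group
    rw [h2]
    exact fixes_mul h1 (fixes_inv hf)
  obtain ⟨h1, h2⟩ := isComp_cen hN (mem_c' hnz) hnn hfn
  have hn'cen : n' ∈ normalizer (cen N n : Set G) := mem_normalizer_cen hf.1 hc.symm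
  have hf' : Fixes n' (cen N n) := (fixes_iff_of_sup h2 hn'cen hf.1).mpr hf
  obtain ⟨h3, h4⟩ := isComp_cen h1 (v := n') ⟨mem_c' hn'z, mem_c' hc.symm⟩ hn'n' hf'
  have hcen : centralizer S = centralizer ({z} : Set G) ⊓ centralizer ({n} : Set G) ⊓
      centralizer ({n'} : Set G) := by
    rw [hS]
    ext y
    simp only [mem_inf, mem_centralizer_iff, Set.mem_insert_iff, Set.mem_singleton_iff, forall_eq_or_imp,
      forall_eq]
    constructor
    · rintro ⟨h5, h6⟩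
      refine ⟨⟨?_, h5⟩, h6⟩
      rw [hz]
      calc n * n' * y = n * (n' * y) := by group
        _ = (n * y) * n' := by rw [h6]; group
        _ = y * (n * n') := by rw [h5]; group
    · rintro ⟨⟨-, h5⟩, h6⟩
      exact ⟨h5, h6⟩
  refine ⟨cen (cen N n) n', ?_, ?_, ?_⟩
  · rw [hcen]
    exact h3
  · exact mem_cen_of_sq (mem_cen_of_sq hn rfl hnn) hc hnn
  · obtain ⟨e⟩ := hQ
    obtain ⟨e1, -⟩ := exists_quotEquiv h2
    obtain ⟨e2, -⟩ := exists_quotEquiv h4
    exact ⟨(e2.trans e1).trans e⟩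

end lemmas

section main

variable {G : Type u} [Group G] [Finite G] {F : Type} [Field F] [Fintype F]
  {S7 : ∀ (F : Type) [Field F] [Fintype F] (N : Type u) [Group N],
    N → N → Subgroup N → Subgroup N → Subgroup N → Prop}

/-- the involution `n` with `z = n n^a` -/
theorem exists_split {z a n₀ : G} {O : Subgroup G} (hO : Odd (Nat.card ↥O)) (haa : a * a = 1)
    (hn₀ : n₀ * n₀ = 1) (hzn₀ : z * n₀ = n₀ * z) (hza : z * a = a * z) (hzz : z * z = 1)
    (ho : z⁻¹ * (n₀ * (a * n₀ * a⁻¹)) ∈ O) :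
    ∃ s : ℕ, ∃ o ∈ O, n₀⁻¹ * (o ^ s * n₀ * (o ^ s)⁻¹) ∈ O ∧
      z = (o ^ s * n₀ * (o ^ s)⁻¹) * (a * (o ^ s * n₀ * (o ^ s)⁻¹) * a⁻¹) := by
  obtain ⟨o, hoo⟩ : ∃ o, o = z⁻¹ * (n₀ * (a * n₀ * a⁻¹)) := ⟨_, rfl⟩
  rw [← hoo] at ho
  have hzi : z⁻¹ = z := inv_eq_of_mul_eq_one_left hzz
  have hai : a⁻¹ = a := inv_eq_of_mul_eq_one_left haa
  have hni : n₀⁻¹ = n₀ := inv_eq_of_mul_eq_one_left hn₀
  -- `n₀ o n₀ = o⁻¹`, `a o a = o⁻¹`
  obtain ⟨n₁, hn₁⟩ : ∃ n₁, n₁ = a * n₀ * a⁻¹ := ⟨_, rfl⟩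
  have hn₁₁ : n₁ * n₁ = 1 := by
    rw [hn₁]
    calc a * n₀ * a⁻¹ * (a * n₀ * a⁻¹) = a * (n₀ * n₀) * a⁻¹ := by group
      _ = 1 := by rw [hn₀]; group
  have hzn₁ : z * n₁ = n₁ * z := by
    rw [hn₁]
    have h1 : z * a⁻¹ = a⁻¹ * z := by rw [hai, hza]
    calc z * (a * n₀ * a⁻¹) = (z * a) * n₀ * a⁻¹ := by group
      _ = a * (z * n₀) * a⁻¹ := by rw [hza]; group
      _ = a * n₀ * (z * a⁻¹) := by rw [hzn₀]; group
      _ = a * n₀ * a⁻¹ * z := by rw [h1]; group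
  rw [← hn₁] at hoo
  have hot : o = z * (n₀ * n₁) := by rw [hoo, hzi]
  have hzo : z * o = o * z := by
    rw [hot]
    calc z * (z * (n₀ * n₁)) = z * ((z * n₀) * n₁) := by group
      _ = z * (n₀ * (z * n₁)) := by rw [hzn₀]; group
      _ = z * (n₀ * n₁) * z := by rw [hzn₁]; group
  have hoi : o⁻¹ = z * (n₁ * n₀) := by
    apply inv_eq_of_mul_eq_one_left
    rw [hot]
    calc z * (n₁ * n₀) * (z * (n₀ * n₁)) = z * (n₁ * (n₀ * z) * (n₀ * n₁)) := by group
      _ = z * (n₁ * (z * n₀) * (n₀ * n₁)) := by rw [hzn₀]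
      _ = z * ((n₁ * z) * (n₀ * n₀) * n₁) := by group
      _ = z * ((z * n₁) * n₁) := by rw [hn₀, hzn₁, mul_one]
      _ = (z * z) * (n₁ * n₁) := by group
      _ = 1 := by rw [hzz, hn₁₁, one_mul]
  have hno : n₀ * o * n₀⁻¹ = o⁻¹ := by
    rw [hoi, hot, hni]
    calc n₀ * (z * (n₀ * n₁)) * n₀ = (n₀ * z) * (n₀ * n₁ * n₀) := by group
      _ = z * ((n₀ * n₀) * (n₁ * n₀)) := by rw [← hzn₀]; group
      _ = z * (n₁ * n₀) := by rw [hn₀, one_mul]
  have han₁ : a * n₁ * a⁻¹ = n₀ := by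
    rw [hn₁]
    calc a * (a * n₀ * a⁻¹) * a⁻¹ = (a * a) * n₀ * (a * a)⁻¹ := by group
      _ = n₀ := by rw [haa]; group
  have hao : a * o * a⁻¹ = o⁻¹ := by
    rw [hoi, hot]
    calc a * (z * (n₀ * n₁)) * a⁻¹ = (a * z) * a⁻¹ * ((a * n₀ * a⁻¹) * (a * n₁ * a⁻¹)) := by group
      _ = z * (n₁ * n₀) := by rw [← hza, han₁, ← hn₁]; group
  -- the exponent
  obtain ⟨s, hs⟩ : ∃ s : ℕ, o ^ (4 * s + 1) = 1 := by
    have hodd : Odd (orderOf o) :=
      Odd.of_dvd_nat hO (by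
        have h1 := orderOf_dvd_natCard (⟨o, ho⟩ : ↥O)
        rwa [Subgroup.orderOf_mk] at h1)
    obtain ⟨r, hr⟩ : ∃ r, r = orderOf o := ⟨_, rfl⟩
    rw [← hr] at hodd
    have h1 : r % 4 = 1 ∨ r % 4 = 3 := by
      rw [Nat.odd_iff] at hodd
      omega
    rcases h1 with h1 | h1
    · refine ⟨r / 4, ?_⟩
      have h2 : 4 * (r / 4) + 1 = r := by omega
      rw [h2, hr, pow_orderOf_eq_one]
    · refine ⟨3 * (r / 4) + 2, ?_⟩
      have h2 : 4 * (3 * (r / 4) + 2) + 1 = r * 3 := by omega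
      rw [h2, pow_mul, hr, pow_orderOf_eq_one, one_pow]
  obtain ⟨w, hw⟩ : ∃ w, w = o ^ s := ⟨_, rfl⟩
  have hnw : n₀ * w * n₀⁻¹ = w⁻¹ := by
    rw [hw, ← conj_pow, hno, inv_pow]
  have haw : a * w * a⁻¹ = w⁻¹ := by
    rw [hw, ← conj_pow, hao, inv_pow]
  have hzw : z * w = w * z := by
    rw [hw]
    exact (show Commute z o from hzo).pow_right s
  refine ⟨s, o, ho, ?_, ?_⟩
  · have h1 : n₀⁻¹ * (o ^ s * n₀ * (o ^ s)⁻¹) = w⁻¹ * w⁻¹ := by
      rw [← hw]
      have h2 : n₀⁻¹ * w * n₀ = w⁻¹ := by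
        have h3 : n₀⁻¹ * w * n₀ = n₀ * w * n₀⁻¹ := by rw [hni]
        rw [h3, hnw]
      calc n₀⁻¹ * (w * n₀ * w⁻¹) = (n₀⁻¹ * w * n₀) * w⁻¹ := by group
        _ = w⁻¹ * w⁻¹ := by rw [h2]
    rw [h1, hw]
    exact mul_mem (inv_mem (pow_mem ho s)) (inv_mem (pow_mem ho s))
  · rw [← hw]
    -- `n₁ = n₀ z o`
    have h1 : n₁ = n₀ * z * o := by
      rw [hot]
      calc n₁ = (z * z) * (n₀ * n₀) * n₁ := by rw [hzz, hn₀]; group
        _ = z * (z * n₀) * n₀ * n₁ := by group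
        _ = z * (n₀ * z) * n₀ * n₁ := by rw [hzn₀]
        _ = (z * n₀) * (z * (n₀ * n₁)) := by group
        _ = n₀ * z * (z * (n₀ * n₁)) := by rw [hzn₀]
    have h2 : a * (w * n₀ * w⁻¹) * a⁻¹ = w⁻¹ * n₁ * w := by
      calc a * (w * n₀ * w⁻¹) * a⁻¹ = (a * w * a⁻¹) * (a * n₀ * a⁻¹) * (a * w * a⁻¹)⁻¹ := by group
        _ = w⁻¹ * n₁ * w := by rw [haw, ← hn₁, inv_inv]
    have h3 : w⁻¹ * n₀ = n₀ * w := by
      rw [← hnw]
      group
    have h4 : n₀ * w⁻¹ = w * n₀ := by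
      have h5 : n₀ * w⁻¹ * n₀⁻¹ = w := by
        calc n₀ * w⁻¹ * n₀⁻¹ = (n₀ * w * n₀⁻¹)⁻¹ := by group
          _ = w := by rw [hnw, inv_inv]
      calc n₀ * w⁻¹ = (n₀ * w⁻¹ * n₀⁻¹) * n₀ := by group
        _ = w * n₀ := by rw [h5]
    rw [h2, h1]
    have how : o * w = w * o := by
      rw [hw]
      exact (Commute.refl o).pow_right s
    have h7 : w * w * w * w * o = 1 := by
      rw [hw, ← pow_add, ← pow_add, ← pow_add, ← pow_succ]
      rw [show s + s + s + s + 1 = 4 * s + 1 by ring, hs]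
    symm
    have e1 : w * n₀ * w⁻¹ * (w⁻¹ * (n₀ * z * o) * w) = w * (n₀ * w⁻¹) * (w⁻¹ * n₀) * z * (o * w) := by group
    rw [e1, h4, h3]
    have e2 : w * (w * n₀) * (n₀ * w) * z * (o * w) = w * w * (n₀ * n₀) * w * z * (o * w) := by group
    rw [e2, hn₀, mul_one, how]
    have e3 : w * w * w * z * (w * o) = w * w * w * (z * w) * o := by group
    rw [e3, hzw]
    have e4 : w * w * w * (w * z) * o = (w * w * w * w) * (z * o) := by group
    rw [e4, hzo]
    have e5 : (w * w * w * w) * (o * z) = (w * w * w * w * o) * z := by group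
    rw [e5, h7, one_mul]

/-- **The diagonal pump-up of an intrinsic `SL₂(q)`.** -/
theorem diag_false (P : Stmts.P1310.{u}) (hKn : Known.{u}) (hI : World.Inputs.{u} S7) (h : MinCex G)
    {z a : G} {N J : Subgroup G} (hzo : orderOf z = 2) (haa : a * a = 1) (hza : z * a = a * z)
    (hN : IsComp (centralizer ({z} : Set G)) N) (hne : cj a N ≠ N)
    (hJ : J = diag (centralizer ({z} : Set G)) N a) (hzJ : z ∈ J) (hF : Odd (Fintype.card F))
    (h3 : 3 < Fintype.card F) (hQ : QSL F J) : False := by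
  have hzz : z * z = 1 := ThmX.sq_of_order hzo
  have hz1 := ThmX.ne_one_of_order hzo
  have haC : a ∈ centralizer ({z} : Set G) := mem_c' hza.symm
  obtain ⟨h1, h2, -, h4, f, hfs, hfc, hfm, -⟩ := exists_diag hN haC haa hne
  rw [← hJ] at h1 h2 h4
  have hZN := TypeOf.center_two N
  have hNq := TypeOf.quasisimple hN
  have hN' : IsComp (centralizer ({z} : Set G)) (cj a N) := isComp_cj_of_mem hN haC
  obtain ⟨e⟩ := hQ
  subst hJ
  -- `N / O(N) ≃ SL₂(F)`
  have hgk : (e.toMonoidHom.comp f).ker = f.ker := by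
    ext x
    rw [MonoidHom.mem_ker, MonoidHom.mem_ker]
    exact map_eq_one_iff e e.injective
  have hf2 : IsPGroup 2 f.ker := by
    intro x
    obtain ⟨k, hk⟩ := hZN ⟨x, hfc x.2⟩
    refine ⟨k, Subtype.ext ?_⟩
    exact congrArg (fun y : center (Bar N) => (y : Bar N)) hk
  have hinj : Function.Injective (e.toMonoidHom.comp f) :=
    OddHalf.NI.CovTwo.injective_of_sl hF hNq.1.commutator_eq_top _ (by rw [hgk]; exact hfc)
      (by rw [hgk]; exact hf2)
  have hQN : QSL F N := ⟨MulEquiv.ofBijective (e.toMonoidHom.comp f) ⟨hinj, e.surjective.comp hfs⟩⟩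
  have hQN' : QSL F (cj a N) := by
    obtain ⟨e1⟩ := hQN
    exact ⟨(cjQuot a N).symm.trans e1⟩
  -- the involution
  obtain ⟨k, hkN, hk⟩ := h2 z hzJ
  have hfk : f (QuotientGroup.mk' (oddCore ↥N) ⟨k, hkN⟩) =
      QuotientGroup.mk' (oddCore ↥(diag (centralizer ({z} : Set G)) N a)) ⟨z, hzJ⟩ := hfm ⟨k, hkN⟩ ⟨z, hzJ⟩ hk
  have hkk : k * k ∈ core N := by
    rw [← mk_eq_one_iff (mul_mem hkN hkN)]
    apply hinj
    change e (f (QuotientGroup.mk' (oddCore ↥N) (⟨k, hkN⟩ * ⟨k, hkN⟩))) = e (f 1)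
    rw [map_mul, map_mul, hfk, map_one, ← map_mul]
    have h5 : (⟨z, hzJ⟩ * ⟨z, hzJ⟩ : ↥(diag (centralizer ({z} : Set G)) N a)) = 1 := Subtype.ext hzz
    rw [h5, map_one]
  have hzJc : z ∉ core (diag (centralizer ({z} : Set G)) N a) := fun h5 =>
    hz1 (eq_one_of_mem_core_sq h5 hzz)
  obtain ⟨j, hj1, hj2⟩ := Intrinsic.Lifting.exists_two_part (odd_card_core N) (x := k) (n := 1)
    (by rw [pow_one, pow_two]; exact hkk)
  obtain ⟨n₀, hn₀⟩ : ∃ n₀, n₀ = k ^ j := ⟨_, rfl⟩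
  rw [← hn₀] at hj1 hj2
  rw [pow_one, pow_two] at hj1
  have hn₀N : n₀ ∈ N := by rw [hn₀]; exact pow_mem hkN j
  have hO := odd_card_core (centralizer ({z} : Set G))
  have hNz : ∀ y ∈ N, y * z = z * y := fun y hy => comm_c' (hN.le hy)
  have hcz : ∀ g ∈ centralizer ({z} : Set G), ∀ o ∈ core (centralizer ({z} : Set G)),
      g * o * g⁻¹ ∈ core (centralizer ({z} : Set G)) := fun g hg o ho => conj_mem_core (le_normalizer hg) ho
  have ho : z⁻¹ * (n₀ * (a * n₀ * a⁻¹)) ∈ core (centralizer ({z} : Set G)) := by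
    obtain ⟨c, hc⟩ : ∃ c, c = k⁻¹ * n₀ := ⟨_, rfl⟩
    rw [← hc] at hj2
    have hcO : c ∈ core (centralizer ({z} : Set G)) := hN.core_le_core hj2
    have h5 : z⁻¹ * (n₀ * (a * n₀ * a⁻¹)) =
        (z⁻¹ * (k * (a * k * a⁻¹))) * ((a * k * a⁻¹)⁻¹ * c * (a * k * a⁻¹)⁻¹⁻¹) * (a * c * a⁻¹) := by
      have h6 : n₀ = k * c := by rw [hc]; group
      rw [h6]; group
    rw [h5]
    refine mul_mem (mul_mem hk (hcz _ ?_ c hcO)) (hcz a haC c hcO)
    exact inv_mem (mul_mem (mul_mem haC (hN.le hkN)) (inv_mem haC))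
  obtain ⟨s, o, hoO, h5, h6⟩ := exists_split hO haa hj1 (hNz n₀ hn₀N).symm hza hzz ho
  obtain ⟨n, hn⟩ : ∃ n, n = o ^ s * n₀ * (o ^ s)⁻¹ := ⟨_, rfl⟩
  rw [← hn] at h5 h6
  have hnn : n * n = 1 := by
    rw [hn]
    calc o ^ s * n₀ * (o ^ s)⁻¹ * (o ^ s * n₀ * (o ^ s)⁻¹) = o ^ s * (n₀ * n₀) * (o ^ s)⁻¹ := by group
      _ = 1 := by rw [hj1]; group
  have hnN : n ∈ N := hN.mem_of_two hn₀N h5 (n := 1) (by rw [pow_one, pow_two]; exact hnn)
  obtain ⟨n', hn'⟩ : ∃ n', n' = a * n * a⁻¹ := ⟨_, rfl⟩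
  rw [← hn'] at h6
  have hn'n' : n' * n' = 1 := by
    rw [hn']
    calc a * n * a⁻¹ * (a * n * a⁻¹) = a * (n * n) * a⁻¹ := by group
      _ = 1 := by rw [hnn]; group
  have hn'N : n' ∈ cj a N := by rw [hn']; exact conj_mem_cj hnN
  have hn'eq : n' = n * z := by
    rw [h6, ← mul_assoc, hnn, one_mul]
  have hcomm : n * n' = n' * n := by
    rw [hn'eq]
    calc n * (n * z) = n * (z * n) := by rw [hNz n hnN]
      _ = n * z * n := by group
  have hn1 : n ≠ 1 := by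
    intro h7
    apply hz1
    rw [h6, hn', h7]; group
  have hn'1 : n' ≠ 1 := by
    intro h7
    apply hz1
    rw [h6, h7]
    have h8 : n = 1 := by
      have h9 : a⁻¹ * n' * a = n := by rw [hn']; group
      rw [← h9, h7]; group
    rw [h8, one_mul]
  have hno : orderOf n = 2 := orderOf_eq_prime (by rw [pow_two]; exact hnn) hn1
  have hn'o : orderOf n' = 2 := orderOf_eq_prime (by rw [pow_two]; exact hn'n') hn'1
  have hf' : Fixes n' N := hN.fixes_of_mem hN' (Ne.symm hne) hn'N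
  have hf : Fixes n (cj a N) := hN'.fixes_of_mem hN hne hnN
  classical
  have hco : ((({n, n'} : Finset G)) : Set G) = {n, n'} := by simp
  obtain ⟨K, hK1, hK2, hK3⟩ := exists_member hN hnN hnn hn'n' h6 hcomm hf' hQN {n, n'} rfl
  obtain ⟨K', hK1', hK2', hK3'⟩ := exists_member hN' hn'N hn'n' hnn (by rw [h6, hcomm]) hcomm.symm hf hQN'
    {n, n'} (Set.pair_comm n n')
  refine ThmXQ.false_of_set hF (hI.f2 F hF h3) (hI.sol G F hF h3) (World.hasB h hKn)
    (fun z K hz hzK hQ => World.not_qsl P h hF hz hzK hQ) {n, n'} ⟨n, by simp⟩ ?_ ?_ ?_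
  · rw [hco]
    refine ⟨?_, ?_⟩
    · rintro s (rfl | rfl)
      · exact hno
      · exact hn'o
    · rintro s (rfl | rfl) t (rfl | rfl)
      · rfl
      · exact hcomm
      · exact hcomm.symm
      · rfl
  · intro b hb
    rw [hco]
    rcases Finset.mem_insert.mp hb with rfl | hb
    · exact ⟨K, hK1, hK2, hK3⟩
    · rw [Finset.mem_singleton] at hb
      subst hb
      exact ⟨K', hK1', hK2', hK3'⟩
  · intro b hb c hc d hd hbc hbd hcd
    exfalso
    rcases Finset.mem_insert.mp hb with rfl | hb <;> rcases Finset.mem_insert.mp hc with rfl | hc <;>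
      rcases Finset.mem_insert.mp hd with rfl | hd <;> simp_all

end main

end Cfsg.Agent.UGT.U2.DiagX
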