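import Cfsg.Agent.OddHalf.NI.FrameDef
import Cfsg.Agent.SporRec.LyReduce

/-!
# UGT, node U2: the central involution of `2.A_n` is even (helper698, for helper992)

`even8_alt` : `N` a nonsplit double cover of `A_n`, `n ≥ 5`, `z` the central involution: `z` is the involution of a
quaternion subgroup of order eight (the lifts of `(0 1)(2 3)` and `(0 2)(1 3)`).
-/

set_option autoImplicit false

namespace Cfsg.Agent.UGT.U2.EvenAlt

open Subgroup Cfsg Equiv Cfsg.Agent.SporRec.TwoAn Cfsg.Agent.SporadicRecognition Cfsg.Agent.SporadicRecognition.AltCover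

open Cfsg.Agent.OddHalf.NI (Even8)

theorem even8_cover {n : ℕ} (hn : 4 ≤ n) {N : Type*} [Group N] (K : Cover (Fin n) N) : Even8 K.z := by
  obtain ⟨a, b, c, d, hab, hac, had, hbc, hbd, hcd⟩ : ∃ a b c d : Fin n, a ≠ b ∧ a ≠ c ∧ a ≠ d ∧ b ≠ c ∧ b ≠ d ∧ c ≠ d :=
    ⟨⟨0, by omega⟩, ⟨1, by omega⟩, ⟨2, by omega⟩, ⟨3, by omega⟩, by simp, by simp, by simp, by simp, by simp, by simp⟩
  have hmem : ∀ {p q r s : Fin n}, p ≠ q → r ≠ s → swap p q * swap r s ∈ alternatingGroup (Fin n) := by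
    intro p q r s hpq hrs
    rw [Perm.mem_alternatingGroup, map_mul, Perm.sign_swap hpq, Perm.sign_swap hrs]
    rfl
  obtain ⟨g, hg⟩ := K.exists_lift (hmem hab hcd)
  obtain ⟨h, hh⟩ := K.exists_lift (hmem hac hbd)
  have h1 : g * g = K.z := K.dbl a b c d hab hac had hbc hbd hcd g hg
  have h2 : h * h = K.z := K.dbl a c b d hac hab had hbc.symm hcd hbd h hh
  have h3 := K.anticomm hab hac had hbc hbd hcd hg hh
  refine ⟨K.orderOf_z, h, g, h2, h1, ?_⟩
  rw [commutatorElement_def, h3]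
  calc g * h * K.z * h⁻¹ * g⁻¹ = g * (h * K.z) * h⁻¹ * g⁻¹ := by group
    _ = g * (K.z * h) * h⁻¹ * g⁻¹ := by rw [K.z_comm]
    _ = g * K.z * g⁻¹ := by group
    _ = K.z * g * g⁻¹ := by rw [K.z_comm]
    _ = K.z := by group

/-- **The central involution of `2.A_n` is even.** -/
theorem even8_alt {N : Type*} [Group N] {n : ℕ} (hn : 5 ≤ n)
    (h : IsNonsplitDoubleCover N ↥(alternatingGroup (Fin n))) {z : N} (hz : z ∈ center N)
    (hz2 : orderOf z = 2) : Even8 z := by
  obtain ⟨π, z₀, hK, hcen⟩ := exists_isCover h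
  rcases (hcen z).1 hz with rfl | rfl
  · rw [orderOf_one] at hz2
    omega
  · exact even8_cover (by omega) (ofIsCover hn hK)

end Cfsg.Agent.UGT.U2.EvenAlt
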