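import Cfsg.Agent.UGT.U2.LiftJ
import Cfsg.Agent.UGT.U2.DiagX
import Cfsg.Agent.UGT.U2.EvenAlt
import Cfsg.Agent.UGT.U2.Ree
import Cfsg.Agent.UGT.U2.Cut
import Cfsg.Agent.UGT.I34.Cov

/-!
# Node U2: no triple of Lie type

* `vert_false`: no triple `(x, c, M)` with a quaternion pair of `M` over `c ∈ M`.
* `center_ne_bot_of_diag`, `qsl_diag`: the diagonal pump-up.
* `alt_false`: no triple `(x, z, N)` with `N / O(N) = 2.Aₙ`.
* `rowLie`: no triple `(x, a, L)` with `L / Z*(L)` of Lie type in odd characteristic, not `PSL₂(q)`.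
-/

set_option autoImplicit false

open Cfsg Subgroup
open Cfsg.Agent.SignalizersComponents Cfsg.Agent.Lib
open Cfsg.Agent.SignalizersComponents.IntrinsicBasic
open Cfsg.Agent.SignalizersComponents.PLayerAut
open Cfsg.Agent.Intrinsic.Basic Cfsg.Agent.Intrinsic.Cen Cfsg.Agent.Intrinsic.Diag
open Cfsg.Agent.McLLyComp.Act
open Cfsg.Agent.FixBN.BTheorem Cfsg.Agent.FixBN.BRelative
open Cfsg.Agent.UGT.Triple Cfsg.Agent.UGT.Iface
open Cfsg.Agent.UGT.InUList (Excl)
open Cfsg.Agent.UGT.TriBase (fixes_self')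
open Cfsg.Agent.UGT.U2.TypeOf Cfsg.Agent.UGT.U2.ToIntr Cfsg.Agent.UGT.U2.Covers Cfsg.Agent.UGT.U2.Cut
open Cfsg.Agent.UGT.U2.Defs Cfsg.Agent.UGT.U2.ThmXQ
open Cfsg.Agent.OddHalf.NI (FrameFact Even8 LieBig IsSL)
open scoped commutatorElement

namespace Cfsg.Agent.UGT.U2.RowLie

universe u

/-- a quaternion pair of `M` over `c` -/
def Pair {G : Type*} [Group G] (c : G) (M : Subgroup G) : Prop :=
  ∃ u ∈ M, ∃ y ∈ M, u * u = c ∧ y * y = c ∧ ⁅u, y⁆ = c

theorem Pair.mono {G : Type*} [Group G] {c : G} {M N : Subgroup G} (h : Pair c M) (hMN : M ≤ N) : Pair c N := by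
  obtain ⟨u, hu, y, hy, h1⟩ := h
  exact ⟨u, hMN hu, y, hMN hy, h1⟩

theorem Pair.mem {G : Type*} [Group G] {c : G} {M : Subgroup G} (h : Pair c M) : c ∈ M := by
  obtain ⟨u, hu, y, hy, h1, -⟩ := h
  rw [← h1]
  exact mul_mem hu hu

theorem Pair.even8 {G : Type*} [Group G] [Finite G] {c : G} (hc : orderOf c = 2) {M : Subgroup G}
    (h : Pair c M) (hcM : c ∈ M) : Even8 (QuotientGroup.mk ⟨c, hcM⟩ : Bar M) := by
  have h0 : (QuotientGroup.mk ⟨c, hcM⟩ : Bar M) ≠ 1 := by
    intro h1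
    exact ThmX.ne_one_of_order hc (eq_one_of_mem_core_sq ((mk_eq_one_iff hcM).mp h1) (ThmX.sq_of_order hc))
  have h2 : Even8 (⟨c, hcM⟩ : ↥M) := by
    obtain ⟨u, hu, y, hy, h1, h2, h3⟩ := h
    exact ⟨by rw [Subgroup.orderOf_mk]; exact hc, ⟨u, hu⟩, ⟨y, hy⟩, Subtype.ext h1, Subtype.ext h2,
      Subtype.ext h3⟩
  exact h2.map (QuotientGroup.mk' (oddCore ↥M)) h0

section lemmas

variable {G : Type u} [Group G] [Finite G]

/-- In the diagonal case `N / O(N)` has nontrivial centre if `z` lies in the diagonal. -/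
theorem center_ne_bot_of_diag {z a : G} {N : Subgroup G} (hz : orderOf z = 2) (ha2 : a * a = 1)
    (hza : z * a = a * z) (hN : IsComp (centralizer ({z} : Set G)) N)
    (hne : IntrinsicBasic.cj a N ≠ N) (hyd : z ∈ diag (centralizer ({z} : Set G)) N a) :
    center (Bar N) ≠ ⊥ := by
  have haC : a ∈ centralizer ({z} : Set G) := mem_c hza.symm
  obtain ⟨h1, h2, h3, h4, f, hf, hfk, -⟩ := exists_diag hN haC ha2 hne
  obtain ⟨k₀, hk₀, hk₀y⟩ := h2 z hyd
  have hyC : z ∈ centralizer ({z} : Set G) := mem_c rfl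
  have hk₀F : Fixes k₀ N := by
    have h5 := fixes_inv_mul hN haC hne hk₀ hyC hk₀y
    have h6 := (fixes_mul_iff_left (fixes_self' hN.le : Fixes z N)).mp h5
    have h7 := fixes_inv h6
    rwa [inv_inv] at h7
  intro h5
  have h6 := mk_mem_center hk₀ hk₀F
  rw [h5, mem_bot, mk_eq_one_iff] at h6
  have h7 := hN.core_le_core h6
  have h8 : a * k₀ * a⁻¹ ∈ core (centralizer ({z} : Set G)) := conj_core haC h7
  have h9 : z ∈ core (centralizer ({z} : Set G)) := by
    have h10 := mul_mem (mul_mem h7 h8) (inv_mem hk₀y)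
    have h11 : k₀ * (a * k₀ * a⁻¹) * (z⁻¹ * (k₀ * (a * k₀ * a⁻¹)))⁻¹ = z := by group
    rwa [h11] at h10
  exact ne_one_of_order hz (eq_one_of_mem_core_sq h9 (sq_of_order hz))

/-- A central quotient of `SL₂(F)` with nontrivial centre is `SL₂(F)`. -/
theorem qsl_of_surj {A B : Type*} [Group A] [Group B] {F : Type} [Field F] [Fintype F]
    (hF : Odd (Fintype.card F)) (h3 : 3 < Fintype.card F)
    (e : A ≃* Matrix.SpecialLinearGroup (Fin 2) F) (f : A →* B) (hf : Function.Surjective f)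
    (hk : f.ker ≤ center A) (hB : center B ≠ ⊥) : Nonempty (B ≃* Matrix.SpecialLinearGroup (Fin 2) F) := by
  obtain ⟨b, hb, hb1⟩ : ∃ b ∈ center B, b ≠ 1 := by
    by_contra hcon
    push Not at hcon
    exact hB ((eq_bot_iff_forall _).2 hcon)
  obtain ⟨a, rfl⟩ := hf b
  have hcen : ∀ y ∈ center A, e y = 1 ∨ e y = -1 := by
    intro y hy
    refine OddHalf.NI.CovTwo.mem_center_sl hF ?_
    rw [mem_center_iff]
    intro g
    obtain ⟨p, rfl⟩ := e.surjective g
    rw [← map_mul, ← map_mul, mem_center_iff.mp hy p]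
  have hperf := (LiftP.perfect_of_sl h3 e).1
  have ha : a ∈ center A :=
    LiftQ.mem_center_of_map hperf f hk (fun p => (mem_center_iff.mp hb (f p)).symm)
  have ha1 : e a = -1 := by
    rcases hcen a ha with h | h
    · exact absurd (by rw [(MulEquiv.map_eq_one_iff e).mp h, map_one]) hb1
    · exact h
  have hinj : Function.Injective f := by
    rw [injective_iff_map_eq_one]
    intro y hy
    rcases hcen y (hk hy) with h | h
    · exact (MulEquiv.map_eq_one_iff e).mp h
    · exfalso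
      apply hb1
      rw [← e.injective (h.trans ha1.symm)]
      exact hy
  exact ⟨(MulEquiv.ofBijective f ⟨hinj, hf⟩).symm.trans e⟩

end lemmas

section main

variable {S7 : ∀ (F : Type) [Field F] [Fintype F] (N : Type u) [Group N],
    N → N → Subgroup N → Subgroup N → Subgroup N → Prop}
  (h1310 : OddHalf.Stmts.P1310.{u}) (h1738 : OddHalf.Stmts.P1738.{u})
  (hM11 : Excl.{u} (fun X _ => Spor.IsoM11 X)) (hLy : Excl.{u} (fun X _ => Spor.IsoLy X))
  (h34 : P34.{u}) (hKn : Known.{u}) (hI : World.Inputs.{u} S7) (hFF : FrameFact.{u})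
  (hF : FAll.{u} (fun K _ => Lie.IsoRee K))

/-- no triple of Ree type -/
theorem not_ree {G : Type u} [Group G] [Finite G] {x a : G} {L : Subgroup G} (T : IsTriple x a L) :
    ¬ Lie.IsoRee (Bar L ⧸ center (Bar L)) := fun h =>
  not_balanced_bar T (Ree.locallyBalanced_ree h)

include hF in
theorem fk {G : Type u} [Group G] [Finite G] {x a : G} {L : Subgroup G} (T : IsTriple x a L)
    (h : IsLieRank (Bar L ⧸ center (Bar L))) : FK (Bar L ⧸ center (Bar L)) :=
  hF _ (quasisimple T.comp).2 h.1 h.2 (not_ree T)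

include h1310 h1738 hM11 hLy h34 hKn hI hFF hF in
/-- **The vertical case.** -/
theorem vert_false {G : Type u} [Group G] [Finite G] (h : MinCex G) {x c : G}
    {M : Subgroup G} (T : IsTriple x c M) (hp8 : Pair c M) : False := by
  have hcM := hp8.mem
  have hq := quasisimple T.comp
  obtain ⟨hc1, hc2⟩ := center_ne_bot T.inva T.comp hcM
  have hp : commutator (Bar M) = ⊤ := hq.1.commutator_eq_top
  have hne : center (Bar M) ≠ ⊥ := by
    intro h0
    rw [h0, mem_bot] at hc1
    exact hc2 hc1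
  have hsub := (isComp_iff.mp T.comp).2.1
  have use1310 : ((∃ (F : Type) (_ : Field F) (_ : Fintype F), Odd (Fintype.card F) ∧
      Nonempty (↥M ⧸ oddCore ↥M ≃* Matrix.SpecialLinearGroup (Fin 2) F)) ∨
        IsNonsplitDoubleCover (↥M ⧸ oddCore ↥M) ↥(alternatingGroup (Fin 7))) → False := by
    intro hJ
    rcases h1310 h.simple h.nonab c T.inva M T.comp.le hcM hsub hJ with h1 | h1
    · exact h.notU (Or.inl h1)
    · exact hM11 G h h1
  rcases Covers.cases hq (center_two M) (inU_bar h T) with h1 | h1 | h1 | h1 | h1 | h1 | h1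
  · exact hne (center_L2 hp h1)
  · obtain ⟨F, i1, i2, ho, -, e⟩ := h1
    exact use1310 (Or.inl ⟨F, i1, i2, ho, e⟩)
  · exact hne (center_alt hp h1)
  · obtain ⟨n, hn, h7, hcov⟩ := h1
    rcases h7.eq_or_lt with rfl | h8
    · exact use1310 (Or.inr hcov)
    · -- S1738
      have hK : IsPComponent 2 (M.subgroupOf (centralizer ({c} : Set G))) := T.comp.2
      obtain ⟨e⟩ : Nonempty (↥(M.subgroupOf (centralizer ({c} : Set G))) ⧸
          oddCore ↥(M.subgroupOf (centralizer ({c} : Set G))) ≃* Bar M) :=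
        ⟨QuotientGroup.congr _ _ (subgroupOfEquivOfLe T.comp.le) (Lib.Cores.map_equiv_pPrimeCore _ 2)⟩
      have h9 := h1738 (oddCore_eq_bot h T)
        (SignalizersComponents.IntrinsicDiag.quasisimple_of_simple h.simple h.nonab) c T.inva
        (M.subgroupOf (centralizer ({c} : Set G))) hK
        ⟨⟨c, T.comp.le hcM⟩, hcM, rfl⟩ n (by omega) (cover_congr e.symm hcov)
      rcases h9 with h9 | ⟨rfl, -⟩ | ⟨-, h9⟩
      · have h10 := h9.1
        rw [@center_eq_bot _ _ h.simple h.nonab] at h10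
        simp at h10
      · exact absurd hn (by decide)
      · exact hLy G h h9
  · exact h34 G h x c M T hcM h1
  · exact hne (center_he hp h1)
  · obtain ⟨hbig, -⟩ := LiftJ.exists_J T (fk hF T h1)
    exact World.not_even h1310 hKn hI hFF h T.inva T.comp hcM (hp8.even8 T.inva hcM) hbig

include h1310 h1738 hM11 hLy h34 hKn hI hFF hF in
/-- **`2.Aₙ` with `z ∉ N`.** -/
theorem alt_false {G : Type u} [Group G] [Finite G] (h : MinCex G) {x z : G} {N : Subgroup G}
    (T : IsTriple x z N) (hZ : center (Bar N) ≠ ⊥) {n : ℕ} (hn : 7 ≤ n)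
    (e : Bar N ⧸ center (Bar N) ≃* ↥(alternatingGroup (Fin n))) : False := by
  obtain ⟨c, b, M, J, O, ⟨E⟩⟩ := exists_intrinsic T hZ
  have hcc := sq_of_order O.top.inva
  have hcb : c ∈ centralizer ({b} : Set G) := mem_c O.comm
  obtain ⟨h1, h2⟩ := isComp_cen O.bot.comp hcb hcc O.fix
  obtain ⟨e1, he1⟩ := exists_quotEquiv h2
  have hcJ : c ∈ cen J c := mem_cen_of_sq O.mem rfl hcc
  have hq : IsQuasisimple (Bar J) := quasisimple O.bot.comp
  obtain ⟨C, hC⟩ : ∃ C : Bar J, C = QuotientGroup.mk ⟨c, O.mem⟩ := ⟨_, rfl⟩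
  have hCc : C ∈ center (Bar J) := by rw [hC]; exact mk_mem_center O.mem O.fix
  have hC1 : C ≠ 1 := by
    intro h3
    rw [hC, mk_eq_one_iff] at h3
    exact ne_one_of_order O.top.inva (eq_one_of_mem_core_sq h3 hcc)
  have hCo : orderOf C = 2 := by
    refine orderOf_eq_prime ?_ hC1
    rw [pow_two, hC, ← QuotientGroup.mk_mul]
    rw [show (⟨c, O.mem⟩ * ⟨c, O.mem⟩ : ↥J) = 1 from Subtype.ext hcc]
    rfl
  have hne : center (Bar J) ≠ ⊥ := by
    intro h3
    rw [h3, mem_bot] at hCc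
    exact hC1 hCc
  have hcov := Covers.twoAlt hq (center_two J) hne (n := n) (by omega) (E.trans e)
  obtain ⟨-, u, y, hu, hy, huy⟩ := EvenAlt.even8_alt (by omega) hcov hCc hCo
  have hC' : C = e1 (QuotientGroup.mk ⟨c, hcJ⟩) := by rw [he1 c hcJ O.mem, hC]
  have hC'' : e1.symm C = QuotientGroup.mk ⟨c, hcJ⟩ := by rw [hC', e1.symm_apply_apply]
  obtain ⟨u', hu', y', hy', h3, h4, h5⟩ := LiftQ.exists_q8 hcc hcJ
    (fun g hg => (comm_of_mem_cen hg).symm) (u := e1.symm u) (x := e1.symm y)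
    (by rw [← map_mul, hu, hC'']) (by rw [← map_mul, hy, hC'']) (by rw [← map_commutatorElement, huy, hC''])
  exact vert_false h1310 h1738 hM11 hLy h34 hKn hI hFF hF h O.top
    ⟨u', O.le hu', y', O.le hy', h3, h4, h5⟩

include h1310 h1738 hM11 hLy h34 hKn hI hFF hF in
/-- **No triple of Lie type**, by induction on `|L / Z*(L)|`. -/
theorem main {G : Type u} [Group G] [Finite G] (h : MinCex G) (m : ℕ) : ∀ {x a : G} {L : Subgroup G},
    IsTriple x a L → IsLieRank (Bar L ⧸ center (Bar L)) → Nat.card (Bar L ⧸ center (Bar L)) = m → False := by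
  induction m using Nat.strong_induction_on with
  | _ m ih =>
  intro x a L T hL hm
  obtain ⟨hbig, z, d, J, hzo, hza, hzx, hJ, hzJ, hty, hlt, hpair, hdx, hda, hdz, hdf⟩ :=
    LiftJ.exists_J T (fk hF T hL)
  have haa := sq_of_order T.inva
  obtain ⟨N, T1, -, ⟨-, hJN⟩ | ⟨hne, hdiag⟩⟩ :=
    PumpGen.pump T.invx hzo haa hza hzx hJ hdx hda hdz hdf
  · exact vert_false h1310 h1738 hM11 hLy h34 hKn hI hFF hF h T1 (Pair.mono hpair hJN)
  · have haC : a ∈ centralizer ({z} : Set G) := mem_c hza.symm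
    have hzd : z ∈ diag (centralizer ({z} : Set G)) N a := hdiag ▸ hzJ
    have hcN := center_ne_bot_of_diag hzo haa hza T1.comp hne hzd
    obtain ⟨h1, h2, h3, h4, f, hf, hfk, -⟩ := exists_diag T1.comp haC haa hne
    subst hdiag
    have hqN : IsQuasisimple (Bar N) := quasisimple T1.comp
    have hqJ := quasisimple hJ
    obtain ⟨E⟩ := equiv_mod_center hqN hqJ f hf
    have hcard := Nat.card_congr E.toEquiv
    have hcJ : center (Bar (diag (centralizer ({z} : Set G)) N a)) ≠ ⊥ := by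
      have hfx : Fixes z (diag (centralizer ({z} : Set G)) N a) := by
        refine fixes_self' ?_
        exact hJ.le.trans inf_le_left
      intro h5
      have h6 := mk_mem_center hzJ hfx
      rw [h5, mem_bot, mk_eq_one_iff] at h6
      exact ne_one_of_order hzo (eq_one_of_mem_core_sq h6 (sq_of_order hzo))
    have sl_false : ∀ (F : Type) (_ : Field F) (_ : Fintype F), Odd (Fintype.card F) → 3 < Fintype.card F →
        Nonempty (Bar (diag (centralizer ({z} : Set G)) N a) ≃* Matrix.SpecialLinearGroup (Fin 2) F) →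
        False := fun F _ _ ho hc hQ =>
      DiagX.diag_false h1310 hKn hI h hzo haa hza T1.comp hne rfl hzJ ho hc hQ
    rcases hty with hty | hty
    · obtain ⟨F, i1, i2, ho, hc, e⟩ := hty
      exact sl_false F i1 i2 ho hc e
    · rcases inU_bar h T1 with h5 | ⟨n, h5, h7, ⟨e⟩⟩ | h5 | h5
      · by_cases hL2 : IsL2 (Bar N ⧸ center (Bar N))
        · obtain ⟨F, i1, i2, ho, hc, ⟨e⟩⟩ := hL2
          obtain ⟨y, hy, hy1⟩ : ∃ y ∈ center (Bar N), y ≠ 1 := by
            by_contra hcon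
            push Not at hcon
            exact hcN ((eq_bot_iff_forall _).2 hcon)
          obtain ⟨e1⟩ := OddHalf.NI.CovTwo.equiv_sl ho hqN.1.commutator_eq_top (center_two N) e hy hy1
          exact sl_false F i1 i2 ho (by omega) (qsl_of_surj ho (by omega) e1 f hf hfk hcJ)
        · exact ih _ (by rw [← hm, hcard]; exact hlt) T1 ⟨h5, hL2⟩ rfl
      · exact alt_false h1310 h1738 hM11 hLy h34 hKn hI hFF hF h T1 hcN h7 e
      · rw [← hcard, I34.Cov.card_l34 h5] at hty
        exact lt_irrefl _ hty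
      · exact hcN (he_center hqN (center_two N) h5)

include h1310 h1738 hM11 hLy h34 hKn hI hFF hF in
/-- **No triple of Lie type.** -/
theorem rowLie : Cut.RowLie.{u} := fun _ _ _ h _ _ _ T h1 h2 =>
  main h1310 h1738 hM11 hLy h34 hKn hI hFF hF h _ T ⟨h1, h2⟩ rfl

end main

end Cfsg.Agent.UGT.U2.RowLie
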