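import Cfsg.Agent.S1738
import Cfsg.Agent.UGT.EndK4
import Cfsg.Agent.UGT.EndK4Cov
import Cfsg.Agent.FixBN.KnownAll
import Cfsg.Agent.OddHalf.NI.FrameFact
import Cfsg.Agent.UGT.U2.RowLie
import Cfsg.Agent.UGT.U2.FOne.Final
import Cfsg.Agent.UGT.U2.InputsOf

/-!
# Node U2, the rows of Lie type: the plug

* `rowLie_of` : `Cut.RowLie` from S1310, `Cut.P34` and the two inputs of Theorem X.
* `rowLie` : `Cut.RowLie` from Theorem T of the project of S1310, S1310 and `Cut.P34`.
-/

set_option autoImplicit false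

open Cfsg
open Cfsg.Agent.UGT.Iface

namespace Cfsg.Agent.UGT.U2.Plug

universe u

/-- **No triple of Lie type in odd characteristic (not `PSL₂(q)`).** -/
theorem rowLie_of {S7 : ∀ (F : Type) [Field F] [Fintype F] (N : Type u) [Group N],
    N → N → Subgroup N → Subgroup N → Subgroup N → Prop} (h1310 : OddHalf.Stmts.P1310.{u}) (h34 : Cut.P34.{u})
    (hI : World.Inputs.{u} S7) : Cut.RowLie.{u} :=
  RowLie.rowLie h1310 (fun h1 h2 t ht K hK htK n hn hKA => S1738.result h1 h2 t ht K hK htK n hn hKA) EndK4.m11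
    EndK4Cov.ly h34 FixBN.KnownAll.known hI OddHalf.NI.FrameFact.frameFact
    (fun K _ _ h1 h2 h3 h4 => FOne.Final.fAll K h1 h2 h3 h4)

/-- **No triple of Lie type in odd characteristic (not `PSL₂(q)`)**, relative to Theorem T, S1310, `Cut.P34`. -/
theorem rowLie (hT : Cit.TStmt.{u}) (h1310 : OddHalf.Stmts.P1310.{u}) (h34 : Cut.P34.{u}) : Cut.RowLie.{u} :=
  rowLie_of h1310 h34 (InputsOf.inputs hT)

end Cfsg.Agent.UGT.U2.Plug
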