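import Cfsg.Agent.UGT.U2.TypeOf
import Cfsg.Agent.UGT.TriBase

/-!
# From a triple with `Z(L / O(L)) ≠ 1` to an intrinsic triple

`exists_intrinsic`: if `(x, a, L)` is a triple and `L / O(L)` has nontrivial centre, there is a triple `(x, c, M)` with
`c ∈ M`; more precisely there is a triple `(x, b, J)` with `J / Z*(J) ≅ L / Z*(L)`, `c ∈ J` an involution centralizing
`J / O(J)` and commuting with `b` and `x`, `M` the pump-up of `J` in `C(c)`, which is normalized by `b`.

No hypothesis on the types.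
-/

set_option autoImplicit false

open Cfsg Subgroup
open Cfsg.Agent.SignalizersComponents Cfsg.Agent.Lib
open Cfsg.Agent.SignalizersComponents.IntrinsicBasic
open Cfsg.Agent.SignalizersComponents.PLayerAut
open Cfsg.Agent.Intrinsic.Basic Cfsg.Agent.Intrinsic.Cen Cfsg.Agent.Intrinsic.Diag
open Cfsg.Agent.McLLyComp.Act
open Cfsg.Agent.FixBN.BTheorem Cfsg.Agent.FixBN.BRelative
open Cfsg.Agent.UGT.Triple Cfsg.Agent.UGT.Iface Cfsg.Agent.UGT.InnB
open Cfsg.Agent.UGT.U2.AutBar Cfsg.Agent.UGT.U2.TypeOf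
open Cfsg.Agent.UGT.TriBase (fixes_self')
open scoped commutatorElement

namespace Cfsg.Agent.UGT.U2.ToIntr

universe u

variable {G : Type u} [Group G]

/-! ### central elements of `L / O(L)` -/

theorem mk_mem_center {L : Subgroup G} {y : G} (hy : y ∈ L) (hf : Fixes y L) :
    (QuotientGroup.mk ⟨y, hy⟩ : Bar L) ∈ center (Bar L) := by
  rw [mem_center_iff]
  intro g
  obtain ⟨⟨l, hl⟩, rfl⟩ := QuotientGroup.mk_surjective g
  have h1 : (QuotientGroup.mk ⁅(⟨y, hy⟩ : ↥L), ⟨l, hl⟩⁆ : Bar L) = 1 := by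
    rw [QuotientGroup.eq_one_iff]
    exact (mem_core_iff (K := L) (commutator_mem_self hy hl)).mp (hf.2 l hl)
  have h2 : (QuotientGroup.mk ⁅(⟨y, hy⟩ : ↥L), ⟨l, hl⟩⁆ : Bar L) =
      ⁅(QuotientGroup.mk ⟨y, hy⟩ : Bar L), QuotientGroup.mk ⟨l, hl⟩⁆ := rfl
  rw [h2, commutatorElement_eq_one_iff_mul_comm] at h1
  exact h1.symm
where
  commutator_mem_self {L : Subgroup G} {y l : G} (hy : y ∈ L) (hl : l ∈ L) : ⁅y, l⁆ ∈ L := by
    rw [commutatorElement_def]
    exact mul_mem (mul_mem (mul_mem hy hl) (inv_mem hy)) (inv_mem hl)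

theorem fixes_of_center {L : Subgroup G} {y : G} (hy : y ∈ L)
    (h : (QuotientGroup.mk ⟨y, hy⟩ : Bar L) ∈ center (Bar L)) : Fixes y L := by
  refine ⟨le_normalizer hy, fun l hl => ?_⟩
  have h1 : ⁅y, l⁆ ∈ L := mk_mem_center.commutator_mem_self hy hl
  rw [mem_core_iff h1, ← QuotientGroup.eq_one_iff]
  have h2 : (QuotientGroup.mk (⟨⁅y, l⁆, h1⟩ : ↥L) : Bar L) =
      ⁅(QuotientGroup.mk ⟨y, hy⟩ : Bar L), QuotientGroup.mk ⟨l, hl⟩⁆ := rfl
  change (QuotientGroup.mk (⟨⁅y, l⁆, h1⟩ : ↥L) : Bar L) = 1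
  rw [h2, commutatorElement_eq_one_iff_mul_comm]
  exact (mem_center_iff.mp h _).symm

/-- a central involution of `C(c)` in `M` -/
theorem center_ne_bot {c : G} (hc : orderOf c = 2) {M : Subgroup G} [Finite G]
    (hM : IsComp (centralizer ({c} : Set G)) M) (hcM : c ∈ M) :
    (QuotientGroup.mk ⟨c, hcM⟩ : Bar M) ∈ center (Bar M) ∧ (QuotientGroup.mk ⟨c, hcM⟩ : Bar M) ≠ 1 := by
  refine ⟨mk_mem_center hcM (fixes_self' hM.le), fun h => ?_⟩
  have h1 : c ∈ core M := (mk_eq_one_iff hcM).mp h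
  exact ne_one_of_order hc (eq_one_of_mem_core_sq h1 (sq_of_order hc))

variable [Finite G]

/-- An involution `y ∈ L` commuting with `x` which centralizes `L / O(L)`. -/
theorem exists_inv {x a : G} {L : Subgroup G} (T : IsTriple x a L) (hZ : center (Bar L) ≠ ⊥) :
    ∃ y ∈ L, orderOf y = 2 ∧ y * x = x * y ∧ Fixes y L := by
  have hxN := T.x_mem
  have hx2 := sq_of_order T.invx
  obtain ⟨τ, D, hτ, hττ, -⟩ := exists_image' T
  obtain ⟨z₀, hz₀, hz₀1⟩ : ∃ z ∈ center (Bar L), z ≠ 1 := by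
    by_contra hcon
    push Not at hcon
    exact hZ ((eq_bot_iff_forall _).2 hcon)
  -- an involution of the centre
  obtain ⟨z, hz, hz1, hzz⟩ : ∃ z ∈ center (Bar L), z ≠ 1 ∧ z * z = 1 := by
    have h2 := center_two L
    obtain ⟨k, hk⟩ := h2 ⟨z₀, hz₀⟩
    have hk' : z₀ ^ 2 ^ k = 1 := congrArg Subtype.val hk
    classical
    let P : ℕ → Prop := fun j => z₀ ^ 2 ^ j = 1
    have hex : ∃ j, P j := ⟨k, hk'⟩
    obtain ⟨j, hj⟩ : ∃ j, Nat.find hex = j + 1 := by
      refine Nat.exists_eq_succ_of_ne_zero fun h0 => ?_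
      have := Nat.find_spec hex
      rw [h0] at this
      exact hz₀1 (by simpa [P] using this)
    refine ⟨z₀ ^ 2 ^ j, pow_mem hz₀ _, fun h => ?_, ?_⟩
    · exact Nat.find_min hex (m := j) (by omega) h
    · rw [← pow_two, ← pow_mul, ← pow_succ, ← hj]
      exact Nat.find_spec hex
  -- fixed by `τ`
  obtain ⟨v, hv, hv1, hvv, hτv⟩ : ∃ v ∈ center (Bar L), v ≠ 1 ∧ v * v = 1 ∧ τ v = v := by
    have hcomm : z * τ z = τ z * z := (mem_center_iff.mp hz (τ z)).symm
    have hττz : τ (τ z) = z := DFunLike.congr_fun hττ z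
    by_cases h : z * τ z = 1
    · refine ⟨z, hz, hz1, hzz, ?_⟩
      rw [← mul_left_cancel_iff (a := z), h, hzz]
    · refine ⟨z * τ z, mul_mem hz (map_mem_center τ hz), h, ?_, ?_⟩
      · calc z * τ z * (z * τ z) = z * (τ z * z) * τ z := by group
          _ = z * (z * τ z) * τ z := by rw [hcomm]
          _ = (z * z) * (τ z * τ z) := by group
          _ = 1 := by rw [hzz, one_mul, ← map_mul, hzz, map_one]
      · rw [map_mul, hττz, hcomm]
  obtain ⟨⟨n, hn⟩, rfl⟩ := QuotientGroup.mk_surjective v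
  rw [hτ, act_mk hxN hn] at hτv
  have h1 := (mk_eq_iff hn (Cfsg.Agent.McLLyComp.Act.conj_mem hxN hn)).mp hτv.symm
  have h2 : n * n ∈ core L := by
    rw [← mk_eq_one_iff (mul_mem hn hn)]
    exact hvv
  obtain ⟨o, ho, h3, h4⟩ := Intrinsic.Lifting.exists_involution (n := 1) (odd_card_core L)
    (by rw [pow_one, pow_two, hx2]) (normalizer_le_normalizer_core L hxN)
    (le_normalizer_core L hn) h2 h1
  have hyL : n * o ∈ L := mul_mem hn (core_le L ho)
  have hmk : (QuotientGroup.mk (⟨n, hn⟩ : ↥L) : Bar L) = QuotientGroup.mk ⟨n * o, hyL⟩ := by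
    rw [mk_eq_iff hn hyL]
    convert ho using 1
    group
  refine ⟨n * o, hyL, ?_, h4.symm, fixes_of_center hyL (hmk ▸ hv)⟩
  refine orderOf_eq_prime (by rw [pow_two, h3]) fun h => hv1 ?_
  rw [hmk, mk_eq_one_iff, h]
  exact one_mem _

/-- The 2-components of `H ⊓ C(s)` normalize the 2-components of `H`. -/
theorem norm_of_comp {H Z N : Subgroup G} {s : G} (hsH : s ∈ H) (hs : s * s = 1)
    (hZ : IsComp (H ⊓ centralizer ({s} : Set G)) Z) (hN : IsComp H N) : Z ≤ normalizer (N : Set G) := by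
  have hcomp : ∀ J, IsComp H J → J ≤ normalizer (N : Set G) := fun J hJ =>
    hJ.le_L2.trans hN.L2_le_normalizer
  obtain ⟨J, hJ, -, h | h⟩ := McLLyComp.PumpT.exists_pump hsH hs hZ
  · exact h.2.trans (hcomp J hJ)
  · obtain ⟨hne, rfl⟩ := h
    obtain ⟨-, h2, -⟩ := exists_diag hJ hsH hs hne
    intro m hm
    obtain ⟨k, hk, hmk⟩ := h2 m hm
    have h3 : m = (k * (s * k * s⁻¹)) * (m⁻¹ * (k * (s * k * s⁻¹)))⁻¹ := by group
    rw [h3]
    have h4 : s * k * s⁻¹ ∈ IntrinsicBasic.cj s J := conj_mem_cj hk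
    exact mul_mem (mul_mem (hcomp J hJ hk) (hcomp _ (isComp_cj_of_mem hJ hsH) h4))
      (inv_mem (hN.core_le_normalizer hmk))

/-! ### the quotients by the centres -/

/-- A surjection of quasisimple groups induces an isomorphism modulo the centres. -/
theorem equiv_mod_center {A B : Type u} [Group A] [Group B] (hA : IsQuasisimple A) (hB : IsQuasisimple B)
    (f : A →* B) (hf : Function.Surjective f) : Nonempty (A ⧸ center A ≃* B ⧸ center B) := by
  obtain ⟨g, hg⟩ : ∃ g : A →* B ⧸ center B, g = (QuotientGroup.mk' (center B)).comp f := ⟨_, rfl⟩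
  have hgs : Function.Surjective g := by
    rw [hg]; exact (QuotientGroup.mk'_surjective _).comp hf
  have hsB := hB.2
  have hsA := hA.2
  have hZ : center A ≤ g.ker := by
    intro z hz
    have h1 : g z ∈ center (B ⧸ center B) := by
      rw [mem_center_iff]
      intro y
      obtain ⟨w, rfl⟩ := hgs y
      rw [← map_mul, ← map_mul, mem_center_iff.mp hz w]
    rw [center_eq_bot (not_comm_of_quasisimple hB), mem_bot] at h1
    exact h1
  have hker : g.ker = center A := by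
    refine le_antisymm ?_ hZ
    have hn : (g.ker.map (QuotientGroup.mk' (center A))).Normal :=
      (MonoidHom.normal_ker g).map _ (QuotientGroup.mk'_surjective _)
    rcases hn.eq_bot_or_eq_top with h | h
    · intro k hk
      have h1 : QuotientGroup.mk' (center A) k ∈ g.ker.map (QuotientGroup.mk' (center A)) := ⟨k, hk, rfl⟩
      rw [h, mem_bot] at h1
      exact (QuotientGroup.eq_one_iff k).mp h1
    · exfalso
      have h1 : g.ker = ⊤ := by
        rw [eq_top_iff]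
        intro k _
        have h2 : QuotientGroup.mk' (center A) k ∈ g.ker.map (QuotientGroup.mk' (center A)) := by
          rw [h]; exact mem_top _
        obtain ⟨k', hk', he⟩ := h2
        have h3 : k'⁻¹ * k ∈ center A := (QuotientGroup.eq).mp he
        have h4 := mul_mem hk' (hZ h3)
        rwa [mul_inv_cancel_left] at h4
      have h2 := hsB.toNontrivial
      obtain ⟨y, hy⟩ := exists_ne (1 : B ⧸ center B)
      obtain ⟨w, rfl⟩ := hgs y
      apply hy
      rw [← MonoidHom.mem_ker, h1]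
      exact mem_top w
  exact ⟨(QuotientGroup.quotientMulEquivOfEq hker.symm).trans
    (QuotientGroup.quotientKerEquivOfSurjective g hgs)⟩

/-! ### the intrinsic triple -/

/-- The data of an intrinsic triple `(x, c, M)` above `(x, b, J)`. -/
structure Over (x c b : G) (M J : Subgroup G) : Prop where
  top : IsTriple x c M
  bot : IsTriple x b J
  mem : c ∈ J
  fix : Fixes c J
  comm : c * b = b * c
  le : cen J c ≤ M
  norm : b ∈ normalizer (M : Set G)

theorem Over.c_mem {x c b : G} {M J : Subgroup G} (O : Over x c b M J) : c ∈ M :=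
  O.le (mem_cen_of_sq O.mem rfl (sq_of_order O.top.inva))

/-- **A triple with `Z(L / O(L)) ≠ 1` gives an intrinsic triple.** -/
theorem exists_intrinsic {x a : G} {L : Subgroup G} (T : IsTriple x a L) (hZ : center (Bar L) ≠ ⊥) :
    ∃ (c b : G) (M J : Subgroup G), Over x c b M J ∧
      Nonempty (Bar J ⧸ center (Bar J) ≃* Bar L ⧸ center (Bar L)) := by
  by_cases haL : a ∈ L
  · have h2 : Fixes a L := fixes_self' T.comp.le
    exact ⟨a, a, L, L, ⟨T, T, haL, h2, rfl, cen_le L a, h2.1⟩, ⟨MulEquiv.refl _⟩⟩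
  obtain ⟨y, hyL, hy, hyx, hyF⟩ := exists_inv T hZ
  have hy2 := sq_of_order hy
  have ha2 := sq_of_order T.inva
  have hya : y * a = a * y := comm_c (T.comp.le hyL)
  obtain ⟨N, T1, h | ⟨hne, hdiag⟩⟩ := T.pump hy hya hyx hyF
  · exact ⟨y, a, N, L, ⟨T1, T, hyL, hyF, hya, h.2, h.1⟩, ⟨MulEquiv.refl _⟩⟩
  -- the diagonal case
  have haC : a ∈ centralizer ({y} : Set G) := mem_c hya.symm
  have hN := T1.comp
  have hNa := isComp_cj_of_mem hN haC
  obtain ⟨h1, h2, h3, h4, f, hf, hfk, -⟩ := exists_diag hN haC ha2 hne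
  have hiso : Nonempty (Bar N ⧸ center (Bar N) ≃* Bar L ⧸ center (Bar L)) := by
    obtain ⟨e, -⟩ := exists_quotEquiv (isComp_cen T.comp (mem_c hya) hy2 hyF).2
    have h5 : cen L y = diag (centralizer ({y} : Set G)) N a := hdiag
    obtain ⟨e', he'⟩ : ∃ e' : Bar (diag (centralizer ({y} : Set G)) N a) ≃* Bar L, True := by
      rw [← h5]; exact ⟨e, trivial⟩
    exact equiv_mod_center (quasisimple hN) (quasisimple T.comp) (e'.toMonoidHom.comp f)
      (e'.surjective.comp hf)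
  by_cases hyN : y ∈ N
  · have h5 : Fixes y N := fixes_self' hN.le
    exact ⟨y, y, N, N, ⟨T1, T1, hyN, h5, rfl, cen_le N y, h5.1⟩, hiso⟩
  have hyd : y ∈ diag (centralizer ({y} : Set G)) N a := by
    rw [← hdiag]
    exact mem_cen_of_sq hyL rfl hy2
  obtain ⟨k₀, hk₀, hk₀y⟩ := h2 y hyd
  have hyC : y ∈ centralizer ({y} : Set G) := mem_c rfl
  have hk₀C := hN.le hk₀
  have hk₀F : Fixes k₀ N := by
    have h5 := fixes_inv_mul hN haC hne hk₀ hyC hk₀y
    have h6 := (fixes_mul_iff_left (fixes_self' hN.le : Fixes y N)).mp h5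
    have h7 := fixes_inv h6
    rwa [inv_inv] at h7
  have hk₀n : k₀ ∉ core N := by
    intro h5
    have h6 := hN.core_le_core h5
    have h7 : a * k₀ * a⁻¹ ∈ core (centralizer ({y} : Set G)) := conj_core haC h6
    have h8 : y ∈ core (centralizer ({y} : Set G)) := by
      have h9 := mul_mem (mul_mem h6 h7) (inv_mem hk₀y)
      have h10 : k₀ * (a * k₀ * a⁻¹) * (y⁻¹ * (k₀ * (a * k₀ * a⁻¹)))⁻¹ = y := by group
      rwa [h10] at h9
    exact ne_one_of_order hy (eq_one_of_mem_core_sq h8 hy2)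
  have hZN : center (Bar N) ≠ ⊥ := by
    intro h5
    have h6 := mk_mem_center hk₀ hk₀F
    rw [h5, mem_bot, mk_eq_one_iff] at h6
    exact hk₀n h6
  obtain ⟨c, hcN, hc, hcx, hcF⟩ := exists_inv T1 hZN
  have hc2 := sq_of_order hc
  have hcy : c * y = y * c := comm_c (hN.le hcN)
  obtain ⟨N', T2, h | ⟨hne', -⟩⟩ := T1.pump hc hcy hcx hcF
  · exact ⟨c, y, N', N, ⟨T2, T1, hcN, hcF, hcy, h.2, h.1⟩, hiso⟩
  exfalso
  apply hne'
  apply mem_normalizer_iff_cj.mp
  -- the 2-element `k`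
  obtain ⟨m, hm⟩ := center_two N ⟨_, mk_mem_center hk₀ hk₀F⟩
  have hm' : k₀ ^ 2 ^ m ∈ core N := by
    have h5 := congrArg Subtype.val hm
    have h6 : (QuotientGroup.mk ⟨k₀ ^ 2 ^ m, pow_mem hk₀ _⟩ : Bar N) = 1 := h5
    exact (mk_eq_one_iff _).mp h6
  have hck : k₀⁻¹ * (c * k₀ * c⁻¹) ∈ core N := by
    have h5 := hcF.2 k₀ hk₀
    have h6 := (mem_normalizer_iff.mp (le_normalizer_core N (inv_mem hk₀)) _).mp h5
    convert h6 using 1
    rw [commutatorElement_def]
    group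
  obtain ⟨o, ho, hko, hkc⟩ := Intrinsic.Lifting.exists_two_element (n := 1) (odd_card_core N)
    (by rw [pow_one, pow_two, hc2]) (le_normalizer_core N hcN) (le_normalizer_core N hk₀) hm' hck
  obtain ⟨k, hk⟩ : ∃ k, k = k₀ * o := ⟨_, rfl⟩
  rw [← hk] at hko hkc
  have hkN : k ∈ N := hk ▸ mul_mem hk₀ (core_le N ho)
  have hky : k * y = y * k := comm_c (hN.le hkN)
  obtain ⟨w, hw⟩ : ∃ w, w = k⁻¹ * y := ⟨_, rfl⟩
  have hwc : w * c = c * w := by
    have h5 : Commute c k := hkc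
    have h6 : Commute c y := hcy
    rw [hw]
    exact ((h5.inv_right).mul_right h6).symm
  have hw2 : w ^ 2 ^ (m + 1) = 1 := by
    have h5 : Commute k⁻¹ y := (show Commute k y from hky).inv_left
    rw [hw, h5.mul_pow, inv_pow]
    have h6 : y ^ 2 ^ (m + 1) = 1 := by rw [pow_succ', pow_mul, pow_two, hy2, one_pow]
    rw [h6, mul_one, pow_succ, pow_mul, hko, one_pow, inv_one]
  have hwN : w ∈ IntrinsicBasic.cj a N := by
    refine hNa.mem_of_two (k := a * k₀ * a⁻¹) (conj_mem_cj hk₀) ?_ hw2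
    have hoC : o ∈ core (centralizer ({y} : Set G)) := hN.core_le_core ho
    have h5 : (a * k₀ * a⁻¹)⁻¹ * o⁻¹ * ((a * k₀ * a⁻¹)⁻¹)⁻¹ ∈ core (centralizer ({y} : Set G)) := by
      refine conj_core ?_ (inv_mem hoC)
      exact inv_mem (mul_mem (mul_mem haC hk₀C) (inv_mem haC))
    have h6 := mul_mem h5 (inv_mem hk₀y)
    convert h6 using 1
    rw [hw, hk]
    have h7 : k₀⁻¹ * y = y * k₀⁻¹ := by
      have h8 : Commute k₀ y := comm_c hk₀C
      exact h8.inv_left.eq
    group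
  have hcFa : Fixes c (IntrinsicBasic.cj a N) := hNa.fixes_of_mem hN hne hcN
  obtain ⟨hJ1, -⟩ := isComp_cen hN (mem_c hcy) hc2 hcF
  obtain ⟨hJ2, -⟩ := isComp_cen hNa (mem_c hcy) hc2 hcFa
  rw [inf_comm] at hJ1 hJ2
  have hyCc : y ∈ centralizer ({c} : Set G) := mem_c hcy.symm
  have h5 := norm_of_comp hyCc hy2 hJ1 T2.comp (mem_cen hkN hkc.symm hko)
  have h6 := norm_of_comp hyCc hy2 hJ2 T2.comp (mem_cen hwN hwc hw2)
  have h7 := mul_mem h5 h6
  rwa [hw, mul_inv_cancel_left] at h7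

end Cfsg.Agent.UGT.U2.ToIntr
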