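import Cfsg.Agent.Nodes.RelFrame
import Cfsg.Agent.Nodes.OppDec
import Cfsg.Agent.Nodes.ChartFrame
import Cfsg.Agent.OddHalf.NI.FTwo.Levi
import Cfsg.Agent.SignalizersComponents.CompBasic

/-!
# Subnormal `p`-subgroups in groups with root groups

`RGD cs h p T n X`.

* `eq_bot_of_subnormal` : a subnormal `p`-subgroup of `GG` is trivial;
* `eq_bot_of_levi` : the same for a `p`-subgroup commuting with `KK Z r` and subnormal in `C(z r)`.
-/

set_option autoImplicit false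
set_option linter.unusedSectionVars false

namespace Cfsg.Agent.UGT.U2.PCoreRGD

open Cfsg
open CoxeterSystem Cfsg.Agent.ChevalleyStructure.CoxeterGeom Cfsg.Agent.Tits.Roots Cfsg.Agent.Tits.Core
  Cfsg.Agent.Tits.RootComb Cfsg.Agent.Nodes.Comb Cfsg.Agent.Nodes.Reps Cfsg.Agent.Nodes.BNOf
  Cfsg.Agent.Nodes.RGDLib Cfsg.Agent.Nodes.Chart Cfsg.Agent.Nodes.Coroot Cfsg.Agent.Nodes.FreeTorus
  Cfsg.Agent.Nodes.SubComb Cfsg.Agent.Nodes.Bruhat Cfsg.Agent.Nodes.StabComb Cfsg.Agent.Nodes.Perp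
  Cfsg.Agent.Nodes.Sub Cfsg.Agent.Nodes.ClsSub Cfsg.Agent.Nodes.OppDec
open Cfsg.Agent.OddHalf.NI.FTwo (U_le_GG subnormal_cj_cent commute_cj)

variable {I W Y : Type*} [Fintype I] [DecidableEq I] [Group W] [Fintype W] [Group Y] {M : CoxeterMatrix I}
  {cs : CoxeterSystem M W} {A : I → I → ℤ} {h : IsCartan M A} {p : ℕ} {T : Subgroup Y} {n : I → Y}
  {X : (I → ℤ) → Subgroup Y} {R : Set (I → ℤ)} {Z : (I → ℤ) → Subgroup Y} {z : (I → ℤ) → Y}

/-- **A subnormal `p`-subgroup of `GG` is trivial.** -/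
theorem eq_bot_of_subnormal [Finite Y] [Fact p.Prime] (D : RGD cs h p T n X) {K : Subgroup Y}
    (hK : K ≤ GG cs h T X) (hs : (K.subgroupOf (GG cs h T X)).IsSubnormal) (hp : IsPGroup p K) : K = ⊥ := by
  set H := GG cs h T X with hH
  obtain ⟨Q, hQ⟩ : ∃ Q, Q = (pCore p ↥H).map H.subtype := ⟨_, rfl⟩
  have hQp : IsPGroup p Q := by
    rw [hQ]
    exact (Lib.Cores.pCore_isPGroup p).map _
  have hQH : Q ≤ H := hQ ▸ Subgroup.map_subtype_le _
  have hQn : ∀ g ∈ H, cj g Q = Q := by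
    intro g hg
    have h1 : (pCore p ↥H).Normal := Lib.Cores.pCore_normal p
    rw [← mem_normalizer_iff_cj]
    rw [Subgroup.mem_normalizer_iff]
    have key : ∀ g ∈ H, ∀ x ∈ Q, g * x * g⁻¹ ∈ Q := by
      intro g hg x hx
      rw [hQ] at hx ⊢
      obtain ⟨y, hy, rfl⟩ := hx
      exact ⟨_, h1.conj_mem y hy ⟨g, hg⟩, rfl⟩
    intro x
    constructor
    · exact key g hg x
    · intro hx
      have h2 := key g⁻¹ (inv_mem hg) _ hx
      have h3 : g⁻¹ * (g * x * g⁻¹) * g⁻¹⁻¹ = x := by group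
      rwa [h3] at h2
  have hKQ : K ≤ Q := by
    have h1 : K.subgroupOf H ≤ pCore p ↥H :=
      SignalizersComponents.CompBasic.subnormal_pGroup_le_pCore hs (hp.comap_subtype)
    intro x hx
    rw [hQ]
    exact ⟨⟨x, hK hx⟩, h1 hx, rfl⟩
  -- `Q ≤ U`
  obtain ⟨U, hU⟩ : ∃ U, U = RGD.Sup X (RGD.Pos cs h) := ⟨_, rfl⟩
  have hUp : IsPGroup p U := hU ▸ D.isPGroup_Upos
  have hUH : U ≤ H := hU ▸ U_le_GG
  have hQU : Q ≤ U := by
    have h1 : IsPGroup p (U ⊔ Q : Subgroup Y) := by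
      refine hUp.to_sup_of_normal_right' hQp ?_
      intro g hg
      rw [mem_normalizer_iff_cj]
      exact hQn g (hUH hg)
    have h2 := Nodes.NormalForm.eq_U_of_isPGroup D h1 (by rw [← hU]; exact le_sup_left) (sup_le hUH hQH)
    rw [hU, ← h2]
    exact le_sup_right
  -- `Q ≤ U⁻`
  have hQ1 : Q = ⊥ := by
    obtain ⟨k, hk⟩ := exists_rp cs D.nsys (w0 cs)
    have hkH : k ∈ H := NN_le_GG D ⟨_, hk⟩
    have h1 : Q ≤ UN cs h X := by
      rw [← cj_U D hk, ← hU, ← hQn k hkH]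
      exact cj_mono k hQU
    rw [eq_bot_iff, ← U_inf_UN D]
    exact le_inf (hU ▸ hQU) h1
  rw [eq_bot_iff, ← hQ1]
  exact hKQ

/-- the Levi subgroup of `r⊥` centralises the involution of `KK Z r` -/
theorem LJ_le (C : Cls cs h p T n X R Z z) {r : I → ℤ} (hr : r ∈ R) (hd : Dom A r) {d : Y} (hdK : d ∈ KK Z r)
    (hd2 : orderOf d = 2) (hu : ∀ t ∈ KK Z r, orderOf t = 2 → t = d) :
    LJ cs h T X (orth cs h r) ≤ Subgroup.centralizer {d} := by
  intro l hl
  have h1 := Nodes.ClsNorm.LJ_le_normalizer C hr hd hl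
  have h2 : cj l (KK Z r) = KK Z r := by
    rw [cj_KK, mem_normalizer_iff_cj.1 h1.1, mem_normalizer_iff_cj.1 h1.2]
    rfl
  have h3 : l * d * l⁻¹ ∈ KK Z r := by
    rw [← h2]
    exact conj_mem_cj.2 hdK
  have h4 : orderOf (l * d * l⁻¹) = 2 := by
    rw [← hd2]
    have := (MulAut.conj l).orderOf_eq d
    simpa using this
  have h5 := hu _ h3 h4
  rw [Subgroup.mem_centralizer_singleton_iff]
  calc l * d = l * d * l⁻¹ * l := by group
    _ = d * l := by rw [h5]

/-- the case of a dominant root -/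
theorem eq_bot_of_dom [Finite Y] [Fact p.Prime] (C : Cls cs h p T n X R Z z) (hG : GG cs h T X = ⊤)
    {r : I → ℤ} (hr : r ∈ R) {K E : Subgroup Y} (hLz : LJ cs h T X (orth cs h r) ≤ E)
    (hc : ∀ x ∈ K, ∀ y ∈ KK Z r, x * y = y * x)
    (hs : (K.subgroupOf E).IsSubnormal) (hp : IsPGroup p K) (hd : Dom A r) :
    K = ⊥ := by
  have hJL : K ≤ LJ cs h T X (orth cs h r) := by
    refine Nodes.Frame.le_LJ_of_centralizes C hr hd (by rw [hG]; exact le_top) (fun a ha b hb => ?_)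
      (fun a ha b hb => ?_)
    · exact hc a ha b (Subgroup.mem_sup_left hb)
    · exact hc a ha b (Subgroup.mem_sup_right hb)
  have hsub : (K.subgroupOf (LJ cs h T X (orth cs h r))).IsSubnormal := hs.comap (Subgroup.inclusion hLz)
  set K₀ : Set I := orth cs h r with hK₀
  have : DecidablePred (· ∈ K₀) := Classical.decPred _
  let f : K₀ ↪ I := Function.Embedding.subtype _
  have hfr : Set.range f = K₀ := Subtype.range_coe
  let cs' : CoxeterSystem (leviMatrix f M) (leviMatrix f M).Group := (leviMatrix f M).toCoxeterSystem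
  have hfin : Finite (leviMatrix f M).Group :=
    (levi_subSys (cs := cs) (h := h) f).finite cs' (levi_isCartan f h)
  let _ : Fintype (leviMatrix f M).Group := Fintype.ofFinite _
  have C' := cls_levi C f cs'
  set β : K₀ → I → ℤ := fun j => sr (f j) with hβ
  have hGG : GG cs' (levi_isCartan f h) T (fun c => X (iota β c)) = LJ cs h T X K₀ := by
    rw [GG_levi (cs := cs) (h := h) f cs' T X, hfr]
  exact eq_bot_of_subnormal C'.rgd (by rw [hGG]; exact hJL) (by rw [hGG]; exact hsub) hp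

/-- **A `p`-subgroup commuting with `KK Z r` and subnormal in `C(z r)` is trivial.** -/
theorem eq_bot_of_levi [Finite Y] [Fact p.Prime] (C : Cls cs h p T n X R Z z) (hG : GG cs h T X = ⊤)
    {r : I → ℤ} (hr : r ∈ R) {K : Subgroup Y} (hc : ∀ x ∈ K, ∀ y ∈ KK Z r, x * y = y * x)
    (hs : (K.subgroupOf (Subgroup.centralizer {z r})).IsSubnormal) (hp : IsPGroup p K) : K = ⊥ := by
  obtain ⟨w, hw⟩ := Nodes.ClsNorm.exists_dominant (cs := cs) (h := h) r
  obtain ⟨k, hk⟩ := exists_rp cs C.rgd.nsys w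
  have h1 : cj k K = ⊥ := by
    refine eq_bot_of_dom C hG (C.act r hr w) (E := Subgroup.centralizer {z (rep cs h w r)}) ?_ ?_ ?_ (hp.map _) hw
    · intro l hl
      rw [Subgroup.mem_centralizer_singleton_iff]
      exact (Nodes.ClsNorm.z_comm_LJ C (C.act r hr w) hw hl).symm
    · rw [← Nodes.Perp.conj_KK C hk hr, commute_cj]
      exact hc
    · rw [← Nodes.ClsNorm.conj_z C hk hr]
      exact subnormal_cj_cent k hs
  rw [eq_bot_iff]
  intro x hx
  have h2 : k * x * k⁻¹ ∈ cj k K := conj_mem_cj.2 hx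
  rw [h1, Subgroup.mem_bot] at h2
  rw [Subgroup.mem_bot]
  have h3 : x = k⁻¹ * (k * x * k⁻¹) * k := by group
  rw [h3, h2]; group

/-- **A `p`-subgroup commuting with `KK Z r` and subnormal in `C(d)`, `d` the involution of `KK Z r`, is trivial.** -/
theorem eq_bot_of_inv [Finite Y] [Fact p.Prime] (C : Cls cs h p T n X R Z z) (hG : GG cs h T X = ⊤)
    {r : I → ℤ} (hr : r ∈ R) {d : Y} (hdK : d ∈ KK Z r)
    (hd2 : orderOf d = 2) (hu : ∀ t ∈ KK Z r, orderOf t = 2 → t = d)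
    {K : Subgroup Y} (hc : ∀ x ∈ K, ∀ y ∈ KK Z r, x * y = y * x)
    (hs : (K.subgroupOf (Subgroup.centralizer {d})).IsSubnormal) (hp : IsPGroup p K) : K = ⊥ := by
  obtain ⟨w, hw⟩ := Nodes.ClsNorm.exists_dominant (cs := cs) (h := h) r
  obtain ⟨k, hk⟩ := exists_rp cs C.rgd.nsys w
  have hKK : cj k (KK Z r) = KK Z (rep cs h w r) := Nodes.Perp.conj_KK C hk hr
  have h1 : cj k K = ⊥ := by
    refine eq_bot_of_dom C hG (C.act r hr w) (E := Subgroup.centralizer {k * d * k⁻¹}) ?_ ?_ ?_ (hp.map _) hw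
    · refine LJ_le C (C.act r hr w) hw ?_ ?_ ?_
      · rw [← hKK]
        exact conj_mem_cj.2 hdK
      · rw [← hd2]
        have := (MulAut.conj k).orderOf_eq d
        simpa using this
      · intro t ht ht2
        rw [← hKK, mem_cj] at ht
        have h4 : orderOf (k⁻¹ * t * k) = 2 := by
          rw [← ht2]
          have := (MulAut.conj k⁻¹).orderOf_eq t
          simpa using this
        rw [← hu _ ht h4]
        group
    · rw [← hKK, commute_cj]
      exact hc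
    · exact subnormal_cj_cent k hs
  rw [eq_bot_iff]
  intro x hx
  have h2 : k * x * k⁻¹ ∈ cj k K := conj_mem_cj.2 hx
  rw [h1, Subgroup.mem_bot] at h2
  rw [Subgroup.mem_bot]
  have h3 : x = k⁻¹ * (k * x * k⁻¹) * k := by group
  rw [h3, h2]; group

end Cfsg.Agent.UGT.U2.PCoreRGD
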