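import Cfsg.Agent.UGT.U2.ThmXQ
import Cfsg.Agent.UGT.U2.PCoreRGD
import Cfsg.Agent.OddHalf.NI.FTwo.Entry
import Cfsg.Agent.OddHalf.NI.FTwo.HexEnd
import Cfsg.Agent.Lib.PSL2Mult
import Cfsg.Agent.ClassicalGeometry.PSL2Basic

/-!
# (F2') modulo cores: the cores of `A` and `B` are trivial

`N` quasisimple, `Z(N)` a 2-group, `c ∈ Z(N)`, `d ∉ Z(N)` involutions, `A ∋ c`, `B ∋ d` components of `C_N(d)` with
`A / O(A) ≃ B / O(B) ≃ SL₂(F)`, `|F| > 3` odd. Then `O(A) = O(B) = 1`: for `B` this is part of THEOREM T; by THEOREM T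
`N` has a chart in characteristic `p = char F`; an odd prime divisor of `|O(A)|` different from `p` is impossible since
the Sylow subgroups of `L₂(F)` are cyclic; and `O_p(C_N(d)) ∩ C(B) = 1`.
-/

set_option autoImplicit false

open Cfsg Subgroup
open Cfsg.Agent.SignalizersComponents Cfsg.Agent.Lib
open Cfsg.Agent.Intrinsic.Basic
open Cfsg.Agent.UGT.Iface (Bar)
open Cfsg.Agent.UGT.U2.ThmX (sq_of_order ne_one_of_order)
open Cfsg.Agent.UGT.U2.ThmXQ

namespace Cfsg.Agent.UGT.U2.CoreDeath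

universe u

/-- primes dividing `|O(A)|` -/
theorem prime_dvd_core {A : Type*} [Group A] [Finite A] (hq : IsQuasisimple A) {F : Type} [Field F] [Fintype F]
    (hF : Odd (Fintype.card F)) (h3 : 3 < Fintype.card F) (e : A ⧸ oddCore A ≃* Matrix.SpecialLinearGroup (Fin 2) F)
    {r : ℕ} (hr : r.Prime) (hrO : r ∣ Nat.card (oddCore A)) : r ∣ Fintype.card F := by
  by_contra hrF
  have hrf : Fact r.Prime := ⟨hr⟩
  have hodd : Odd (Nat.card (oddCore A)) :=
    Nat.coprime_two_right.1 (Lib.Cores.pPrimeCore_coprime (G := A) 2)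
  have hr2 : r ≠ 2 := by
    rintro rfl
    exact (Nat.not_even_iff_odd.2 hodd) (even_iff_two_dvd.2 hrO)
  let f : A →* Matrix.ProjectiveSpecialLinearGroup (Fin 2) F :=
    (QuotientGroup.mk' (center (Matrix.SpecialLinearGroup (Fin 2) F))).comp
      (e.toMonoidHom.comp (QuotientGroup.mk' (oddCore A)))
  have hf : Function.Surjective f := by
    refine (QuotientGroup.mk'_surjective _).comp ?_
    exact e.surjective.comp (QuotientGroup.mk'_surjective _)
  have hSLq : IsQuasisimple (Matrix.SpecialLinearGroup (Fin 2) F) :=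
    SLQuasisimple.isQuasisimple_two (by rw [Nat.card_eq_fintype_card]; omega)
  have hc : f.ker ≤ center A := by
    rcases LayerBasic.quasisimple_normal hq f.ker inferInstance with h | h
    · exfalso
      have h1 : ∀ x : Matrix.ProjectiveSpecialLinearGroup (Fin 2) F, x = 1 := by
        intro x
        obtain ⟨a, rfl⟩ := hf x
        exact MonoidHom.mem_ker.1 (by rw [h]; exact mem_top a)
      have h2 : Nontrivial (Matrix.ProjectiveSpecialLinearGroup (Fin 2) F) := hSLq.2.toNontrivial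
      obtain ⟨a, b, hab⟩ := h2
      exact hab ((h1 a).trans (h1 b).symm)
    · exact h
  have hA : commutator A = ⊤ := hq.1.commutator_eq_top
  have hG : commutator (Matrix.ProjectiveSpecialLinearGroup (Fin 2) F) = ⊤ := by
    rw [eq_top_iff]
    have h4 : (commutator A).map f = ⊤ := by
      rw [hA, ← MonoidHom.range_eq_map, MonoidHom.range_eq_top.2 hf]
    rw [← h4, commutator_def, commutator_def, map_commutator]
    exact commutator_mono le_top le_top
  refine Cfsg.Agent.S0102.result hG (fun P => PSL2Mult.isCyclic_sylow_psl hF hr2 hrF P) f hf hc hA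
    (hrO.trans (card_dvd_of_le ?_))
  intro x hx
  rw [MonoidHom.mem_ker]
  have h1 : (QuotientGroup.mk' (oddCore A)) x = 1 := (QuotientGroup.eq_one_iff x).2 hx
  change (QuotientGroup.mk' _) (e ((QuotientGroup.mk' (oddCore A)) x)) = 1
  rw [h1, map_one, map_one]

/-- the core is a `p`-group -/
theorem isPGroup_core {A : Type*} [Group A] [Finite A] (hq : IsQuasisimple A) {F : Type} [Field F] [Fintype F]
    (hF : Odd (Fintype.card F)) (h3 : 3 < Fintype.card F) (e : A ⧸ oddCore A ≃* Matrix.SpecialLinearGroup (Fin 2) F)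
    {p : ℕ} (hp : p.Prime) (hpF : p ∣ Fintype.card F) : IsPGroup p (oddCore A) := by
  have hpf : Fact p.Prime := ⟨hp⟩
  have h1 : ∀ r : ℕ, r.Prime → r ∣ Nat.card (oddCore A) → r = p := by
    intro r hr hrO
    have h2 := prime_dvd_core hq hF h3 e hr hrO
    obtain ⟨s, hs⟩ := CharP.exists F
    obtain ⟨n, hsp, hn⟩ := FiniteField.card F s
    rw [hn] at h2 hpF
    rw [(Nat.prime_dvd_prime_iff_eq hr hsp).1 (hr.dvd_of_dvd_pow h2),
      (Nat.prime_dvd_prime_iff_eq hp hsp).1 (hp.dvd_of_dvd_pow hpF)]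
  exact IsPGroup.of_card (Nat.eq_prime_pow_of_unique_prime_dvd Nat.card_pos.ne' (fun {r} hr hd => h1 r hr hd))

/-- central elements of `A ∋ c`, `A / O(A) ≃ SL₂(F)` -/
theorem central_odd {L : Type*} [Group L] [Finite L] {A : Subgroup L} {F : Type} [Field F] [Fintype F]
    (hF : Odd (Fintype.card F)) (e : Bar A ≃* Matrix.SpecialLinearGroup (Fin 2) F) {c : L} (hc : c ∈ A)
    (hc2 : orderOf c = 2) {y : L} (hy : y ∈ A) (hyc : ∀ a ∈ A, y * a = a * y) :
    Odd (orderOf y) ∨ Odd (orderOf (y * c)) := by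
  have hodd : ∀ x : L, ∀ hx : x ∈ A, (QuotientGroup.mk ⟨x, hx⟩ : Bar A) = 1 → Odd (orderOf x) := by
    intro x hx h
    have h1 : (⟨x, hx⟩ : ↥A) ∈ oddCore ↥A := (QuotientGroup.eq_one_iff _).1 h
    have h2 : Odd (Nat.card (oddCore ↥A)) := Nat.coprime_two_right.1 (Lib.Cores.pPrimeCore_coprime (G := ↥A) 2)
    have h3 := Subgroup.orderOf_dvd_natCard _ h1
    rw [Subgroup.orderOf_mk] at h3
    exact Odd.of_dvd_nat h2 h3
  have hec : e (QuotientGroup.mk ⟨c, hc⟩) = -1 := by
    have h1 : e (QuotientGroup.mk ⟨c, hc⟩) * e (QuotientGroup.mk ⟨c, hc⟩) = 1 := by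
      rw [← map_mul, ← QuotientGroup.mk_mul]
      have h2 : (⟨c, hc⟩ * ⟨c, hc⟩ : ↥A) = 1 := Subtype.ext (sq_of_order hc2)
      rw [h2, QuotientGroup.mk_one, map_one]
    rcases Lib.PSL2Inv.sq_eq_one (two_ne_zero hF) h1 with h2 | h2
    · exfalso
      rw [← map_one e] at h2
      have h3 := hodd c hc (e.injective h2)
      rw [hc2] at h3
      exact absurd h3 (by decide)
    · exact h2
  have hcen : e (QuotientGroup.mk ⟨y, hy⟩) ∈ center (Matrix.SpecialLinearGroup (Fin 2) F) := by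
    rw [mem_center_iff]
    intro g
    obtain ⟨q, rfl⟩ := e.surjective g
    obtain ⟨⟨a, ha⟩, rfl⟩ := QuotientGroup.mk'_surjective (oddCore ↥A) q
    rw [← map_mul, ← map_mul]
    congr 1
    change (QuotientGroup.mk (⟨a, ha⟩ * ⟨y, hy⟩ : ↥A) : Bar A) = QuotientGroup.mk (⟨y, hy⟩ * ⟨a, ha⟩ : ↥A)
    congr 1
    exact Subtype.ext (hyc a ha).symm
  rw [Cfsg.Agent.TwoFusion.QuatCoverSL.center_eq_zpowers hF] at hcen
  have h3 : e (QuotientGroup.mk ⟨y, hy⟩) * e (QuotientGroup.mk ⟨y, hy⟩) = 1 := by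
    have h4 := orderOf_dvd_of_mem_zpowers hcen
    rw [Cfsg.Agent.TwoFusion.QuatCoverSL.orderOf_neg_one hF] at h4
    rw [← pow_two]
    exact orderOf_dvd_iff_pow_eq_one.mp h4
  rcases Lib.PSL2Inv.sq_eq_one (two_ne_zero hF) h3 with h4 | h4
  · left
    rw [← map_one e] at h4
    exact hodd y hy (e.injective h4)
  · right
    refine hodd (y * c) (A.mul_mem hy hc) ?_
    apply e.injective
    change e (QuotientGroup.mk (⟨y, hy⟩ * ⟨c, hc⟩ : ↥A)) = e 1
    rw [QuotientGroup.mk_mul, map_mul, h4, hec, map_one, neg_mul_neg, one_mul]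

/-- `false_of_two` modulo cores -/
theorem false_of_hex {L : Type*} [Group L] [Finite L] (hX : OddHalf.NI.HexNo.HexFact (L ⧸ center L))
    {j2 : L} {J1 : Subgroup L} (h2 : j2 * j2 = 1)
    (h2c : j2 ∉ center L) (hJ : J1 ≤ centralizer ({j2} : Set L))
    (hsub : (J1.subgroupOf (centralizer ({j2} : Set L))).IsSubnormal) (hq : IsQuasisimple J1)
    (hodd : ∀ y ∈ J1, (∀ a ∈ J1, y * a = a * y) → ∃ s ∈ center L, Odd (orderOf (y * s))) : False := by
  classical
  let π : L →* L ⧸ center L := QuotientGroup.mk' (center L)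
  have hπ : ∀ g, π g = 1 ↔ g ∈ center L := fun g => QuotientGroup.eq_one_iff g
  have hx1 : π j2 ≠ 1 := fun h => h2c ((hπ _).1 h)
  have hx2 : π j2 * π j2 = 1 := by rw [← map_mul, h2, map_one]
  have hT := hX (π j2) hx2 hx1
  -- the preimage of the centraliser
  let D : Subgroup L := (centralizer ({π j2} : Set (L ⧸ center L))).comap π
  have hCD : centralizer ({j2} : Set L) ≤ D := by
    intro g hg
    rw [mem_comap, mem_centralizer_singleton_iff, ← map_mul, ← map_mul, mem_centralizer_singleton_iff.1 hg]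
  have hD : ∀ g ∈ D, ∃ c ∈ center L, g⁻¹ * j2 * g = c * j2 := by
    intro g hg
    rw [mem_comap, mem_centralizer_singleton_iff] at hg
    refine ⟨g⁻¹ * j2 * g * j2⁻¹, (hπ _).1 ?_, by group⟩
    rw [map_mul, map_mul, map_mul, map_inv, map_inv]
    calc (π g)⁻¹ * π j2 * π g * (π j2)⁻¹ = (π g)⁻¹ * (π j2 * π g) * (π j2)⁻¹ := by group
      _ = 1 := by rw [← hg]; group
  have hN : ((centralizer ({j2} : Set L)).subgroupOf D).Normal := by
    constructor
    intro a ha g
    rw [mem_subgroupOf, mem_centralizer_singleton_iff] at ha ⊢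
    obtain ⟨c, hc, hg⟩ := hD g g.2
    rw [mem_center_iff] at hc
    have h5 : (a : L) * ((g : L)⁻¹ * j2 * g) = (g : L)⁻¹ * j2 * g * a := by
      rw [hg, ← mul_assoc, hc, mul_assoc, ha, mul_assoc]
    change (g : L) * a * (g : L)⁻¹ * j2 = j2 * ((g : L) * a * (g : L)⁻¹)
    calc (g : L) * a * (g : L)⁻¹ * j2 = g * (a * ((g : L)⁻¹ * j2 * g)) * (g : L)⁻¹ := by group
      _ = _ := by rw [h5]; group
  have hJD : J1 ≤ D := hJ.trans hCD
  have hsub' : (J1.subgroupOf D).IsSubnormal := by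
    refine IsSubnormal.trans (K := (centralizer ({j2} : Set L)).subgroupOf D) (fun a ha => hJ ha) ?_ hN.isSubnormal
    let f' : ↥((centralizer ({j2} : Set L)).subgroupOf D) →* ↥(centralizer ({j2} : Set L)) :=
      { toFun := fun a => ⟨a.1.1, a.2⟩, map_one' := rfl, map_mul' := fun _ _ => rfl }
    exact hsub.comap f'
  -- the image
  let f : D →* centralizer ({π j2} : Set (L ⧸ center L)) :=
    { toFun := fun a => ⟨π a, a.2⟩, map_one' := rfl, map_mul' := fun _ _ => rfl }
  have hf : Function.Surjective f := by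
    rintro ⟨y, hy⟩
    obtain ⟨g, rfl⟩ := QuotientGroup.mk'_surjective (center L) y
    exact ⟨⟨g, hy⟩, rfl⟩
  have hJq : IsQuasisimple (J1.subgroupOf D) :=
    ComponentNormalize.quasisimple_congr (subgroupOfEquivOfLe hJD).symm hq
  have hnt : Nontrivial ↥((J1.subgroupOf D).map f) := by
    rw [Subgroup.nontrivial_iff_ne_bot]
    intro h0
    rw [eq_bot_iff, map_le_iff_le_comap] at h0
    apply Components.quasisimple_not_isMulCommutative hq
    refine ⟨⟨fun a b => Subtype.ext ?_⟩⟩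
    have h5 : f ⟨a, hJD a.2⟩ = 1 := mem_bot.1 (mem_comap.1 (h0 (show (⟨a, hJD a.2⟩ : D) ∈ J1.subgroupOf D from a.2)))
    have h6 : (a : L) ∈ center L := (hπ _).1 (congrArg Subtype.val h5)
    exact (mem_center_iff.1 h6 b).symm
  have hB : IsComponent ((J1.subgroupOf D).map f) :=
    ⟨hsub'.map hf, QuasisimpleQuotient.isQuasisimple_of_surjective (f.subgroupMap (J1.subgroupOf D))
      (f.subgroupMap_surjective _) hJq⟩
  refine hT.false_of_component hB ?_
  rintro ⟨y, hy, hyx⟩
  have hyJ : (y : L) ∈ J1 := hy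
  have hyx' : π y = π j2 := congrArg Subtype.val hyx
  -- `y` is central in `J1`
  have hyc : (⟨y, hyJ⟩ : J1) ∈ center J1 := by
    have hp : Group.IsPerfect J1 := hq.1
    have h5 : (QuotientGroup.mk' (center J1)) ⟨y, hyJ⟩ ∈ center (J1 ⧸ center J1) := by
      rw [mem_center_iff]
      intro w
      obtain ⟨a, rfl⟩ := QuotientGroup.mk'_surjective (center J1) w
      rw [← map_mul, ← map_mul, QuotientGroup.mk'_eq_mk']
      refine ⟨(a * ⟨y, hyJ⟩)⁻¹ * (⟨y, hyJ⟩ * a), ?_, by group⟩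
      rw [mem_center_iff]
      intro b
      apply Subtype.ext
      have h6 : ((a : L) * y)⁻¹ * (y * a) ∈ center L := by
        rw [← hπ, map_mul, map_inv, map_mul, map_mul, hyx', ← map_mul, ← map_mul,
          mem_centralizer_singleton_iff.1 (hJ a.2), inv_mul_cancel]
      exact mem_center_iff.1 h6 b
    rw [Group.IsPerfect.center_quotient_center_eq_bot, mem_bot] at h5
    exact (QuotientGroup.eq_one_iff _).1 h5
  obtain ⟨s, hs, ho⟩ := hodd y hyJ (fun a ha =>
    (congrArg Subtype.val (mem_center_iff.1 hyc ⟨a, ha⟩)).symm)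
  have h5 : π ((y : L) * s) = π j2 := by rw [map_mul, hyx', (hπ s).2 hs, mul_one]
  have h6 : orderOf (π j2) ∣ orderOf ((y : L) * s) := by rw [← h5]; exact orderOf_map_dvd π _
  have h7 : orderOf (π j2) ∣ 2 := orderOf_dvd_of_pow_eq_one (by rw [pow_two]; exact hx2)
  rcases (Nat.dvd_prime Nat.prime_two).1 h7 with h8 | h8
  · exact hx1 (orderOf_eq_one_iff.1 h8)
  · rw [h8] at h6
    exact (Nat.not_even_iff_odd.2 ho) (even_iff_two_dvd.2 h6)

/-! ### The main theorem -/

section Main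

open Cfsg.Agent.Cit (zz Hyp cls self_mem_cls TStmt HasPieces Piece OO)
open Cfsg.Agent.Nodes.Reps (cj mem_cj conj_mem_cj cj_mono cj_inv_cj)
open Cfsg.Agent.OddHalf.NI.FTwo (commutator_eq_of_quasisimple piece_top)

/-- `|SL₂(F)|` determines `|F|` -/
theorem card_eq_of_card_sl {F F' : Type} [Field F] [Fintype F] [Field F'] [Fintype F']
    (h : Nat.card (Matrix.SpecialLinearGroup (Fin 2) F) = Nat.card (Matrix.SpecialLinearGroup (Fin 2) F')) :
    Fintype.card F = Fintype.card F' := by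
  rw [ClassicalGeometry.PSL2Basic.card_SL2, ClassicalGeometry.PSL2Basic.card_SL2] at h
  have hmono : ∀ a b : ℕ, 1 < a → a < b → a * (a ^ 2 - 1) < b * (b ^ 2 - 1) := by
    intro a b ha hab
    have h1 : a ^ 2 < b ^ 2 := Nat.pow_lt_pow_left hab (by norm_num)
    have h2 : a ^ 2 - 1 < b ^ 2 - 1 := by
      have : 1 ≤ a ^ 2 := Nat.one_le_pow _ _ (by omega)
      omega
    exact Nat.mul_lt_mul'' hab h2
  have hF : 1 < Fintype.card F := Fintype.one_lt_card
  have hF' : 1 < Fintype.card F' := Fintype.one_lt_card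
  rcases lt_trichotomy (Fintype.card F) (Fintype.card F') with h1 | h1 | h1
  · exact absurd h (hmono _ _ hF h1).ne
  · exact h1
  · exact absurd h.symm (hmono _ _ hF' h1).ne

theorem sub_core {N : Type*} [Group N] {A C : Subgroup N} (hs : (A.subgroupOf C).IsSubnormal) :
    ((core A).subgroupOf C).IsSubnormal := by
  have h1 : (core A).subgroupOf C ≤ A.subgroupOf C := fun x hx => core_le A hx
  refine IsSubnormal.trans h1 ?_ hs
  have h2 : (((core A).subgroupOf C).subgroupOf (A.subgroupOf C)).Normal := by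
    constructor
    intro x hx g
    have hx' : ((x : C) : N) ∈ core A := hx
    have hg' : ((g : C) : N) ∈ A := g.2
    change ((g : C) : N) * ((x : C) : N) * ((g : C) : N)⁻¹ ∈ core A
    exact conj_mem_core (le_normalizer hg') hx'
  exact h2.isSubnormal

variable {N : Type u} [Group N] [Finite N]

omit [Finite N] in
theorem core_eq_bot_iff {A : Subgroup N} : core A = ⊥ ↔ oddCore ↥A = ⊥ := by
  constructor
  · intro h
    rwa [core, Subgroup.map_eq_bot_iff_of_injective _ A.subtype_injective] at h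
  · intro h
    rw [core, h, Subgroup.map_bot]

/-- **The cores of `A` and `B` are trivial.** -/
theorem core_bot (hT : TStmt.{u}) (hN : IsQuasisimple N) (hc : IsPGroup 2 ↥(center N)) {F : Type} [Field F]
    [Fintype F] (hF : Odd (Fintype.card F)) (h3 : 3 < Fintype.card F) {c d : N} (hcc : c ∈ center N)
    (hc2 : orderOf c = 2) (hd : orderOf d = 2) (hdc : d ∉ center N) {A B : Subgroup N} (hcA : c ∈ A)
    (hdB : d ∈ B) (hAB : A ≠ B) (hA : IsComp (centralizer ({d} : Set N)) A)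
    (hB : IsComp (centralizer ({d} : Set N)) B) (qA : IsQuasisimple ↥A) (qB : IsQuasisimple ↥B)
    (eA : QSL F A) (eB : QSL F B) : oddCore ↥A = ⊥ ∧ oddCore ↥B = ⊥ := by
  obtain ⟨fA⟩ := eA
  obtain ⟨fB⟩ := eB
  have hp2 : Fact (Nat.Prime 2) := ⟨Nat.prime_two⟩
  have hperf : ⁅B, B⁆ = B := commutator_eq_of_quasisimple qB
  have hbig : Cit.Seven.IsBig (↥B ⧸ oddCore ↥B) := Or.inl ⟨F, inferInstance, inferInstance, hF, h3, ⟨fB⟩⟩
  obtain ⟨hOm, hzz⟩ := Cit.Seven.hyp_of_comp d hd B hB.le hdB hB.2 hbig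
  have hTy : Cit.Ty B := Or.inr ⟨Or.inl ⟨F, inferInstance, inferInstance, hF, ⟨fB⟩⟩, hperf⟩
  have hTT := hT N (cls B) hOm (fun J hJ => by
    obtain ⟨g, rfl⟩ := hJ
    exact hTy.map_of_injective (MulAut.conj g).toMonoidHom (MulAut.conj g).injective) (Cit.uni_cls B)
  have hP := (Cit.tt_iff_hasPieces hOm (OddHalf.NI.FTwo.core_eq_bot hN hc hd)).1 hTT
  have hOB : oddCore ↥B = ⊥ := core_eq_bot_iff.1 (hP.core B (self_mem_cls B))
  refine ⟨?_, hOB⟩
  have hpiece := piece_top hN hOm ⟨B, self_mem_cls B⟩ hP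
  have eB : ↥B ≃* Matrix.SpecialLinearGroup (Fin 2) F :=
    ((QuotientGroup.quotientMulEquivOfEq hOB).trans QuotientGroup.quotientBot).symm.trans fB
  -- `A` and `B` commute
  have hcomm : ∀ a ∈ A, ∀ b ∈ B, a * b = b * a := by
    have h1 : IsComponent (A.subgroupOf (centralizer ({d} : Set N))) :=
      ⟨(isComp_iff.mp hA).2.1, Components.isQuasisimple_of_mulEquiv (subgroupOfEquivOfLe hA.le).symm qA⟩
    have h2 : IsComponent (B.subgroupOf (centralizer ({d} : Set N))) :=
      ⟨(isComp_iff.mp hB).2.1, Components.isQuasisimple_of_mulEquiv (subgroupOfEquivOfLe hB.le).symm qB⟩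
    have hne : A.subgroupOf (centralizer ({d} : Set N)) ≠ B.subgroupOf (centralizer ({d} : Set N)) := by
      intro h4
      apply hAB
      have h5 := congrArg (Subgroup.map (centralizer ({d} : Set N)).subtype) h4
      rwa [map_subgroupOf_eq_of_le hA.le, map_subgroupOf_eq_of_le hB.le] at h5
    have h4 := Components.component_le_centralizer_of_ne h1 h2 hne
    intro a ha b hb
    have h5 := mem_centralizer_iff.1
      (h4 (show (⟨a, hA.le ha⟩ : ↥(centralizer ({d} : Set N))) ∈ A.subgroupOf _ from ha)) ⟨b, hB.le hb⟩ hb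
    exact (congrArg Subtype.val h5).symm
  cases hpiece with
  | single mem =>
    exfalso
    obtain ⟨g, hg⟩ := mem
    apply hdc
    have h1 : B = ⊤ := by
      rw [eq_top_iff]
      intro x _
      have h2 : g * x * g⁻¹ ∈ Cit.cj g B := by rw [← hg]; exact mem_top _
      exact Nodes.Reps.conj_mem_cj.1 h2
    rw [mem_center_iff]
    intro x
    have h2 : x ∈ centralizer ({d} : Set N) := hB.le (by rw [h1]; exact mem_top x)
    exact mem_centralizer_singleton_iff.1 h2
  | mathieu qs two iso ne mem =>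
    exfalso
    obtain ⟨e⟩ := mem B (self_mem_cls B) le_top
    have h1 := Nat.card_congr (fB.symm.trans e).toEquiv
    have h2 := card_eq_of_card_sl (F := F) (F' := ZMod 3) h1
    rw [ZMod.card] at h2
    omega
  | exc qs two p prime odd iso ne zzc three =>
    exfalso
    have hX : OddHalf.NI.HexNo.HexFact (N ⧸ center N) := by
      have h1 := OddHalf.NI.HexNo.hexFact_of_isG2D4 odd iso
      refine h1.congr (QuotientGroup.congr _ _ Subgroup.topEquiv ?_)
      ext x
      rw [mem_map]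
      constructor
      · rintro ⟨y, hy, rfl⟩
        rw [mem_center_iff] at hy ⊢
        intro z
        exact congrArg Subtype.val (hy ⟨z, mem_top z⟩)
      · intro hx
        refine ⟨⟨x, mem_top x⟩, ?_, rfl⟩
        rw [mem_center_iff] at hx ⊢
        intro z
        exact Subtype.ext (hx z)
    refine false_of_hex hX (sq_of_order hd) hdc hA.le (isComp_iff.mp hA).2.1 qA (fun y hy hyc => ?_)
    rcases central_odd hF fA hcA hc2 hy hyc with h1 | h1
    · exact ⟨1, one_mem _, by rwa [mul_one]⟩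
    · exact ⟨c, hcc, h1⟩
  | chart nmem qs two p C τ kind ok small sl zx =>
    obtain ⟨F', i1, i2, hchar, hsl⟩ := sl
    obtain ⟨r, hr, g, -, hBg⟩ := C.om_conj B (self_mem_cls B) le_top
    have hpp : Fact p.Prime := ⟨C.prime⟩
    -- `p ∣ |F|`
    have hcF : Fintype.card F = Fintype.card F' := by
      apply card_eq_of_card_sl
      obtain ⟨e'⟩ := hsl r hr
      have h1 : Nat.card ↥B = Nat.card ↥(C.Z r ⊔ C.Z (-r)) := by
        conv_lhs => rw [hBg]
        exact Subgroup.card_map_of_injective (MulAut.conj g).injective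
      rw [← Nat.card_congr eB.toEquiv, h1, Nat.card_congr e'.toEquiv]
    have hpF : p ∣ Fintype.card F := by
      obtain ⟨n, -, hn⟩ := FiniteField.card F' p
      rw [hcF, hn]
      exact dvd_pow_self p n.ne_zero
    have hPO : IsPGroup p ↥(core A) := (isPGroup_core qA hF h3 fA C.prime hpF).map _
    rw [← core_eq_bot_iff]
    -- move to the classical subgroup of `r`
    have hKB : Nodes.Perp.KK C.Z r = cj g⁻¹ B := by
      have h1 := congrArg (cj g⁻¹) hBg
      exact ((h1.trans (cj_inv_cj _ _))).symm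
    have hK0 : cj g⁻¹ (core A) = ⊥ := by
      refine PCoreRGD.eq_bot_of_inv C.cls (Nodes.ChartFrame.GG_eq C) hr (d := g⁻¹ * d * g⁻¹⁻¹) ?_ ?_ ?_ ?_ ?_
        (hPO.map _)
      · rw [hKB]; exact conj_mem_cj.2 hdB
      · rw [← hd]
        have := (MulAut.conj g⁻¹).orderOf_eq d
        simpa using this
      · intro t ht ht2
        rw [hKB, mem_cj] at ht
        have h1 : orderOf (g⁻¹⁻¹ * t * g⁻¹) = 2 := by
          rw [← ht2]
          have := (MulAut.conj g⁻¹⁻¹).orderOf_eq t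
          simpa using this
        have h2 := hOm.uniq B (self_mem_cls B) _ ht h1
        rw [hzz] at h2
        rw [← h2]; group
      · rw [hKB]
        intro x hx y hy
        rw [mem_cj] at hx hy
        have h1 := hcomm _ (core_le A hx) _ hy
        have h2 := congrArg (fun w => g⁻¹ * w * g⁻¹⁻¹) h1
        have e1 : g⁻¹ * (g⁻¹⁻¹ * x * g⁻¹ * (g⁻¹⁻¹ * y * g⁻¹)) * g⁻¹⁻¹ = x * y := by group
        have e2 : g⁻¹ * (g⁻¹⁻¹ * y * g⁻¹ * (g⁻¹⁻¹ * x * g⁻¹)) * g⁻¹⁻¹ = y * x := by group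
        calc x * y = g⁻¹ * (g⁻¹⁻¹ * x * g⁻¹ * (g⁻¹⁻¹ * y * g⁻¹)) * g⁻¹⁻¹ := e1.symm
          _ = g⁻¹ * (g⁻¹⁻¹ * y * g⁻¹ * (g⁻¹⁻¹ * x * g⁻¹)) * g⁻¹⁻¹ := h2
          _ = y * x := e2
      · exact OddHalf.NI.FTwo.subnormal_cj_cent g⁻¹ (sub_core (isComp_iff.mp hA).2.1)
    rw [eq_bot_iff]
    intro x hx
    have h2 : g⁻¹ * x * g⁻¹⁻¹ ∈ cj g⁻¹ (core A) := conj_mem_cj.2 hx
    rw [hK0, mem_bot] at h2
    rw [mem_bot]
    have h4 : x = g * (g⁻¹ * x * g⁻¹⁻¹) * g⁻¹ := by group
    rw [h4, h2]; group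

end Main

end Cfsg.Agent.UGT.U2.CoreDeath
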