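import Cfsg.Agent.UGT.U2.ToIntr
import Cfsg.Agent.OddHalf.NI.CovTwo
import Cfsg.Agent.OddHalf.CoverAlt
import Cfsg.Agent.KFacts.MulHe.Main
import Cfsg.Agent.S1695

/-!
# The types `L / O(L)` of the triples

`cases`: a quasisimple group `M` with `Z(M)` a 2-group and `M / Z(M)` on the list of S1311 is `PSL₂(q)`, `SL₂(q)` (`q ≥ 5`
odd), `Aₙ`, `2.Aₙ` (`n ≥ 7` odd), a cover of `PSL₃(4)`, `He`, or `M / Z(M)` is of Lie type in odd characteristic and not
`PSL₂(q)`.
-/

set_option autoImplicit false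

open Cfsg Subgroup
open Cfsg.Agent.FixBN.BTheorem Cfsg.Agent.FixBN.BRelative
open Cfsg.Agent.UGT.Iface
open Cfsg.Agent.UGT.U2.TypeOf
open scoped commutatorElement

namespace Cfsg.Agent.UGT.U2.Covers

universe u v

/-- `SL₂(q)`, `q ≥ 5` odd -/
def IsSLodd (K : Type*) [Group K] : Prop := ∃ (F : Type) (_ : Field F) (_ : Fintype F),
  Odd (Fintype.card F) ∧ 5 ≤ Fintype.card F ∧ Nonempty (K ≃* Matrix.SpecialLinearGroup (Fin 2) F)

/-- `2.Aₙ`, `n ≥ 7` odd -/
def IsTwoAlt (K : Type*) [Group K] : Prop :=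
  ∃ n : ℕ, Odd n ∧ 7 ≤ n ∧ IsNonsplitDoubleCover K ↥(alternatingGroup (Fin n))

/-- of Lie type in odd characteristic, not `PSL₂(q)` -/
def IsLieRank (K : Type u) [Group K] : Prop := (∃ p : ℕ, p.Prime ∧ p ≠ 2 ∧ IsLieTypeChar p K) ∧ ¬ IsL2 K

/-- `M ≃ M / Z(M)` if `Z(M) = 1` -/
noncomputable def equivOfBot {M : Type*} [Group M] (h : center M = ⊥) : M ≃* M ⧸ center M :=
  (QuotientGroup.quotientBot.symm).trans (QuotientGroup.quotientMulEquivOfEq h.symm)

/-- a perfect group with nontrivial centre is not split over its centre -/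
theorem not_split {M : Type*} [Group M] (hp : commutator M = ⊤) (hZ : center M ≠ ⊥) (L : Subgroup M) :
    ¬ (center M).IsComplement' L := by
  intro hc
  have hsup : center M ⊔ L = ⊤ := hc.sup_eq_top
  have hn : L.Normal := by
    rw [← Subgroup.normalizer_eq_top_iff, eq_top_iff, ← hsup, sup_le_iff]
    refine ⟨fun z hz => ?_, le_normalizer⟩
    rw [mem_normalizer_iff]
    intro l
    have : z * l * z⁻¹ = l := by
      rw [← mem_center_iff.mp hz l, mul_inv_cancel_right]
    rw [this]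
  have h1 : commutator M ≤ L := by
    rw [commutator_def, commutator_le]
    intro a _ b _
    have key : ∀ g : M, ∃ l ∈ L, ∃ z ∈ center M, g = z * l := by
      intro g
      have hg : g ∈ center M ⊔ L := by rw [hsup]; exact mem_top g
      obtain ⟨z, hz, l, hl, rfl⟩ := mem_sup_of_normal_right.mp hg
      exact ⟨l, hl, z, hz, rfl⟩
    obtain ⟨l, hl, z, hz, rfl⟩ := key a
    obtain ⟨l', hl', z', hz', rfl⟩ := key b
    have c1 : ∀ g : M, g * z = z * g := fun g => mem_center_iff.mp hz g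
    have c2 : ∀ g : M, g * z' = z' * g := fun g => mem_center_iff.mp hz' g
    have : ⁅z * l, z' * l'⁆ = ⁅l, l'⁆ := by
      rw [commutatorElement_def, commutatorElement_def, mul_inv_rev, mul_inv_rev]
      calc z * l * (z' * l') * (l⁻¹ * z⁻¹) * (l'⁻¹ * z'⁻¹)
          = z * (l * z') * l' * l⁻¹ * z⁻¹ * l'⁻¹ * z'⁻¹ := by group
        _ = z * (z' * l) * l' * l⁻¹ * z⁻¹ * l'⁻¹ * z'⁻¹ := by rw [c2 l]
        _ = (z * (z' * l * l' * l⁻¹)) * z⁻¹ * l'⁻¹ * z'⁻¹ := by group
        _ = ((z' * l * l' * l⁻¹) * z) * z⁻¹ * l'⁻¹ * z'⁻¹ := by rw [c1]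
        _ = z' * (l * l' * l⁻¹ * l'⁻¹) * z'⁻¹ := by group
        _ = (l * l' * l⁻¹ * l'⁻¹) * z' * z'⁻¹ := by rw [← c2]
        _ = _ := by group
    rw [this, commutatorElement_def]
    exact mul_mem (mul_mem (mul_mem hl hl') (inv_mem hl)) (inv_mem hl')
  rw [hp, top_le_iff] at h1
  apply hZ
  have h2 := hc.disjoint
  rw [h1, disjoint_top] at h2
  exact h2

theorem twoAlt {M : Type*} [Group M] [Finite M] (hq : IsQuasisimple M) (h2 : IsPGroup 2 ↥(center M))
    (hZ : center M ≠ ⊥) {n : ℕ} (hn : 5 ≤ n) (e : M ⧸ center M ≃* ↥(alternatingGroup (Fin n))) :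
    IsNonsplitDoubleCover M ↥(alternatingGroup (Fin n)) := by
  have h1 := OddHalf.CoverAlt.card_le_two hq.1.commutator_eq_top (center M) le_rfl h2 hn e
  have h3 : Nat.card ↥(center M) ≠ 1 := fun h => hZ (Subgroup.card_eq_one.mp h)
  have h4 : 0 < Nat.card ↥(center M) := Nat.card_pos
  exact ⟨by omega, ⟨e⟩, fun L => not_split hq.1.commutator_eq_top hZ L⟩

/-- a cover of `He` with centre a 2-group is trivial -/
theorem he_center {M : Type u} [Group M] [Finite M] (hq : IsQuasisimple M) (h2 : IsPGroup 2 ↥(center M))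
    (h : Spor.IsoHe (M ⧸ center M)) : center M = ⊥ := by
  obtain ⟨e⟩ := h
  let f : M →* Spor.He := e.toMonoidHom.comp (QuotientGroup.mk' (center M))
  have hker : f.ker = center M := by
    ext x
    rw [MonoidHom.mem_ker]
    change e (QuotientGroup.mk x) = 1 ↔ _
    rw [e.map_eq_one_iff, QuotientGroup.eq_one_iff]
  have hodd := KFacts.MulDef.NoDouble.odd_card KFacts.MulHe.Main.noDouble hq.1.commutator_eq_top
    (f := f) (e.surjective.comp (QuotientGroup.mk'_surjective _)) hker.le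
  rw [hker] at hodd
  have h3 : Fact (Nat.Prime 2) := ⟨Nat.prime_two⟩
  obtain ⟨k, hk⟩ := IsPGroup.iff_card.mp h2
  rw [← Subgroup.card_eq_one]
  rcases Nat.eq_zero_or_pos k with h0 | h0
  · rw [hk, h0, pow_zero]
  · exfalso
    rw [hk, Nat.odd_pow_iff h0.ne'] at hodd
    exact absurd hodd (by decide)

/-- **The types.** -/
theorem cases {M : Type u} [Group M] [Finite M] (hq : IsQuasisimple M) (h2 : IsPGroup 2 ↥(center M))
    (hU : InU (M ⧸ center M)) :
    IsL2 M ∨ IsSLodd M ∨ IsAltOdd M ∨ IsTwoAlt M ∨ IsL34 (M ⧸ center M) ∨ Spor.IsoHe M ∨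
      IsLieRank (M ⧸ center M) := by
  rcases hU with h | ⟨n, h1, h7, ⟨e⟩⟩ | h | h
  · by_cases hL : IsL2 (M ⧸ center M)
    · obtain ⟨F, i1, i2, ho, h5, ⟨e⟩⟩ := hL
      by_cases hZ : center M = ⊥
      · exact Or.inl ⟨F, i1, i2, ho, h5, ⟨(equivOfBot hZ).trans e⟩⟩
      · obtain ⟨y, hy, hy1⟩ : ∃ y ∈ center M, y ≠ 1 := by
          by_contra hcon
          push Not at hcon
          exact hZ ((eq_bot_iff_forall _).2 hcon)
        exact Or.inr (Or.inl ⟨F, i1, i2, ho, h5,
          OddHalf.NI.CovTwo.equiv_sl ho hq.1.commutator_eq_top h2 e hy hy1⟩)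
    · exact Or.inr (Or.inr (Or.inr (Or.inr (Or.inr (Or.inr ⟨h, hL⟩)))))
  · by_cases hZ : center M = ⊥
    · exact Or.inr (Or.inr (Or.inl ⟨n, h1, h7, ⟨(equivOfBot hZ).trans e⟩⟩))
    · exact Or.inr (Or.inr (Or.inr (Or.inl ⟨n, h1, h7, twoAlt hq h2 hZ (by omega) e⟩)))
  · exact Or.inr (Or.inr (Or.inr (Or.inr (Or.inl h))))
  · have hZ := he_center hq h2 h
    obtain ⟨e⟩ := h
    exact Or.inr (Or.inr (Or.inr (Or.inr (Or.inr (Or.inl ⟨(equivOfBot hZ).trans e⟩)))))

/-! ### trivial centres -/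

theorem center_congr {M : Type*} {N : Type*} [Group M] [Group N] (e : M ≃* N) (h : center N = ⊥) :
    center M = ⊥ := by
  rw [eq_bot_iff]
  intro z hz
  have h1 : e z ∈ center N := by
    rw [mem_center_iff]
    intro y
    obtain ⟨w, rfl⟩ := e.surjective y
    rw [← map_mul, ← map_mul, mem_center_iff.mp hz w]
  rw [h, mem_bot] at h1
  rw [mem_bot]
  exact (MulEquiv.map_eq_one_iff e).mp h1

/-- a quasisimple group with simple image is simple: `M ≃ N`, `N` simple nonabelian -/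
theorem center_of_simple {M : Type*} [Group M] (hs : IsSimpleGroup M) (hp : commutator M = ⊤) :
    center M = ⊥ := by
  refine center_eq_bot fun hcm => ?_
  have h1 : commutator M = ⊥ := by
    rw [commutator_def, Subgroup.commutator_eq_bot_iff_le_centralizer]
    intro a _
    rw [mem_centralizer_iff]
    intro b _
    exact hcm.is_comm.comm _ _
  rw [hp] at h1
  have := hs.toNontrivial
  exact top_ne_bot h1

theorem center_alt {M : Type*} [Group M] (hp : commutator M = ⊤) (h : IsAltOdd M) : center M = ⊥ := by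
  obtain ⟨n, -, h7, ⟨e⟩⟩ := h
  have hs : IsSimpleGroup ↥(alternatingGroup (Fin n)) :=
    alternatingGroup.isSimpleGroup (by rw [Nat.card_fin]; omega)
  exact center_of_simple (simple_congr e.symm hs) hp

theorem center_L2 {M : Type*} [Group M] (hp : commutator M = ⊤) (h : IsL2 M) : center M = ⊥ := by
  obtain ⟨F, _, _, ho, h5, ⟨e⟩⟩ := h
  have hs : IsSimpleGroup (Matrix.ProjectiveSpecialLinearGroup (Fin 2) F) :=
    Matrix.ProjectiveSpecialLinearGroup.rank_two_simple (by rw [Nat.card_eq_fintype_card]; omega)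
  exact center_of_simple (simple_congr e.symm hs) hp

theorem center_he {M : Type*} [Group M] (hp : commutator M = ⊤) (h : Spor.IsoHe M) : center M = ⊥ := by
  obtain ⟨e⟩ := h
  have h1 : IsSimpleGroup Cfsg.Spor.He := Cfsg.Agent.S1695.result.1
  exact center_of_simple (simple_congr e.symm h1) hp

end Cfsg.Agent.UGT.U2.Covers
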