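import Cfsg.Agent.UGT.Iface
import Cfsg.Agent.OddHalf.NI.Props
import Cfsg.Agent.UGT.U2.FOne.Defs

/-!
# Node U2 of S1311: the Props of the Lie rows (head helper992; ruling bb UGT #10940, #13085)

* `FK K`: (f1) for the simple group `K`, and `K` is of large Lie type if the field has more than three elements.
* `FAll`: (f1) for all simple groups of Lie type in odd characteristic except `L₂(q)` (and the groups in `Ex`).
-/

set_option autoImplicit false

open Cfsg Subgroup
open Cfsg.Agent.OddHalf.NI (LieBig)
open Cfsg.Agent.UGT.Iface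

namespace Cfsg.Agent.UGT.U2.Defs

universe u

/-- **(f1)** for `K`, with the parameter `q` of the field. -/
def FK (K : Type*) [Group K] : Prop := ∃ q : ℕ, FOne.F1D q K ∧ (3 < q → LieBig K)

/-- **(f1)** for all `K` of Lie type in odd characteristic, `K ≠ L₂(q)`, outside `Ex` (the Ree groups). -/
def FAll (Ex : ∀ (K : Type u) [Group K], Prop) : Prop :=
  ∀ (K : Type u) [Group K] [Finite K], IsSimpleGroup K →
    (∃ p : ℕ, p.Prime ∧ p ≠ 2 ∧ IsLieTypeChar p K) → ¬ IsL2 K → ¬ Ex K → FK K

end Cfsg.Agent.UGT.U2.Defs
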