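import Cfsg.Agent.UGT.U2.CoreDeath
import Cfsg.Agent.UGT.U2.World
import Cfsg.Agent.OddHalf.NI.FTwo.F2

/-!
# (F2') for quasisimple core-free groups with the B-property

* `f2N` : `F2N F (ChartB3 F)` for every field `F` of odd order `> 3`.
-/

set_option autoImplicit false

open Cfsg Subgroup
open Cfsg.Agent.SignalizersComponents Cfsg.Agent.Lib
open Cfsg.Agent.Intrinsic.Basic
open Cfsg.Agent.UGT.Iface (Bar)
open Cfsg.Agent.UGT.U2.ThmXQ
open Cfsg.Agent.Cit (TStmt)
open Cfsg.Agent.OddHalf.NI (CompIn)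
open Cfsg.Agent.OddHalf.NI.FTwo (SL ChartB3)

namespace Cfsg.Agent.UGT.U2.FTwoN

universe u

theorem sl_of_core_bot {F : Type} [Field F] [Fintype F] (hF : Odd (Fintype.card F)) (h3 : 3 < Fintype.card F)
    {N : Type*} [Group N] {A : Subgroup N} (h : QSL F A) (hO : oddCore ↥A = ⊥) : SL F ↥A := by
  obtain ⟨f⟩ := h
  exact ⟨hF, h3, ⟨((QuotientGroup.quotientMulEquivOfEq hO).trans QuotientGroup.quotientBot).symm.trans f⟩⟩

theorem compIn_of_isComp {N : Type*} [Group N] [Finite N] {H A : Subgroup N} (hA : IsComp H A)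
    (qA : IsQuasisimple ↥A) : CompIn H A :=
  ⟨hA.le, (isComp_iff.mp hA).2.1, Components.isQuasisimple_of_mulEquiv (subgroupOfEquivOfLe hA.le).symm qA⟩

theorem isComp_of_compIn {N : Type*} [Group N] [Finite N] {H A : Subgroup N} (hA : CompIn H A)
    (h2 : 2 ∣ Nat.card ↥A) : IsComp H A := by
  have hp : Fact (Nat.Prime 2) := ⟨Nat.prime_two⟩
  refine ⟨hA.le, EvenComponent.isPComponent_of_isComponent hA.comp ?_⟩
  rwa [Nat.card_congr (subgroupOfEquivOfLe hA.le).toEquiv]

/-- **(F2')** for a consequence `S7` of the chart -/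
theorem f2N_of (hT : TStmt.{u}) (F : Type) [Field F] [Fintype F] (hF : Odd (Fintype.card F))
    (h3 : 3 < Fintype.card F) {S7 : ∀ (N : Type u) [Group N], N → N → Subgroup N → Subgroup N → Subgroup N → Prop}
    (hS : ∀ (N : Type u) [Group N] [Finite N], IsQuasisimple N → IsPGroup 2 ↥(center N) →
      ∀ (c d : N) (A B A' : Subgroup N), c ∈ center N → orderOf c = 2 → orderOf d = 2 → c ∈ A → d ∈ B →
        c * d ∈ A' → CompIn (centralizer ({d} : Set N)) A → CompIn (centralizer ({d} : Set N)) B →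
        CompIn (centralizer ({d} : Set N)) A' → SL F ↥A → SL F ↥B → SL F ↥A' → ChartB3 F N c d A B A' →
        S7 N c d A B A') : F2N.{u} F S7 := by
  intro N _ _ hN hO hBP c d A B hcc hc2 hd hdc hcA hdB hAB hA hB eA eB
  have qA := quasisimple_of_B hO hBP hd hA
  have qB := quasisimple_of_B hO hBP hd hB
  have hZ : IsPGroup 2 ↥(center N) := AutBar.isPGroup_center hO
  obtain ⟨oA, oB⟩ := CoreDeath.core_bot hT hN hZ hF h3 hcc hc2 hd hdc hcA hdB hAB hA hB qA qB eA eB
  have sA := sl_of_core_bot hF h3 eA oA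
  have sB := sl_of_core_bot hF h3 eB oB
  have cA := compIn_of_isComp hA qA
  have cB := compIn_of_isComp hB qB
  obtain ⟨A', h1, h2, h4, h5, h6⟩ := OddHalf.NI.FTwo.main hT hN hZ hcc hc2 hd hcA hdB hAB cA cB sA sB
  obtain ⟨e⟩ := h4.equiv
  refine ⟨A', isComp_of_compIn h1 ?_, h2, Lift.qsl_of_iso hF e, fun K hK => ?_,
    hS N hN hZ c d A B A' hcc hc2 hd hcA hdB h2 cA cB h1 sA sB h4 h6⟩
  · have h7 : c * d ≠ 1 := by
      intro h
      apply hdc
      have h8 : d = c⁻¹ := (inv_eq_of_mul_eq_one_right h).symm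
      rw [h8]
      exact inv_mem hcc
    have h9 : orderOf (⟨c * d, h2⟩ : ↥A') = 2 := by
      rw [Subgroup.orderOf_mk]
      refine orderOf_eq_prime ?_ h7
      rw [pow_two]
      calc c * d * (c * d) = (c * c) * (d * d) := by
            rw [mul_assoc, ← mul_assoc d c d, mem_center_iff.1 hcc d]; group
        _ = 1 := by
            have e1 : c * c = 1 := ThmX.sq_of_order hc2
            have e2 : d * d = 1 := ThmX.sq_of_order hd
            rw [e1, e2, one_mul]
    rw [← h9]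
    exact orderOf_dvd_natCard _
  · exact h5 K (compIn_of_isComp hK (quasisimple_of_B hO hBP hd hK))

/-- **(F2')** -/
theorem f2N (hT : TStmt.{u}) (F : Type) [Field F] [Fintype F] (hF : Odd (Fintype.card F))
    (h3 : 3 < Fintype.card F) : F2N.{u} F (fun N _ c d A B A' => ChartB3 F N c d A B A') :=
  f2N_of hT F hF h3 fun _ _ _ _ _ _ _ _ _ _ _ _ _ _ _ _ _ _ _ _ _ _ h => h

end Cfsg.Agent.UGT.U2.FTwoN
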