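import Cfsg.Agent.UGT.U2.ThmXQ
import Cfsg.Agent.OddHalf.NI.FrameDef
import Cfsg.Agent.Cit.ParabSL2
import Cfsg.Agent.SignalizersComponents.SLQuasisimple
import Cfsg.Agent.SignalizersComponents.CoreOfCentralizer

/-!
# Lifting of frames

`D` a 2-component of `C(z)`, `z ∈ D` an involution, `f` a frame of `D / O(D)` for the image of `z`. Then the involutions
of the frame lift to commuting involutions `R` of `D` with `z ∈ ⟨R⟩`, and the members of the frame lift to 2-components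
of `C(R)`.
-/

set_option autoImplicit false

open Cfsg Subgroup
open Cfsg.Agent.SignalizersComponents Cfsg.Agent.Lib
open Cfsg.Agent.SignalizersComponents.IntrinsicBasic
open Cfsg.Agent.SignalizersComponents.IntrinsicIntr
open Cfsg.Agent.Intrinsic.Basic Cfsg.Agent.Intrinsic.Cen Cfsg.Agent.Intrinsic.Quot
open Cfsg.Agent.UGT.Iface (Bar)
open Cfsg.Agent.UGT.U2.ThmX Cfsg.Agent.UGT.U2.ThmXQ
open Cfsg.Agent.OddHalf.NI (Frame)
open scoped commutatorElement

namespace Cfsg.Agent.UGT.U2.Lift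

universe u

/-- A 2-subgroup of `D / O(D)` lifts. -/
theorem exists_lift_two {D : Type*} [Group D] [Finite D] (V : Subgroup (D ⧸ oddCore D)) (hV : IsPGroup 2 ↥V) :
    ∃ P : Subgroup D, IsPGroup 2 ↥P ∧ ∀ v ∈ V, ∃ p ∈ P, (QuotientGroup.mk p : D ⧸ oddCore D) = v := by
  have h2 : Fact (Nat.Prime 2) := ⟨Nat.prime_two⟩
  obtain ⟨M, hM⟩ : ∃ M, M = V.comap (QuotientGroup.mk' (oddCore D)) := ⟨_, rfl⟩
  obtain ⟨P0⟩ : Nonempty (Sylow 2 ↥M) := inferInstance
  let g : ↥M →* ↥V := ((QuotientGroup.mk' (oddCore D)).comp M.subtype).codRestrict V (by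
    rintro ⟨x, hx⟩
    have h3 : x ∈ V.comap (QuotientGroup.mk' (oddCore D)) := by rw [← hM]; exact hx
    exact h3)
  have hg : Function.Surjective g := by
    rintro ⟨v, hv⟩
    obtain ⟨x, rfl⟩ := QuotientGroup.mk'_surjective (oddCore D) v
    exact ⟨⟨x, by rw [hM, mem_comap]; exact hv⟩, rfl⟩
  have h3 : (P0.mapSurjective hg : Subgroup ↥V) = ⊤ := by
    have h4 : IsPGroup 2 ↥(⊤ : Subgroup ↥V) := hV.to_subgroup ⊤
    exact ((P0.mapSurjective hg).is_maximal' h4 le_top).symm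
  refine ⟨(P0 : Subgroup ↥M).map M.subtype, P0.isPGroup'.map _, fun v hv => ?_⟩
  have h4 : (⟨v, hv⟩ : ↥V) ∈ (P0.mapSurjective hg : Subgroup ↥V) := by rw [h3]; exact mem_top _
  rw [Sylow.coe_mapSurjective] at h4
  obtain ⟨p, hp, hpv⟩ := h4
  exact ⟨(p : D), ⟨p, hp, rfl⟩, congrArg Subtype.val hpv⟩

theorem isPGroup_of_sq {N : Type*} [Group N] {V : Subgroup N} (h : ∀ v ∈ V, v * v = 1) : IsPGroup 2 ↥V := by
  intro v
  exact ⟨1, Subtype.ext (by rw [pow_one, pow_two]; exact h v v.2)⟩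

/-- pairwise commuting involutions generate an elementary abelian group -/
theorem sq_closure {N : Type*} [Group N] {S : Set N} (hc : ∀ a ∈ S, ∀ b ∈ S, a * b = b * a)
    (hs : ∀ a ∈ S, a * a = 1) : ∀ v ∈ closure S, v * v = 1 := by
  have hcomm : ∀ x ∈ Subgroup.closure S, ∀ y ∈ Subgroup.closure S, x * y = y * x := by
    intro x hx y hy
    have h1 := Subgroup.isMulCommutative_closure (k := S) hc
    exact congrArg Subtype.val (h1.is_comm.comm (⟨x, hx⟩ : Subgroup.closure S) ⟨y, hy⟩)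
  intro w hw
  induction hw using Subgroup.closure_induction with
  | mem z hz => exact hs z hz
  | one => exact one_mul 1
  | mul u v hu hv ihu ihv =>
    calc u * v * (u * v) = u * (v * u) * v := by group
      _ = (u * u) * (v * v) := by rw [← hcomm u hu v hv]; group
      _ = 1 := by rw [ihu, ihv, one_mul]
  | inv u _ ihu =>
    rw [← mul_inv_rev, ihu, inv_one]

variable {G : Type u} [Group G] [Finite G]

/-- `C_D(R) → C(R̄)` -/
noncomputable def cm (D : Subgroup G) (R : Set G) (_hR : R ⊆ D) :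
    ↥(D ⊓ centralizer R) →* ↥(centralizer {w : Bar D | ∃ (r : G) (hr : r ∈ D), r ∈ R ∧
      w = QuotientGroup.mk ⟨r, hr⟩}) where
  toFun m := ⟨QuotientGroup.mk ⟨(m : G), m.2.1⟩, by
    rw [mem_centralizer_iff]
    rintro _ ⟨r, hr, hrR, rfl⟩
    rw [← QuotientGroup.mk_mul, ← QuotientGroup.mk_mul]
    congr 1
    exact Subtype.ext (mem_centralizer_iff.mp m.2.2 r hrR)⟩
  map_one' := rfl
  map_mul' _ _ := rfl

omit [Finite G] in
theorem cm_coe (D : Subgroup G) (R : Set G) (hR : R ⊆ D) (m : ↥(D ⊓ centralizer R)) :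
    ((cm D R hR m : ↥(centralizer _)) : Bar D) = QuotientGroup.mk ⟨(m : G), m.2.1⟩ := rfl

theorem cm_surjective (D : Subgroup G) (R : Set G) (hR : R ⊆ D)
    (hc : ∀ a ∈ R, ∀ b ∈ R, a * b = b * a) (hs : ∀ a ∈ R, a * a = 1) : Function.Surjective (cm D R hR) := by
  have h2 : Fact (Nat.Prime 2) := ⟨Nat.prime_two⟩
  rintro ⟨w, hw⟩
  obtain ⟨S, hS⟩ : ∃ S : Set ↥D, S = {r : ↥D | (r : G) ∈ R} := ⟨_, rfl⟩
  have hE : IsPGroup 2 ↥(closure S) := by
    refine isPGroup_of_sq (sq_closure ?_ ?_)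
    · intro a ha b hb
      rw [hS] at ha hb
      exact Subtype.ext (hc a ha b hb)
    · intro a ha
      rw [hS] at ha
      exact Subtype.ext (hs a ha)
  have hNn : (oddCore ↥D).Normal := Lib.Cores.pPrimeCore_normal 2
  have hNp' : ¬ 2 ∣ Nat.card (oddCore ↥D) :=
    (h2.out.coprime_iff_not_dvd).mp (Lib.Cores.pPrimeCore_coprime (G := ↥D) 2).symm
  obtain ⟨g, hg, hgw⟩ := CoreOfCentralizer.exists_centralizing_of_quotient (closure S) hE (oddCore ↥D) hNp' w (by
    intro a ha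
    induction ha using Subgroup.closure_induction with
    | mem z hz =>
      rw [hS] at hz
      exact (mem_centralizer_iff.mp hw _ ⟨(z : G), z.2, hz, rfl⟩)
    | one => rw [map_one, one_mul, mul_one]
    | mul u v _ _ ihu ihv =>
      rw [map_mul, mul_assoc, ihv, ← mul_assoc, ihu, mul_assoc]
    | inv u _ ihu =>
      rw [map_inv]
      have h3 : Commute (QuotientGroup.mk' (oddCore ↥D) u) w := ihu
      exact h3.inv_left)
  have hgR : (g : G) ∈ centralizer R := by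
    rw [mem_centralizer_iff]
    intro r hr
    exact congrArg Subtype.val (hg ⟨r, hR hr⟩ (subset_closure (by rw [hS]; exact hr)))
  exact ⟨⟨(g : G), g.2, hgR⟩, Subtype.ext hgw⟩

theorem odd_ker_cm (D : Subgroup G) (R : Set G) (hR : R ⊆ D) : Odd (Nat.card (cm D R hR).ker) := by
  have h1 : (cm D R hR).ker.map (D ⊓ centralizer R).subtype ≤ core D := by
    rintro _ ⟨m, hm, rfl⟩
    have h3 : (QuotientGroup.mk ⟨(m : G), m.2.1⟩ : Bar D) = 1 := congrArg Subtype.val hm
    exact (Intrinsic.Quot.mk_eq_one_iff m.2.1).mp h3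
  have h2 := Subgroup.card_dvd_of_le h1
  rw [card_map_of_injective (D ⊓ centralizer R).subtype_injective] at h2
  exact Odd.of_dvd_nat (odd_card_core D) h2

/-- A component `J` of even order of `C(R̄)` lifts to a 2-component of `D ⊓ C(R)`, which contains every 2-element with
image in `J`. -/
theorem exists_lift_J {D : Subgroup G} {R : Set G} (hR : R ⊆ D) (hc : ∀ a ∈ R, ∀ b ∈ R, a * b = b * a)
    (hs : ∀ a ∈ R, a * a = 1) {J : Subgroup (Bar D)}
    (hJ : J ≤ centralizer {w : Bar D | ∃ (r : G) (hr : r ∈ D), r ∈ R ∧ w = QuotientGroup.mk ⟨r, hr⟩})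
    (hsub : (J.subgroupOf (centralizer {w : Bar D | ∃ (r : G) (hr : r ∈ D), r ∈ R ∧
      w = QuotientGroup.mk ⟨r, hr⟩})).IsSubnormal) (hq : IsQuasisimple ↥J) (h2 : 2 ∣ Nat.card J) :
    ∃ K : Subgroup G, IsComp (D ⊓ centralizer R) K ∧ qs D K = J ∧
      ∀ (y : G) (hy : y ∈ D), y ∈ centralizer R → (QuotientGroup.mk ⟨y, hy⟩ : Bar D) ∈ J →
        ∀ n : ℕ, y ^ 2 ^ n = 1 → y ∈ K := by
  obtain ⟨C, hC⟩ : ∃ C, C = centralizer {w : Bar D | ∃ (r : G) (hr : r ∈ D), r ∈ R ∧
      w = QuotientGroup.mk ⟨r, hr⟩} := ⟨_, rfl⟩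
  have hComp : IsComponent (J.subgroupOf (centralizer {w : Bar D | ∃ (r : G) (hr : r ∈ D), r ∈ R ∧
      w = QuotientGroup.mk ⟨r, hr⟩})) :=
    ⟨hsub, Components.isQuasisimple_of_mulEquiv (subgroupOfEquivOfLe hJ).symm hq⟩
  have h2' : 2 ∣ Nat.card (J.subgroupOf (centralizer {w : Bar D | ∃ (r : G) (hr : r ∈ D), r ∈ R ∧
      w = QuotientGroup.mk ⟨r, hr⟩})) := by
    rw [Nat.card_congr (subgroupOfEquivOfLe hJ).toEquiv]
    exact h2
  obtain ⟨h3, h4⟩ := IntrinsicLift.lift_component (cm D R hR) (cm_surjective D R hR hc hs)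
    (odd_ker_cm D R hR) hComp h2'
  refine ⟨_, isComp_of_subtype h3, ?_, ?_⟩
  · ext x
    constructor
    · rintro ⟨m, hm, rfl⟩
      obtain ⟨m', hm', hmm⟩ := hm
      have h5 : (cm D R hR) m' ∈ (J.subgroupOf (centralizer {w : Bar D | ∃ (r : G) (hr : r ∈ D), r ∈ R ∧
          w = QuotientGroup.mk ⟨r, hr⟩})) := by
        rw [← h4]
        exact ⟨m', hm', rfl⟩
      have h6 : m = ⟨(m' : G), m'.2.1⟩ := Subtype.ext hmm.symm
      rw [h6]
      exact h5
    · intro hx
      have h5 : (⟨x, hJ hx⟩ : ↥(centralizer {w : Bar D | ∃ (r : G) (hr : r ∈ D), r ∈ R ∧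
          w = QuotientGroup.mk ⟨r, hr⟩})) ∈ (J.subgroupOf (centralizer {w : Bar D | ∃ (r : G) (hr : r ∈ D), r ∈ R ∧
          w = QuotientGroup.mk ⟨r, hr⟩})) := hx
      rw [← h4] at h5
      obtain ⟨m, hm, hmx⟩ := h5
      exact ⟨⟨(m : G), m.2.1⟩, ⟨m, hm, rfl⟩, congrArg Subtype.val hmx⟩
  · intro y hy hyR hyJ n hn
    refine ⟨⟨y, hy, hyR⟩, ?_, rfl⟩
    exact PComponents.mem_pElem (show (⟨y, hy, hyR⟩ : ↥(D ⊓ centralizer R)) ∈
      (J.subgroupOf (centralizer {w : Bar D | ∃ (r : G) (hr : r ∈ D), r ∈ R ∧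
          w = QuotientGroup.mk ⟨r, hr⟩})).comap (cm D R hR) from hyJ) (Subtype.ext (by simpa using hn))

/-- `1 = O(SL₂(F))` -/
theorem qsl_of_iso {F : Type} [Field F] [Fintype F] (hF : Odd (Fintype.card F)) {N : Type*} [Group N] [Finite N]
    {J : Subgroup N} (e : ↥J ≃* Matrix.SpecialLinearGroup (Fin 2) F) : QSL F J := by
  have hcore : oddCore ↥J = ⊥ := by
    have h1 := Cit.ParabSL2.oddCore_sl hF
    have h2 := Lib.Cores.map_equiv_pPrimeCore e 2
    rw [eq_bot_iff]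
    intro x hx
    have h3 : e x ∈ (oddCore ↥J).map e.toMonoidHom := ⟨x, hx, rfl⟩
    rw [show (oddCore ↥J).map e.toMonoidHom = oddCore _ from h2, h1, mem_bot] at h3
    rw [mem_bot]
    exact e.injective (by rw [h3, map_one])
  exact ⟨(QuotientGroup.quotientMulEquivOfEq hcore).trans (QuotientGroup.quotientBot.trans e)⟩

/-- **Lifting of a frame.** -/
theorem exists_family {z : G} (hz : orderOf z = 2) {D : Subgroup G} (hD : IsComp (centralizer ({z} : Set G)) D)
    (hzD : z ∈ D) (f : Frame (Bar D) (QuotientGroup.mk ⟨z, hzD⟩)) :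
    letI := f.field
    letI := f.fin
    ∃ R : Finset G, R.Nonempty ∧ CInv (R : Set G) ∧
      (∀ a ∈ R, ∃ K : Subgroup G, IsComp (centralizer (R : Set G)) K ∧ a ∈ K ∧ QSL f.F K) ∧
      (∀ a ∈ R, ∀ b ∈ R, ∀ c ∈ R, a ≠ b → a ≠ c → b ≠ c → a * b ≠ c) := by
  classical
  obtain ⟨m, hm, J, y, F, hodd, hcard, hiso, hmem, hord, hle, hsub, hcomm, hinj, hthree, hgen⟩ := f
  dsimp only
  have h2 : Fact (Nat.Prime 2) := ⟨Nat.prime_two⟩
  have hycomm : ∀ i j, y i * y j = y j * y i := by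
    intro i j
    by_cases h : i = j
    · rw [h]
    · exact hcomm i j h _ (hmem i) _ (hmem j)
  have hysq : ∀ i, y i * y i = 1 := fun i => sq_of_order (hord i)
  -- the 2-group `V`
  have hV := sq_closure (S := Set.range y) (by rintro _ ⟨i, rfl⟩ _ ⟨j, rfl⟩; exact hycomm i j)
    (by rintro _ ⟨i, rfl⟩; exact hysq i)
  obtain ⟨P, hP, hPV⟩ := exists_lift_two (closure (Set.range y)) (isPGroup_of_sq hV)
  -- elements of `P` in the core are trivial
  have hP1 : ∀ p ∈ P, (QuotientGroup.mk p : Bar D) = 1 → p = 1 := by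
    intro p hp h
    obtain ⟨n, hn⟩ := hP ⟨p, hp⟩
    have hn' : p ^ 2 ^ n = 1 := congrArg Subtype.val hn
    have h3 : (p : G) ∈ core D := (Intrinsic.Quot.mk_eq_one_iff p.2).mp h
    exact Subtype.ext (eq_one_of_mem_core h3 (n := n) (by
      have := congrArg Subtype.val hn'
      simpa using this))
  have hex : ∀ i, ∃ p ∈ P, (QuotientGroup.mk p : Bar D) = y i := fun i => hPV _ (subset_closure ⟨i, rfl⟩)
  choose w hwP hwy using hex
  have hwc : ∀ i j, w i * w j = w j * w i := by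
    intro i j
    have h3 : (w i * w j) * (w j * w i)⁻¹ = 1 := by
      apply hP1 _ (P.mul_mem (P.mul_mem (hwP i) (hwP j)) (P.inv_mem (P.mul_mem (hwP j) (hwP i))))
      rw [QuotientGroup.mk_mul, QuotientGroup.mk_inv, QuotientGroup.mk_mul, QuotientGroup.mk_mul, hwy, hwy,
        hycomm i j, mul_inv_cancel]
    exact mul_inv_eq_one.mp h3
  have hws : ∀ i, w i * w i = 1 := by
    intro i
    apply hP1 _ (P.mul_mem (hwP i) (hwP i))
    rw [QuotientGroup.mk_mul, hwy, hysq]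
  have hw1 : ∀ i, w i ≠ 1 := by
    intro i h
    apply ne_one_of_order (hord i)
    rw [← hwy, h, QuotientGroup.mk_one]
  -- `z` is in the group generated by the `w i`
  have hzw : (⟨z, hzD⟩ : ↥D) ∈ closure (Set.range w) := by
    have key : ∀ v ∈ closure (Set.range y), ∃ p ∈ closure (Set.range w), (QuotientGroup.mk p : Bar D) = v := by
      intro v hv
      induction hv using Subgroup.closure_induction with
      | mem v hv =>
        obtain ⟨i, rfl⟩ := hv
        exact ⟨w i, subset_closure ⟨i, rfl⟩, hwy i⟩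
      | one => exact ⟨1, one_mem _, rfl⟩
      | mul u v _ _ ihu ihv =>
        obtain ⟨p, hp, rfl⟩ := ihu
        obtain ⟨q, hq, rfl⟩ := ihv
        exact ⟨p * q, mul_mem hp hq, rfl⟩
      | inv u _ ihu =>
        obtain ⟨p, hp, rfl⟩ := ihu
        exact ⟨p⁻¹, inv_mem hp, rfl⟩
    obtain ⟨p, hp, hpz⟩ := key _ hgen
    have hpp := sq_closure (S := Set.range w) (by rintro _ ⟨i, rfl⟩ _ ⟨j, rfl⟩; exact hwc i j)
      (by rintro _ ⟨i, rfl⟩; exact hws i) p hp
    have h3 : p⁻¹ * (⟨z, hzD⟩ : ↥D) ∈ oddCore ↥D := QuotientGroup.eq.mp hpz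
    have hpz' : (p : G) * z = z * p := by
      have h4 := hD.le p.2
      exact mem_centralizer_singleton_iff.mp h4
    have h4 : ((p : G)⁻¹ * z) = 1 := by
      refine eq_one_of_mem_core_sq (K := D) ⟨_, h3, rfl⟩ ?_
      have hp' : (p : G)⁻¹ = p := inv_eq_of_mul_eq_one_left (congrArg Subtype.val hpp)
      rw [hp']
      calc (p : G) * z * (p * z) = p * (z * p) * z := by group
        _ = ((p : G) * p) * (z * z) := by rw [← hpz']; group
        _ = 1 := by rw [show (p : G) * p = 1 from congrArg Subtype.val hpp, sq_of_order hz, one_mul]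
    have h5 : (⟨z, hzD⟩ : ↥D) = p := Subtype.ext (inv_mul_eq_one.mp h4).symm
    rw [h5]
    exact hp
  -- the set `R`
  obtain ⟨R, hR⟩ : ∃ R : Finset G, R = Finset.univ.image (fun i => (w i : G)) := ⟨_, rfl⟩
  have hmR : ∀ r, r ∈ R ↔ ∃ i, (w i : G) = r := by
    intro r
    rw [hR, Finset.mem_image]
    constructor
    · rintro ⟨i, -, h⟩; exact ⟨i, h⟩
    · rintro ⟨i, h⟩; exact ⟨i, Finset.mem_univ _, h⟩
  have hRD : (R : Set G) ⊆ D := by
    intro r hr
    obtain ⟨i, rfl⟩ := (hmR r).mp hr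
    exact (w i).2
  have hRc : ∀ a ∈ (R : Set G), ∀ b ∈ (R : Set G), a * b = b * a := by
    intro a ha b hb
    obtain ⟨i, rfl⟩ := (hmR a).mp ha
    obtain ⟨j, rfl⟩ := (hmR b).mp hb
    exact congrArg Subtype.val (hwc i j)
  have hRs : ∀ a ∈ (R : Set G), a * a = 1 := by
    intro a ha
    obtain ⟨i, rfl⟩ := (hmR a).mp ha
    exact congrArg Subtype.val (hws i)
  have hCz : centralizer (R : Set G) ≤ centralizer ({z} : Set G) := by
    have h3 : z ∈ closure (R : Set G) := by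
      have h4 : (closure (Set.range w)).map D.subtype ≤ closure (R : Set G) := by
        rw [MonoidHom.map_closure]
        refine (closure_le _).mpr ?_
        rintro _ ⟨_, ⟨i, rfl⟩, rfl⟩
        exact subset_closure ((hmR _).mpr ⟨i, rfl⟩)
      exact h4 ⟨_, hzw, rfl⟩
    rw [← centralizer_closure (R : Set G)]
    exact centralizer_le (by simpa using h3)
  -- the set of images
  have hset : {v : Bar D | ∃ (r : G) (hr : r ∈ D), r ∈ (R : Set G) ∧ v = QuotientGroup.mk ⟨r, hr⟩} =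
      Set.range y := by
    ext v
    constructor
    · rintro ⟨r, hr, hrR, rfl⟩
      obtain ⟨i, rfl⟩ := (hmR r).mp hrR
      exact ⟨i, (hwy i).symm⟩
    · rintro ⟨i, rfl⟩
      exact ⟨w i, (w i).2, (hmR _).mpr ⟨i, rfl⟩, (hwy i).symm⟩
  have hJC : ∀ i, J i ≤ centralizer (Set.range y) := by
    rintro i x hx
    rw [mem_centralizer_iff]
    rintro _ ⟨j, rfl⟩
    by_cases h : j = i
    · subst h
      exact (mem_centralizer_singleton_iff.mp (hle j hx)).symm
    · exact hcomm j i h _ (hmem j) _ hx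
  have hJsub : ∀ i, ((J i).subgroupOf (centralizer (Set.range y))).IsSubnormal := by
    intro i
    have h3 : centralizer (Set.range y) ≤ centralizer ({y i} : Set (Bar D)) :=
      centralizer_le (by rintro _ rfl; exact ⟨i, rfl⟩)
    have h4 := (hsub i).comap (Subgroup.inclusion h3)
    exact h4
  have hSLq : IsQuasisimple (Matrix.SpecialLinearGroup (Fin 2) F) :=
    SLQuasisimple.isQuasisimple_two (by rw [Nat.card_eq_fintype_card]; omega)
  have hJq : ∀ i, IsQuasisimple ↥(J i) := fun i =>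
    Components.isQuasisimple_of_mulEquiv (hiso i).some.symm hSLq
  have hJ2 : ∀ i, 2 ∣ Nat.card (J i) := by
    intro i
    have h3 : orderOf (⟨y i, hmem i⟩ : ↥(J i)) = 2 := by rw [Subgroup.orderOf_mk, hord]
    have h4 := orderOf_dvd_natCard (⟨y i, hmem i⟩ : ↥(J i))
    rwa [h3] at h4
  have hlift : ∀ i, ∃ K : Subgroup G, IsComp (D ⊓ centralizer (R : Set G)) K ∧ qs D K = J i ∧
      ∀ (x : G) (hx : x ∈ D), x ∈ centralizer (R : Set G) → (QuotientGroup.mk ⟨x, hx⟩ : Bar D) ∈ J i →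
        ∀ n : ℕ, x ^ 2 ^ n = 1 → x ∈ K := by
    intro i
    apply exists_lift_J hRD hRc hRs ?_ ?_ (hJq i) (hJ2 i)
    · rw [hset]; exact hJC i
    · rw [hset]; exact hJsub i
  -- `D ⊓ C(R)` is subnormal in `C(R)`
  have hDs : ((D ⊓ centralizer (R : Set G)).subgroupOf (centralizer (R : Set G))).IsSubnormal := by
    have h3 := (isComp_iff.mp hD).2.1.comap (Subgroup.inclusion hCz)
    convert h3 using 1
    ext ⟨x, hx⟩
    constructor
    · intro h; exact h.1
    · intro h; exact ⟨h, hx⟩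
  refine ⟨R, ?_, ⟨?_, hRc⟩, ?_, ?_⟩
  · exact ⟨w ⟨0, hm⟩, (hmR _).mpr ⟨_, rfl⟩⟩
  · intro a ha
    obtain ⟨i, rfl⟩ := (hmR a).mp ha
    refine orderOf_eq_prime (by rw [pow_two]; exact congrArg Subtype.val (hws i)) ?_
    intro h
    exact hw1 i (Subtype.ext h)
  · intro a ha
    obtain ⟨i, rfl⟩ := (hmR a).mp ha
    obtain ⟨K, hK, hKJ, hKm⟩ := hlift i
    refine ⟨K, hK.extend inf_le_right hDs, ?_, ?_⟩
    · refine hKm _ (w i).2 ?_ ?_ 1 ?_
      · rw [mem_centralizer_iff]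
        intro r hr
        exact hRc r hr _ ((hmR _).mpr ⟨i, rfl⟩)
      · have h3 := hwy i
        have h4 : (QuotientGroup.mk ⟨(w i : G), (w i).2⟩ : Bar D) = y i := h3
        rw [h4]
        exact hmem i
      · rw [pow_one, pow_two]
        exact congrArg Subtype.val (hws i)
    · rw [← qsl_qs (hK.le.trans inf_le_left), hKJ]
      exact qsl_of_iso hodd (hiso i).some
  · intro a ha b hb c hc hab hac hbc habc
    obtain ⟨i, rfl⟩ := (hmR a).mp ha
    obtain ⟨j, rfl⟩ := (hmR b).mp hb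
    obtain ⟨k, rfl⟩ := (hmR c).mp hc
    refine hthree i j k (fun h => hab (by rw [h])) (fun h => hac (by rw [h])) (fun h => hbc (by rw [h])) ?_
    rw [← hwy i, ← hwy j, ← hwy k, ← QuotientGroup.mk_mul]
    congr 1
    exact Subtype.ext habc

end Cfsg.Agent.UGT.U2.Lift
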