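import Cfsg.Agent.UGT.U2.LiftQ
import Cfsg.Agent.SignalizersComponents.QsBasic
import Cfsg.Agent.OddHalf.NI.CovTwo
import Cfsg.Agent.Intrinsic.Lifting
import Cfsg.Agent.SignalizersComponents.IntrinsicLift

/-!
# Lifting from `L / O(L)` to `L`

* `center_isPGroup`: the centre of a group without odd core is a 2-group.
* `lift_odd`: an element of odd order of `B / Z(B)` fixed by `α` is the image of an element fixed by `α`.
* `lift_fixed`, `lift_fixed_inv`: elements of `L / O(L)` fixed by a 2-element.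
* `exists_lift`: a component of `C_{L/O(L)}(V)`, `V ≤ L` a 2-group, lifts to a 2-component of `C_L(V)`.
-/

set_option autoImplicit false
set_option linter.unusedSectionVars false

open Cfsg Subgroup
open Cfsg.Agent.SignalizersComponents Cfsg.Agent.Lib
open Cfsg.Agent.SignalizersComponents.IntrinsicBasic
open Cfsg.Agent.SignalizersComponents.PLayerAut
open Cfsg.Agent.Intrinsic.Basic Cfsg.Agent.Intrinsic.Cen
open Cfsg.Agent.SignalizersComponents.BalanceDelta (autQuot)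
open Cfsg.Agent.McLLyComp.Act
open Cfsg.Agent.UGT.Iface
open Cfsg.Agent.Lib.PComponents (le_pPrimeCore_of_isSubnormal)

namespace Cfsg.Agent.UGT.U2.LiftBar

section abstr

variable {B : Type*} [Group B] [Finite B]

theorem center_isPGroup (h : oddCore B = ⊥) : IsPGroup 2 ↥(center B) := by
  rintro ⟨b, hb⟩
  obtain ⟨k, m, hm, hkm⟩ := Nat.exists_eq_two_pow_mul_odd (orderOf_pos b).ne'
  refine ⟨k, Subtype.ext ?_⟩
  change b ^ 2 ^ k = 1
  have h1 : b ^ 2 ^ k ∈ center B := pow_mem hb _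
  have hn : (zpowers (b ^ 2 ^ k)).Normal := by
    refine ⟨fun y hy g => ?_⟩
    have h2 : y ∈ center B := (zpowers_le.mpr h1) hy
    have h3 : g * y * g⁻¹ = y := by
      rw [mem_center_iff.mp h2 g, mul_inv_cancel_right]
    rwa [h3]
  have hodd : (Nat.card ↥(zpowers (b ^ 2 ^ k))).Coprime 2 := by
    rw [Nat.card_zpowers, orderOf_pow, hkm, Nat.gcd_mul_right_left, Nat.mul_div_cancel_left _ (by positivity)]
    exact hm.coprime_two_right
  have h2 : zpowers (b ^ 2 ^ k) ≤ oddCore B := by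
    have : Fact (Nat.Prime 2) := ⟨Nat.prime_two⟩
    exact le_pPrimeCore_of_isSubnormal hn.isSubnormal hodd
  rw [h, le_bot_iff, zpowers_eq_bot] at h2
  exact h2

theorem lift_odd (hZ : IsPGroup 2 ↥(center B)) (α : MulAut B) {v : B ⧸ center B}
    (hv : autQuot B α v = v) (hodd : Odd (orderOf v)) :
    ∃ b : B, (QuotientGroup.mk b : B ⧸ center B) = v ∧ α b = b := by
  obtain ⟨b₀, hb₀⟩ := QuotientGroup.mk_surjective v
  set n := orderOf v with hn
  have h1 : b₀ ^ n ∈ center B := by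
    rw [← QuotientGroup.eq_one_iff, QuotientGroup.mk_pow, hb₀, hn, pow_orderOf_eq_one]
  obtain ⟨k, hk⟩ := hZ ⟨b₀ ^ n, h1⟩
  have hk' : (b₀ ^ n) ^ 2 ^ k = 1 := congrArg Subtype.val hk
  have hcop : Nat.Coprime n (2 ^ k) := Nat.Coprime.pow_right k hodd.coprime_two_right
  obtain ⟨m, hm1, hm2⟩ := Nat.chineseRemainder hcop 1 0
  have hm2' : 2 ^ k ∣ m := (Nat.modEq_zero_iff_dvd).mp hm2
  have hbv : (QuotientGroup.mk (b₀ ^ m) : B ⧸ center B) = v := by
    rw [QuotientGroup.mk_pow, hb₀]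
    have h2 : v ^ m = v ^ 1 := pow_eq_pow_iff_modEq.mpr hm1
    rw [h2, pow_one]
  have hbn : (b₀ ^ m) ^ n = 1 := by
    obtain ⟨t, rfl⟩ := hm2'
    rw [← pow_mul, show 2 ^ k * t * n = n * 2 ^ k * t by ring, pow_mul, pow_mul, hk', one_pow]
  refine ⟨b₀ ^ m, hbv, ?_⟩
  obtain ⟨b, hb⟩ : ∃ b, b = b₀ ^ m := ⟨_, rfl⟩
  rw [← hb] at hbv hbn ⊢
  have h3 : (QuotientGroup.mk (α b) : B ⧸ center B) = QuotientGroup.mk b := by
    have h4 : autQuot B α (QuotientGroup.mk b) = QuotientGroup.mk (α b) := rfl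
    rw [← h4, hbv, hv]
  have h5 : b⁻¹ * α b ∈ center B := QuotientGroup.eq.mp h3.symm
  obtain ⟨j, hj⟩ := hZ ⟨b⁻¹ * α b, h5⟩
  have hj' : (b⁻¹ * α b) ^ 2 ^ j = 1 := congrArg Subtype.val hj
  have hcm : Commute b (b⁻¹ * α b) := mem_center_iff.mp h5 b
  have h6 : (b⁻¹ * α b) ^ n = 1 := by
    have h7 : (b * (b⁻¹ * α b)) ^ n = b ^ n * (b⁻¹ * α b) ^ n := hcm.mul_pow n
    rw [mul_inv_cancel_left, hbn, one_mul, ← map_pow, hbn, map_one] at h7
    exact h7.symm
  have h8 : orderOf (b⁻¹ * α b) = 1 :=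
    Nat.eq_one_of_dvd_coprimes (Nat.Coprime.pow_right j hodd.coprime_two_right)
      (orderOf_dvd_of_pow_eq_one h6) (orderOf_dvd_of_pow_eq_one hj')
  exact (inv_mul_eq_one.mp (orderOf_eq_one_iff.mp h8)).symm

theorem barEquiv_of_surj {S : Type*} [Group S] [Finite S] (g : B →* S) (hs : Function.Surjective g)
    (hk : Odd (Nat.card g.ker)) (hO : oddCore S = ⊥) :
    ∃ e : (B ⧸ oddCore B) ≃* S, ∀ b : B, e (QuotientGroup.mk b) = g b := by
  have : Fact (Nat.Prime 2) := ⟨Nat.prime_two⟩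
  have h1 : g.ker ≤ oddCore B :=
    le_pPrimeCore_of_isSubnormal (inferInstance : g.ker.Normal).isSubnormal hk.coprime_two_right
  have h2 : oddCore B ≤ g.ker := by
    have h3 : (oddCore B).map g ≤ oddCore S := by
      have hn : (oddCore B).Normal := Lib.Cores.pPrimeCore_normal 2
      refine le_pPrimeCore_of_isSubnormal (hn.map g hs).isSubnormal ?_
      exact Nat.Coprime.coprime_dvd_left (card_map_dvd (H := oddCore B) g) (Lib.Cores.pPrimeCore_coprime (G := B) 2)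
    rw [hO, le_bot_iff, Subgroup.map_eq_bot_iff] at h3
    exact h3
  have h3 : oddCore B = g.ker := le_antisymm h2 h1
  refine ⟨(QuotientGroup.quotientMulEquivOfEq h3).trans (QuotientGroup.quotientKerEquivOfSurjective g hs),
    fun b => rfl⟩

end abstr

section lift

variable {G : Type*} [Group G] [Finite G]

theorem oddCore_bar (L : Subgroup G) : oddCore (Bar L) = ⊥ := by
  have : Fact (Nat.Prime 2) := ⟨Nat.prime_two⟩
  exact Lib.Cores.pPrimeCore_quotient_pPrimeCore (G := ↥L) 2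

theorem IsComp.center_isPGroup (L : Subgroup G) : IsPGroup 2 ↥(center (Bar L)) :=
  LiftBar.center_isPGroup (oddCore_bar L)

/-- elements of `L / O(L)` fixed by the involution `x` -/
theorem lift_fixed {L : Subgroup G} {x : G} (hx : x * x = 1) (hxL : x ∈ normalizer (L : Set G)) {b : Bar L}
    (hb : act L ⟨x, hxL⟩ b = b) :
    ∃ (l : G) (hl : l ∈ L), l * x = x * l ∧ (QuotientGroup.mk ⟨l, hl⟩ : Bar L) = b := by
  obtain ⟨⟨m, hm⟩, rfl⟩ := QuotientGroup.mk_surjective b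
  rw [act_mk hxL hm] at hb
  have h1 := (mk_eq_iff hm (conj_mem hxL hm)).mp hb.symm
  obtain ⟨o, ho, hc⟩ := Intrinsic.Lifting.exists_commute (n := 1) (odd_card_core L)
    (by rw [pow_one, pow_two, hx]) (normalizer_le_normalizer_core L hxL) h1
  refine ⟨m * o, mul_mem hm (core_le L ho), hc.symm, ?_⟩
  refine (mk_eq_iff (mul_mem hm (core_le L ho)) hm).mpr ?_
  have : (m * o)⁻¹ * m = o⁻¹ := by group
  rw [this]
  exact inv_mem ho

/-- involutions of `L / O(L)` fixed by the involution `x` -/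
theorem lift_fixed_inv {L : Subgroup G} {x : G} (hx : x * x = 1) (hxL : x ∈ normalizer (L : Set G))
    {b : Bar L} (hb : act L ⟨x, hxL⟩ b = b) (hbb : b * b = 1) :
    ∃ (l : G) (hl : l ∈ L), l * x = x * l ∧ l * l = 1 ∧ (QuotientGroup.mk ⟨l, hl⟩ : Bar L) = b := by
  obtain ⟨⟨m, hm⟩, rfl⟩ := QuotientGroup.mk_surjective b
  rw [act_mk hxL hm] at hb
  have h1 := (mk_eq_iff hm (conj_mem hxL hm)).mp hb.symm
  have h2 : m * m ∈ core L := by
    have h3 : (QuotientGroup.mk (⟨m * m, mul_mem hm hm⟩ : ↥L) : Bar L) = 1 := hbb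
    exact (mk_eq_one_iff (mul_mem hm hm)).mp h3
  obtain ⟨o, ho, hoo, hc⟩ := Intrinsic.Lifting.exists_involution (n := 1) (odd_card_core L)
    (by rw [pow_one, pow_two, hx]) (normalizer_le_normalizer_core L hxL) (le_normalizer_core L hm) h2 h1
  refine ⟨m * o, mul_mem hm (core_le L ho), hc.symm, hoo, ?_⟩
  refine (mk_eq_iff (mul_mem hm (core_le L ho)) hm).mpr ?_
  have : (m * o)⁻¹ * m = o⁻¹ := by group
  rw [this]
  exact inv_mem ho

/-- the image of `V ≤ L` in `L / O(L)` -/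
def img (L V : Subgroup G) : Subgroup (Bar L) :=
  (V.subgroupOf L).map (QuotientGroup.mk' (oddCore ↥L))

theorem mem_img {L V : Subgroup G} {b : Bar L} :
    b ∈ img L V ↔ ∃ (l : G) (hl : l ∈ L), l ∈ V ∧ (QuotientGroup.mk ⟨l, hl⟩ : Bar L) = b := by
  constructor
  · rintro ⟨⟨l, hl⟩, h1, rfl⟩
    exact ⟨l, hl, h1, rfl⟩
  · rintro ⟨l, hl, h1, rfl⟩
    exact ⟨⟨l, hl⟩, h1, rfl⟩

/-- **A component `S` of the centralizer of `V` in `L / O(L)` lifts.** -/
theorem exists_lift {L V : Subgroup G} (hV : IsPGroup 2 ↥V) (hVL : V ≤ L) {S : Subgroup (Bar L)}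
    (hS : S ≤ centralizer (img L V : Set (Bar L)))
    (hsub : (S.subgroupOf (centralizer (img L V : Set (Bar L)))).IsSubnormal)
    (hq : IsQuasisimple ↥S) (h2 : 2 ∣ Nat.card ↥S) :
    ∃ K : Subgroup G, IsComp (L ⊓ centralizer (V : Set G)) K ∧
      (∀ k ∈ K, ∃ hk : k ∈ L, (QuotientGroup.mk ⟨k, hk⟩ : Bar L) ∈ S) ∧
      (∀ s ∈ S, ∃ k ∈ K, ∃ hk : k ∈ L, (QuotientGroup.mk ⟨k, hk⟩ : Bar L) = s) ∧
      (∀ m ∈ centralizer (V : Set G), ∀ hm : m ∈ L, (QuotientGroup.mk ⟨m, hm⟩ : Bar L) ∈ S →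
        ∀ n : ℕ, m ^ 2 ^ n = 1 → m ∈ K) ∧
      (∀ k ∈ core K, ∀ hk : k ∈ L, ∀ s ∈ S, (QuotientGroup.mk ⟨k, hk⟩ : Bar L) * s =
        s * (QuotientGroup.mk ⟨k, hk⟩ : Bar L)) ∧
      (∃ f : ↥S →* Bar K, Function.Surjective f ∧ ∀ (k : G) (hk : k ∈ K) (hkL : k ∈ L)
        (hkS : (QuotientGroup.mk ⟨k, hkL⟩ : Bar L) ∈ S), f ⟨_, hkS⟩ = QuotientGroup.mk ⟨k, hk⟩) ∧
      (oddCore ↥S = ⊥ → Nonempty (Bar K ≃* ↥S)) := by
  have hp2 : Fact (Nat.Prime 2) := ⟨Nat.prime_two⟩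
  set M := L ⊓ centralizer (V : Set G) with hM
  set D := centralizer (img L V : Set (Bar L)) with hD
  -- the homomorphism
  let f : ↥M →* ↥D := MonoidHom.codRestrict
    ((QuotientGroup.mk' (oddCore ↥L)).comp (inclusion (inf_le_left : M ≤ L))) D (by
      intro m
      rw [hD, mem_centralizer_iff]
      intro b hb
      obtain ⟨l, hl, hlV, rfl⟩ := mem_img.mp hb
      have h1 : l * (m : G) = m * l := mem_centralizer_iff.mp m.2.2 l hlV
      change (QuotientGroup.mk (⟨l, hl⟩ * ⟨(m : G), m.2.1⟩ : ↥L) : Bar L) =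
        QuotientGroup.mk (⟨(m : G), m.2.1⟩ * ⟨l, hl⟩ : ↥L)
      congr 1
      exact Subtype.ext h1)
  have hfm : ∀ m : ↥M, ((f m : ↥D) : Bar L) = QuotientGroup.mk ⟨(m : G), m.2.1⟩ := fun _ => rfl
  have hf : Function.Surjective f := by
    rintro ⟨b, hb⟩
    obtain ⟨⟨m, hm⟩, rfl⟩ := QuotientGroup.mk_surjective b
    have h1 : ∀ a ∈ V, m⁻¹ * (a * m * a⁻¹) ∈ core L := by
      intro a ha
      have haL := hVL ha
      have h2 : (QuotientGroup.mk (⟨a, haL⟩ * ⟨m, hm⟩ : ↥L) : Bar L) =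
          QuotientGroup.mk (⟨m, hm⟩ * ⟨a, haL⟩ : ↥L) :=
        mem_centralizer_iff.mp hb _ (mem_img.mpr ⟨a, haL, ha, rfl⟩)
      have h3 := QuotientGroup.eq.mp h2.symm
      have h4 := (mem_core_iff (K := L) (x := (m * a)⁻¹ * (a * m)) (by
        exact mul_mem (inv_mem (mul_mem hm haL)) (mul_mem haL hm))).mpr h3
      have h5 : m⁻¹ * (a * m * a⁻¹) = a * ((m * a)⁻¹ * (a * m)) * a⁻¹ := by group
      rw [h5]
      exact conj_mem_core (le_normalizer haL) h4
    obtain ⟨o, ho, hc⟩ := Intrinsic.Lifting.exists_commute_group (odd_card_core L) hV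
      (hVL.trans (le_normalizer_core L)) h1
    refine ⟨⟨m * o, mul_mem hm (core_le L ho), mem_centralizer_iff.mpr hc⟩, Subtype.ext ?_⟩
    rw [hfm]
    refine (mk_eq_iff (mul_mem hm (core_le L ho)) hm).mpr ?_
    have : (m * o)⁻¹ * m = o⁻¹ := by group
    rw [this]
    exact inv_mem ho
  have hfker : ∀ m : ↥M, m ∈ f.ker ↔ (m : G) ∈ core L := by
    intro m
    rw [MonoidHom.mem_ker, Subtype.ext_iff, hfm]
    exact mk_eq_one_iff m.2.1
  have hker : Odd (Nat.card f.ker) := by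
    have h1 : f.ker.map M.subtype ≤ core L := by
      rintro _ ⟨m, hm, rfl⟩
      exact (hfker m).mp hm
    have h2 : Nat.card (f.ker.map M.subtype) ∣ Nat.card (core L) := Subgroup.card_dvd_of_le h1
    have h3 : Nat.card (f.ker.map M.subtype) = Nat.card f.ker :=
      Nat.card_congr (f.ker.equivMapOfInjective M.subtype M.subtype_injective).symm.toEquiv
    rw [h3] at h2
    exact Odd.of_dvd_nat (odd_card_core L) h2
  have hcomp : IsComponent (S.subgroupOf D) :=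
    ⟨hsub, PCompQuot.quasisimple_congr (subgroupOfEquivOfLe hS).symm hq⟩
  have heven : 2 ∣ Nat.card (S.subgroupOf D) := by
    rw [Nat.card_congr (subgroupOfEquivOfLe hS).toEquiv]
    exact h2
  obtain ⟨h1, h3⟩ := IntrinsicLift.lift_component f hf hker hcomp heven
  obtain ⟨Q, hQ⟩ : ∃ Q, Q = PComponents.pElem 2 ((S.subgroupOf D).comap f) := ⟨_, rfl⟩
  rw [← hQ] at h1 h3
  have hQS : ∀ q ∈ Q, ((f q : ↥D) : Bar L) ∈ S := by
    intro q hq
    have h4 : f q ∈ Q.map f := ⟨q, hq, rfl⟩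
    rw [h3] at h4
    exact h4
  -- the map to `S`
  let g : ↥Q →* ↥S := MonoidHom.codRestrict (D.subtype.comp (f.comp Q.subtype)) S
    (fun q => hQS q q.2)
  have hg : Function.Surjective g := by
    rintro ⟨s, hs⟩
    have h4 : (⟨s, hS hs⟩ : ↥D) ∈ Q.map f := by
      rw [h3]
      exact hs
    obtain ⟨q, hq, hqs⟩ := h4
    refine ⟨⟨q, hq⟩, Subtype.ext ?_⟩
    exact (congrArg Subtype.val hqs : ((f q : ↥D) : Bar L) = s)
  have hgker : Odd (Nat.card g.ker) := by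
    have h4 : g.ker.map Q.subtype ≤ f.ker := by
      rintro _ ⟨q, hq, rfl⟩
      have h5 : g q = 1 := hq
      refine MonoidHom.mem_ker.mpr (Subtype.ext ?_)
      exact (congrArg Subtype.val h5 : ((f (q : ↥M) : ↥D) : Bar L) = 1)
    have h5 : Nat.card (g.ker.map Q.subtype) = Nat.card g.ker :=
      Nat.card_congr (g.ker.equivMapOfInjective Q.subtype Q.subtype_injective).symm.toEquiv
    have h6 := Subgroup.card_dvd_of_le h4
    rw [h5] at h6
    exact Odd.of_dvd_nat hker h6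
  have hQK : ↥Q ≃* ↥(Q.map M.subtype) := Q.equivMapOfInjective M.subtype M.subtype_injective
  -- the map on `K`
  let e : ↥(Q.map M.subtype) ≃* ↥Q := (Q.equivMapOfInjective M.subtype M.subtype_injective).symm
  have hgek : Odd (Nat.card (g.comp e.toMonoidHom).ker) := by
    have h4 : (g.comp e.toMonoidHom).ker = g.ker.comap e.toMonoidHom := rfl
    have h5 : Nat.card (g.ker.comap e.toMonoidHom) = Nat.card g.ker := by
      have h6 : g.ker.comap e.toMonoidHom = g.ker.map e.symm.toMonoidHom := Subgroup.comap_equiv_eq_map_symm e g.ker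
      rw [h6]
      exact Nat.card_congr (g.ker.equivMapOfInjective e.symm.toMonoidHom e.symm.injective).symm.toEquiv
    rw [h4, h5]
    exact hgker
  obtain ⟨φ, hφ⟩ : ∃ φ, φ = g.comp e.toMonoidHom := ⟨_, rfl⟩
  rw [← hφ] at hgek
  have hφs : Function.Surjective φ := by rw [hφ]; exact hg.comp e.surjective
  have hcoe : ∀ k : ↥(Q.map M.subtype), (((e k : ↥Q) : ↥M) : G) = k := by
    intro k
    have h4 := congrArg Subtype.val ((Q.equivMapOfInjective M.subtype M.subtype_injective).apply_symm_apply k)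
    exact h4
  have hφk : ∀ (k : G) (hk : k ∈ Q.map M.subtype) (hkL : k ∈ L),
      ((φ ⟨k, hk⟩ : ↥S) : Bar L) = QuotientGroup.mk ⟨k, hkL⟩ := by
    intro k hk hkL
    rw [hφ]
    change ((f (e ⟨k, hk⟩ : ↥M) : ↥D) : Bar L) = _
    rw [hfm]
    congr 1
    exact Subtype.ext (hcoe ⟨k, hk⟩)
  refine ⟨Q.map M.subtype, isComp_of_subtype h1, ?_, ?_, ?_, ?_, ?_, ?_⟩
  · rintro _ ⟨q, hq, rfl⟩
    exact ⟨q.2.1, hQS q hq⟩
  · intro s hs
    obtain ⟨q, hq⟩ := hg ⟨s, hs⟩
    exact ⟨_, ⟨q, q.2, rfl⟩, (q : ↥M).2.1, congrArg Subtype.val hq⟩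
  · intro m hmV hm hmS n hn
    refine ⟨⟨m, hm, hmV⟩, ?_, rfl⟩
    change _ ∈ Q
    rw [hQ]
    exact PComponents.mem_pElem (n := n) hmS (Subtype.ext hn)
  · intro k hk hkL s hs
    have hkK := core_le _ hk
    have h4 : (⟨k, hkK⟩ : ↥(Q.map M.subtype)) ∈ oddCore ↥(Q.map M.subtype) := (mem_core_iff hkK).mp hk
    have hn : (oddCore ↥(Q.map M.subtype)).Normal := Lib.Cores.pPrimeCore_normal 2
    have h5 : (oddCore ↥(Q.map M.subtype)).map φ ≤ center ↥S := by
      have hn' := hn.map φ hφs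
      refine QsBasic.normal_le_center_of_ne_top hq _ fun h6 => ?_
      have h7 : Odd (Nat.card ↥((oddCore ↥(Q.map M.subtype)).map φ)) :=
        Odd.of_dvd_nat (Nat.coprime_two_right.mp
          (Lib.Cores.pPrimeCore_coprime (G := ↥(Q.map M.subtype)) 2)) (card_map_dvd (H := oddCore ↥(Q.map M.subtype)) φ)
      rw [h6, Nat.card_congr (topEquiv (G := ↥S)).toEquiv] at h7
      exact (Nat.not_even_iff_odd.mpr h7) (even_iff_two_dvd.mpr h2)
    have h6 := h5 ⟨_, h4, rfl⟩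
    have h7 := mem_center_iff.mp h6 ⟨s, hs⟩
    have h8 := congrArg Subtype.val h7
    change s * ((φ ⟨k, hkK⟩ : ↥S) : Bar L) = ((φ ⟨k, hkK⟩ : ↥S) : Bar L) * s at h8
    rw [hφk k hkK hkL] at h8
    exact h8.symm
  · have h4 : φ.ker ≤ oddCore ↥(Q.map M.subtype) :=
      le_pPrimeCore_of_isSubnormal (inferInstance : φ.ker.Normal).isSubnormal hgek.coprime_two_right
    have hn : (oddCore ↥(Q.map M.subtype)).Normal := Lib.Cores.pPrimeCore_normal 2
    obtain ⟨ψ, hψ, hψk⟩ : ∃ ψ : (↥(Q.map M.subtype) ⧸ φ.ker) →* Bar (Q.map M.subtype), Function.Surjective ψ ∧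
        ∀ k : ↥(Q.map M.subtype), ψ (QuotientGroup.mk k) = QuotientGroup.mk k := by
      refine ⟨QuotientGroup.map φ.ker (oddCore ↥(Q.map M.subtype)) (MonoidHom.id _) h4, ?_, fun k => rfl⟩
      intro b
      obtain ⟨k, rfl⟩ := QuotientGroup.mk_surjective b
      exact ⟨QuotientGroup.mk k, rfl⟩
    refine ⟨ψ.comp (QuotientGroup.quotientKerEquivOfSurjective φ hφs).symm.toMonoidHom,
      hψ.comp (MulEquiv.surjective _), ?_⟩
    intro k hk hkL hkS
    have h5 : (⟨_, hkS⟩ : ↥S) = QuotientGroup.quotientKerEquivOfSurjective φ hφs (QuotientGroup.mk ⟨k, hk⟩) :=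
      Subtype.ext (hφk k hk hkL).symm
    rw [h5]
    change ψ ((QuotientGroup.quotientKerEquivOfSurjective φ hφs).symm
      (QuotientGroup.quotientKerEquivOfSurjective φ hφs (QuotientGroup.mk ⟨k, hk⟩))) = _
    rw [MulEquiv.symm_apply_apply]
    exact hψk _
  · intro hO
    obtain ⟨E, -⟩ := barEquiv_of_surj φ hφs hgek hO
    exact ⟨E⟩

end lift

end Cfsg.Agent.UGT.U2.LiftBar
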