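import Cfsg.Agent.UGT.U2.LiftP
import Cfsg.Agent.UGT.U2.Defs
import Cfsg.Agent.UGT.U2.Three
import Cfsg.Agent.UGT.U2.ToIntr
import Cfsg.Agent.Schreier.Balance
import Cfsg.Agent.Cit.ParabSL2

/-!
# The long `SL₂(q)` of a triple of Lie type

`exists_J`: `(x, a, L)` a triple with (f1) for `L / Z*(L)`. There are an involution `z` commuting with `a` and `x`, a
2-component `J ∋ z` of `C(a) ∩ C(z)` with a quaternion pair over `z`, `J / O(J) ≅ SL₂(q)`, `q > 3`, or
`|J / Z*(J)| > 20160`, and `d ∈ O(C(x)) ∩ C(a) ∩ C(z)` not trivial on `J / O(J)`.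
-/

set_option autoImplicit false
set_option linter.unusedSectionVars false

open Cfsg Subgroup
open Cfsg.Agent.SignalizersComponents Cfsg.Agent.Lib
open Cfsg.Agent.SignalizersComponents.IntrinsicBasic
open Cfsg.Agent.SignalizersComponents.PLayerAut
open Cfsg.Agent.SignalizersComponents.BalanceDelta (autQuot autQuot_apply eq_one_of_autQuot_eq_one)
open Cfsg.Agent.Intrinsic.Basic Cfsg.Agent.Intrinsic.Cen
open Cfsg.Agent.McLLyComp.Act
open Cfsg.Agent.UGT.Triple Cfsg.Agent.UGT.Iface Cfsg.Agent.UGT.PumpGen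
open Cfsg.Agent.UGT.U2.Defs Cfsg.Agent.UGT.U2.LiftBar Cfsg.Agent.UGT.U2.LiftP
open Cfsg.Agent.OddHalf.NI (IsSL LieBig)
open scoped commutatorElement

namespace Cfsg.Agent.UGT.U2.LiftJ

universe u

section concl

variable {K : Type u} [Group K] [Finite K]

/-- The form of the conclusion of (f1) which is used. -/
structure Good (x d : MulAut K) (z : K) (J L : Subgroup K) : Prop where
  ord : orderOf z = 2
  le : J ≤ centralizer ({z} : Set K)
  sub : (J.subgroupOf (centralizer ({z} : Set K))).IsSubnormal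
  quasi : IsQuasisimple ↥J
  LJ : L ≤ J
  mem : z ∈ L
  sl : IsSL ↥L
  big : J = L ∨ 20160 < Nat.card (↥J ⧸ center ↥J)
  xJ : J.map x.toMonoidHom = J
  xL : L.map x.toMonoidHom = L
  dJ : J.map d.toMonoidHom = J
  dL : L.map d.toMonoidHom = L
  ne : ∃ j ∈ J, d j ≠ j

theorem isSL_of {q : ℕ} {J : Subgroup K} (h : FOne.IsSL2 q J) (hq : 3 < q) : IsSL ↥J := by
  obtain ⟨F, i, hfin, hc, hodd, he⟩ := h
  have := Fintype.ofFinite F
  rw [Nat.card_eq_fintype_card] at hc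
  exact ⟨F, i, this, hc ▸ hodd, hc ▸ hq, he⟩

theorem quasi_of {J : Subgroup K} (h : IsSL ↥J) : IsQuasisimple ↥J := by
  obtain ⟨F, _, _, h1, h2, ⟨f⟩⟩ := h
  exact perfect_of_sl h2 f

/-- The involutions of a quotient by a 2-group which lift. -/
theorem exists_good (hna : center K = ⊥) (hF : FK K) {x : MulAut K}
    {D : Subgroup (MulAut K)} (hx : orderOf x = 2) (hodd : Odd (Nat.card ↥D))
    (hcomm : ∀ d ∈ D, d * x = x * d)
    (hnorm : ∀ v : K, FOne.Liftable x v → ∀ d ∈ D, MulAut.conj v * d * (MulAut.conj v)⁻¹ ∈ D)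
    (hne : D ≠ ⊥) :
    LieBig K ∧ ∃ (z : K) (J L : Subgroup K) (d : MulAut K), d ∈ D ∧ Good x d z J L := by
  obtain ⟨q, hF1, hbig⟩ := hF
  obtain ⟨z, J, hz, hzJ, hle, hsub, hgood, hxJ, d, hd, hdJ, hdne⟩ := hF1 x D hx hodd hcomm hnorm hne
  have hxx : ∀ g, x (x g) = g := by
    intro g
    have h1 : x ^ 2 = 1 := by rw [← hx]; exact pow_orderOf_eq_one x
    rw [← MulAut.mul_apply, ← sq, h1, MulAut.one_apply]
  rcases hgood with h | ⟨h3, hq, hc, d, hd, hdJ, hdne, L, hLJ, hzL, hL, hxL, hdL⟩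
  · have h3 : 3 < q := by
      have h4 := h
      obtain ⟨F, i, hfin, hc, ho, -⟩ := h4
      have h5 : 1 < q := by
        rw [← hc]
        exact Finite.one_lt_card
      have h6 : q ≠ 3 := by
        rintro rfl
        obtain ⟨j, hj, hne'⟩ := hdne
        exact hne' (Three.three_false hna x D hxx hodd hcomm (fun v hv ho d hd =>
          hnorm v (FOne.Liftable.of_odd hv ho) d hd) J h hxJ hd hdJ j hj)
      obtain ⟨k, hk⟩ := ho
      omega
    have hsl := isSL_of h h3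
    exact ⟨hbig h3, z, J, J, d, hd, hz, hle, hsub, quasi_of hsl, le_rfl, hzJ, hsl, Or.inl rfl, hxJ, hxJ, hdJ,
      hdJ, hdne⟩
  · exact ⟨hbig h3, z, J, L, d, hd, hz, hle, hsub, hq, hLJ, hzL, isSL_of hL h3, Or.inr hc, hxJ, hxL, hdJ,
      hdL, hdne⟩

end concl

section triple

variable {G : Type u} [Group G] [Finite G] {x a : G} {L : Subgroup G}

/-- the action of `N(L)` on `L / Z*(L)` -/
noncomputable def actK (L : Subgroup G) :
    ↥(normalizer (L : Set G)) →* MulAut (Bar L ⧸ center (Bar L)) :=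
  (autQuot (Bar L)).comp (act L)

theorem quasi_bar {H L : Subgroup G} (h : IsComp H L) : IsQuasisimple (Bar L) := (isComp_iff.mp h).2.2.1

theorem actK_eq_one_iff {H : Subgroup G} (h : IsComp H L) {g : G} (hg : g ∈ normalizer (L : Set G)) :
    actK L ⟨g, hg⟩ = 1 ↔ Fixes g L := by
  constructor
  · intro h1
    rw [← act_eq_one_iff hg]
    apply MulEquiv.ext
    intro b
    exact eq_one_of_autQuot_eq_one (quasi_bar h).1 (act L ⟨g, hg⟩) h1 b
  · intro h1
    change autQuot (Bar L) (act L ⟨g, hg⟩) = 1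
    rw [(act_eq_one_iff hg).mpr h1, map_one]

theorem autQuot_conj {B : Type*} [Group B] (b : B) :
    autQuot B (MulAut.conj b) = MulAut.conj (QuotientGroup.mk b : B ⧸ center B) := by
  apply MulEquiv.ext
  intro y
  obtain ⟨m, rfl⟩ := QuotientGroup.mk'_surjective (center B) y
  rfl

/-- the group of automorphisms of `L / Z*(L)` induced by `O(C(x)) ∩ C(a)` -/
noncomputable def DD (x a : G) (L : Subgroup G) : Subgroup (MulAut (Bar L ⧸ center (Bar L))) :=
  ((core (centralizer ({x} : Set G)) ⊓ centralizer ({a} : Set G)).subgroupOf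
    (normalizer (L : Set G))).map (actK L)

theorem comm_of_core {x e : G} (he : e ∈ core (centralizer ({x} : Set G))) : e * x = x * e :=
  mem_centralizer_singleton_iff.mp (core_le _ he)

theorem odd_DD : Odd (Nat.card ↥(DD x a L)) := by
  have h1 := card_map_dvd (H := (core (centralizer ({x} : Set G)) ⊓ centralizer ({a} : Set G)).subgroupOf
    (normalizer (L : Set G))) (actK L)
  have h2 : Nat.card ↥((core (centralizer ({x} : Set G)) ⊓ centralizer ({a} : Set G)).subgroupOf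
      (normalizer (L : Set G))) ∣ Nat.card ↥(core (centralizer ({x} : Set G))) := by
    refine (card_comap_dvd_of_injective _ _ (subtype_injective _)).trans ?_
    exact card_dvd_of_le inf_le_left
  exact Odd.of_dvd_nat (odd_card_core _) (h1.trans h2)

/-- The liftable elements of `C_K(x)` lift to `C_L(x)`. -/
theorem exists_lift_v (hx2 : x * x = 1) (hxN : x ∈ normalizer (L : Set G)) {v : Bar L ⧸ center (Bar L)}
    (hv : FOne.Liftable (actK L ⟨x, hxN⟩) v) :
    ∃ (l : G) (hl : l ∈ L), l * x = x * l ∧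
      (QuotientGroup.mk (QuotientGroup.mk ⟨l, hl⟩ : Bar L) : Bar L ⧸ center (Bar L)) = v := by
  have hZ := LiftBar.IsComp.center_isPGroup L
  obtain ⟨hv1, hodd | ⟨hv2, J0, ⟨q, hq, hJ0⟩, hvJ, hJx⟩⟩ := hv
  · obtain ⟨b, hb, hbx⟩ := lift_odd hZ (act L ⟨x, hxN⟩) hv1 hodd
    obtain ⟨l, hl, hlx, hlb⟩ := lift_fixed hx2 hxN hbx
    exact ⟨l, hl, hlx, by rw [hlb, hb]⟩
  · obtain ⟨-, j, -, -, hjv, hjα⟩ := exists_Q hZ hv2 hvJ (isSL_of hJ0 hq)
    obtain ⟨l, hl, hlx, hlb⟩ := lift_fixed hx2 hxN (hjα (act L ⟨x, hxN⟩) hJx)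
    exact ⟨l, hl, hlx, by rw [hlb]; exact hjv⟩

/-- **The long `SL₂(q)` of a triple of Lie type.** -/
theorem exists_J (T : IsTriple x a L) (hF : FK (Bar L ⧸ center (Bar L))) :
    LieBig (Bar L ⧸ center (Bar L)) ∧ ∃ (z d : G) (J : Subgroup G), orderOf z = 2 ∧ z * a = a * z ∧
      z * x = x * z ∧ IsComp (centralizer ({z} : Set G) ⊓ centralizer ({a} : Set G)) J ∧ z ∈ J ∧
      (IsSL (Bar J) ∨ 20160 < Nat.card (Bar J ⧸ center (Bar J))) ∧
      Nat.card (Bar J ⧸ center (Bar J)) < Nat.card (Bar L ⧸ center (Bar L)) ∧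
      (∃ u ∈ J, ∃ y ∈ J, u * u = z ∧ y * y = z ∧ ⁅u, y⁆ = z) ∧
      d ∈ core (centralizer ({x} : Set G)) ∧ d ∈ centralizer ({a} : Set G) ∧
      d ∈ centralizer ({z} : Set G) ∧ ¬ Fixes d J := by
  have hx2 := sq_of_order T.invx
  have hq := quasi_bar T.comp
  have hZ := LiftBar.IsComp.center_isPGroup L
  have hxN := T.x_mem
  have hLa : ∀ l ∈ L, l ∈ centralizer ({a} : Set G) := fun l hl => T.comp.le hl
  -- the elements of `D`
  have hDmem : ∀ δ ∈ DD x a L, ∃ (e : G) (he : e ∈ normalizer (L : Set G)),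
      e ∈ core (centralizer ({x} : Set G)) ∧ e ∈ centralizer ({a} : Set G) ∧ actK L ⟨e, he⟩ = δ := by
    rintro δ ⟨⟨e, he⟩, h1, rfl⟩
    exact ⟨e, he, h1.1, h1.2, rfl⟩
  have hDof : ∀ (e : G) (he : e ∈ normalizer (L : Set G)), e ∈ core (centralizer ({x} : Set G)) →
      e ∈ centralizer ({a} : Set G) → actK L ⟨e, he⟩ ∈ DD x a L := fun e he h1 h2 =>
    ⟨⟨e, he⟩, ⟨h1, h2⟩, rfl⟩
  have hx1 : actK L ⟨x, hxN⟩ ≠ 1 := fun h => T.not_fixes ((actK_eq_one_iff T.comp hxN).mp h)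
  have hx'2 : actK L ⟨x, hxN⟩ ^ 2 = 1 := by
    rw [← map_pow]
    have : (⟨x, hxN⟩ : ↥(normalizer (L : Set G))) ^ 2 = 1 := Subtype.ext (by
      change x ^ 2 = 1
      rw [pow_two, hx2])
    rw [this, map_one]
  have hna : center (Bar L ⧸ center (Bar L)) = ⊥ := Schreier.Balance.center_quotient_eq_bot hq
  obtain ⟨hbig, z', J', L', δ, hδ, H⟩ := exists_good hna hF
    (orderOf_eq_prime hx'2 hx1) (odd_DD (x := x) (a := a) (L := L)) (by
      intro δ hδ
      obtain ⟨e, he, h1, -, rfl⟩ := hDmem δ hδ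
      rw [← map_mul, ← map_mul]
      congr 1
      exact Subtype.ext (comm_of_core h1)) (by
      intro v hv δ hδ
      obtain ⟨l, hl, hlx, hlv⟩ := exists_lift_v hx2 hxN hv
      obtain ⟨e, he, h1, h2, rfl⟩ := hDmem δ hδ
      have h3 : MulAut.conj v = actK L ⟨l, le_normalizer hl⟩ := by
        change _ = autQuot (Bar L) (act L ⟨l, le_normalizer hl⟩)
        rw [act_of_mem hl, autQuot_conj, hlv]
      rw [h3, ← map_mul, ← map_inv, ← map_mul]
      refine hDof (l * e * l⁻¹) _ (conj_core (mem_c hlx) h1) ?_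
      exact mul_mem (mul_mem (hLa l hl) h2) (inv_mem (hLa l hl))) (by
      obtain ⟨d, hd, hda, hdf⟩ := T.bad
      intro h
      have hdN := T.mem_normalizer_of_core hd hda
      apply hdf
      rw [← actK_eq_one_iff T.comp hdN]
      have := hDof d hdN hd hda
      rwa [h, mem_bot] at this)
  refine ⟨hbig, ?_⟩
  obtain ⟨P, Q, j, hQP, hQSL, hjQ, hjo, hPj, hPsn, hPq, hPmap, hPα, hjα, hPQ⟩ :=
    exists_P hZ H.ord H.le H.sub H.quasi H.LJ H.mem H.sl
  have hjP : j ∈ P := hQP hjQ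
  obtain ⟨j₀, hj₀, hj₀δ⟩ := H.ne
  obtain ⟨e, he, hex, hea, rfl⟩ := hDmem δ hδ
  have hPx := hPα (act L ⟨x, hxN⟩) H.xJ
  have hPe := hPα (act L ⟨e, he⟩) H.dJ
  have hjx := hjα (act L ⟨x, hxN⟩) H.xL
  have hje := hjα (act L ⟨e, he⟩) H.dL
  have hjj : j * j = 1 := by
    have h1 := pow_orderOf_eq_one j
    rwa [hjo, pow_two] at h1
  obtain ⟨z, hzL, hzx, hzz, hzj⟩ := lift_fixed_inv hx2 hxN hjx hjj
  have hz1 : z ≠ 1 := by
    rintro rfl
    have h1 : j = 1 := hzj.symm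
    rw [h1, orderOf_one] at hjo
    exact absurd hjo (by decide)
  have hzo : orderOf z = 2 := orderOf_eq_prime (by rw [pow_two]; exact hzz) hz1
  have hza : z * a = a * z := mem_centralizer_singleton_iff.mp (hLa z hzL)
  -- the lift of `P`
  have hV : IsPGroup 2 ↥(zpowers z) := by
    have : Fact (Nat.Prime 2) := ⟨Nat.prime_two⟩
    exact BalanceAux.isPGroup_zpowers_of_orderOf hzo
  have hVL : zpowers z ≤ L := zpowers_le.mpr hzL
  have himg : img L (zpowers z) = zpowers j := by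
    ext b
    rw [mem_img]
    constructor
    · rintro ⟨l, hl, ⟨n, rfl⟩, rfl⟩
      refine ⟨n, ?_⟩
      rw [← hzj]
      rfl
    · rintro ⟨n, rfl⟩
      refine ⟨z ^ n, zpow_mem hzL n, ⟨n, rfl⟩, ?_⟩
      rw [← hzj]
      rfl
  have hcenj : centralizer (img L (zpowers z) : Set (Bar L)) = centralizer ({j} : Set (Bar L)) := by
    rw [himg, zpowers_eq_closure, centralizer_closure]
  have hcenz : centralizer (zpowers z : Set G) = centralizer ({z} : Set G) := by
    rw [zpowers_eq_closure, centralizer_closure]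
  have hP2 : 2 ∣ Nat.card ↥P := by
    have h1 := orderOf_dvd_natCard (⟨j, hjP⟩ : ↥P)
    rwa [Subgroup.orderOf_mk, hjo] at h1
  have hPO : J' = L' → oddCore ↥P = ⊥ := by
    intro hJL
    rw [hPQ hJL]
    obtain ⟨F, _, _, h1, h2, ⟨f⟩⟩ := hQSL
    have h3 := Cit.ParabSL2.oddCore_sl (F := F) h1
    have h4 := Lib.Cores.map_equiv_pPrimeCore f 2
    rw [eq_bot_iff]
    intro y hy
    have h5 : f y ∈ (oddCore ↥Q).map f.toMonoidHom := ⟨y, hy, rfl⟩
    rw [show (oddCore ↥Q).map f.toMonoidHom = oddCore _ from h4, h3, mem_bot] at h5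
    rw [mem_bot]
    exact f.injective (by rw [h5, map_one])
  obtain ⟨J, hJ, hJ1, hJ2, hJ3, hJ4, ⟨ψ, hψ, hψk⟩, hJ5⟩ := exists_lift hV hVL (S := P) (by rw [hcenj]; exact hPj)
    (by rw [hcenj]; exact hPsn) hPq hP2
  rw [hcenz] at hJ
  have hzJ : z ∈ J := by
    refine hJ3 z ?_ hzL (by rw [hzj]; exact hjP) 1 (by rw [pow_one, pow_two]; exact hzz)
    rw [hcenz, mem_centralizer_singleton_iff]
  -- `d`
  have hez : e⁻¹ * (z * e * z⁻¹) ∈ core L ⊓ core (centralizer ({x} : Set G)) := by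
    refine mem_inf.mpr ⟨?_, ?_⟩
    · -- `e z e⁻¹ = z` mod core
      have h1 : act L ⟨e, he⟩ (QuotientGroup.mk ⟨z, hzL⟩) = QuotientGroup.mk ⟨z, hzL⟩ := by
        rw [hzj]
        exact hje
      rw [act_mk he hzL] at h1
      have h2 := (mk_eq_iff hzL (conj_mem he hzL)).mp h1.symm
      -- `z⁻¹ e z e⁻¹ ∈ core L`
      have h4 : z * (z⁻¹ * (e * z * e⁻¹))⁻¹ * z⁻¹ ∈ core L :=
        conj_mem_core (le_normalizer hzL) (inv_mem h2)
      have h5 := conj_mem_core (inv_mem he) h4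
      rw [inv_inv] at h5
      have h7 : e⁻¹ * (z * e * z⁻¹) = e⁻¹ * (z * e * z⁻¹ * e⁻¹) * e := by group
      rw [h7]
      have h8 : z * (z⁻¹ * (e * z * e⁻¹))⁻¹ * z⁻¹ = z * e * z⁻¹ * e⁻¹ := by group
      rw [← h8]
      exact h5
    · exact mul_mem (inv_mem hex) (conj_core (mem_c hzx) hex)
  have hzN : z ∈ normalizer ((core L ⊓ core (centralizer ({x} : Set G)) : Subgroup G) : Set G) := by
    rw [mem_normalizer_iff_cj, cj_inf]
    have h1 := mem_normalizer_iff_cj.mp (le_normalizer_core L hzL)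
    have h2 := mem_normalizer_iff_cj.mp (le_normalizer_core (centralizer ({x} : Set G)) (mem_c hzx))
    rw [h1, h2]
  obtain ⟨o, ho, hoc⟩ := Intrinsic.Lifting.exists_commute (n := 1)
    (Odd.of_dvd_nat (odd_card_core L) (card_dvd_of_le inf_le_left))
    (by rw [pow_one, pow_two, hzz]) hzN hez
  have hoL : o ∈ L := core_le L ho.1
  have hJc : IsComp (centralizer ({z} : Set G) ⊓ centralizer ({a} : Set G)) J := by
    rw [inf_comm]
    exact isComp_of_inf T.comp hJ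
  have hBq := quasi_bar hJc
  -- the quotients by the centres
  obtain ⟨E1⟩ := ToIntr.equiv_mod_center hPq hBq ψ hψ
  have hperf' : ⁅J', J'⁆ = J' := Subgroup.isPerfect_iff.mp H.quasi.1
  obtain ⟨E2⟩ : Nonempty (↥P ⧸ center ↥P ≃* ↥J' ⧸ center ↥J') := by
    let f : ↥P →* ↥J' := MonoidHom.codRestrict ((QuotientGroup.mk' (center (Bar L))).comp P.subtype) J'
      (fun p => by
        rw [← hPmap]
        exact ⟨p, p.2, rfl⟩)
    refine ToIntr.equiv_mod_center hPq H.quasi f ?_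
    rintro ⟨y, hy⟩
    have hy' := hy
    rw [← hPmap] at hy'
    obtain ⟨p, hp, rfl⟩ := hy'
    exact ⟨⟨p, hp⟩, rfl⟩
  have hcard : Nat.card (Bar J ⧸ center (Bar J)) = Nat.card (↥J' ⧸ center ↥J') :=
    Nat.card_congr (E1.symm.trans E2).toEquiv
  refine ⟨z, e * o, J, hzo, hza, hzx, hJc, hzJ, ?_, ?_, ?_, mul_mem hex ho.2, mul_mem hea (hLa o hoL),
    mem_centralizer_singleton_iff.mpr hoc.symm, ?_⟩
  · rcases H.big with hb | hb
    · left
      obtain ⟨f0⟩ := hJ5 (hPO hb)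
      obtain ⟨F, i1, i2, h1, h2, ⟨f⟩⟩ := hQSL
      obtain ⟨f1⟩ : Nonempty (↥P ≃* ↥Q) := by
        rw [hPQ hb]
        exact ⟨MulEquiv.refl _⟩
      exact ⟨F, i1, i2, h1, h2, ⟨(f0.trans f1).trans f⟩⟩
    · right
      rw [hcard]
      exact hb
  · rw [hcard]
    refine lt_of_le_of_lt (Nat.le_of_dvd Nat.card_pos (Subgroup.card_quotient_dvd_card _)) ?_
    refine lt_of_le_of_ne (Subgroup.card_le_card_group J') fun h1 => ?_
    have h2 : J' = ⊤ := (Subgroup.card_eq_iff_eq_top J').mp h1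
    have h3 : z' ∈ center (Bar L ⧸ center (Bar L)) := by
      rw [mem_center_iff]
      intro g
      exact mem_centralizer_singleton_iff.mp (H.le (h2 ▸ mem_top g))
    rw [hna, mem_bot] at h3
    have h4 := H.ord
    rw [h3, orderOf_one] at h4
    exact absurd h4 (by decide)
  · -- the quaternion pair
    obtain ⟨u0, y0, hu0, hy0, huy0⟩ := exists_pair hQSL (j := ⟨j, hjQ⟩)
      (by rw [Subgroup.orderOf_mk]; exact hjo)
    have hψj : ψ ⟨j, hjP⟩ = QuotientGroup.mk ⟨z, hzJ⟩ := by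
      have h1 : (⟨j, hjP⟩ : ↥P) = ⟨QuotientGroup.mk ⟨z, hzL⟩, hzj ▸ hjP⟩ := Subtype.ext hzj.symm
      rw [h1]
      exact hψk z hzJ hzL _
    refine LiftQ.exists_q8 hzz hzJ (fun g hg => ?_) (u := ψ (inclusion hQP u0)) (x := ψ (inclusion hQP y0))
      ?_ ?_ ?_
    · exact (mem_centralizer_singleton_iff.mp (hJc.le hg).1).symm
    · rw [← map_mul, ← map_mul, hu0]
      exact hψj
    · rw [← map_mul, ← map_mul, hy0]
      exact hψj
    · rw [← map_commutatorElement, ← map_commutatorElement, huy0]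
      exact hψj
  · intro hfx
    -- `j₀ = π p`, `p ∈ P`
    have h1 : j₀ ∈ P.map (QuotientGroup.mk' (center (Bar L))) := by rw [hPmap]; exact hj₀
    obtain ⟨p, hp, rfl⟩ := h1
    apply hj₀δ
    change autQuot (Bar L) (act L ⟨e, he⟩) (QuotientGroup.mk' (center (Bar L)) p) = _
    rw [autQuot_apply]
    congr 1
    have hPperf : ⁅P, P⁆ = P := Subgroup.isPerfect_iff.mp hPq.1
    refine eq_of_central hPperf (act L ⟨e, he⟩) ?_ p hp
    intro p hp
    obtain ⟨k, hkJ, hkL, rfl⟩ := hJ2 p hp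
    have h2 := (fixes_iff_conj.mp hfx).2 k hkJ
    have h4 : e * o ∈ normalizer (L : Set G) := mul_mem he (le_normalizer hoL)
    have h6 : act L ⟨o, le_normalizer hoL⟩ = 1 := by
      rw [act_of_mem hoL, (mk_eq_one_iff hoL).mpr ho.1, map_one]
    have h7 : act L ⟨e * o, h4⟩ = act L ⟨e, he⟩ := by
      rw [act_mul he (le_normalizer hoL), h6, mul_one]
    have h8 : e * o * k * (e * o)⁻¹ ∈ L := conj_mem h4 hkL
    have h9 : act L ⟨e, he⟩ (QuotientGroup.mk ⟨k, hkL⟩) = QuotientGroup.mk ⟨e * o * k * (e * o)⁻¹, h8⟩ := by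
      rw [← h7, act_mk h4 hkL]
    have h10 : k⁻¹ * (e * o * k * (e * o)⁻¹) ∈ L := mul_mem (inv_mem hkL) h8
    refine ⟨QuotientGroup.mk ⟨k⁻¹ * (e * o * k * (e * o)⁻¹), h10⟩, ?_, ?_, ?_⟩
    · obtain ⟨h12, h11⟩ := hJ1 _ (core_le J h2)
      exact h11
    · rw [h9, ← QuotientGroup.mk_mul]
      congr 1
      apply Subtype.ext
      change e * o * k * (e * o)⁻¹ = k * (k⁻¹ * (e * o * k * (e * o)⁻¹))
      group
    · intro q hq
      exact hJ4 _ h2 h10 q hq

end triple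

end Cfsg.Agent.UGT.U2.LiftJ
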