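import Cfsg.Agent.UGT.U2.LiftBar
import Cfsg.Agent.UGT.U2.FOne.Defs
import Cfsg.Agent.SignalizersComponents.SLQuasisimple
import Cfsg.Agent.OddHalf.NI.Niv

/-!
# Lifting a long `SL₂(q)` to a central extension

`exists_P`: `z' ∈ L' ≤ J' ≤ B / Z(B)`, `J'` quasisimple and subnormal in `C(z')`, `L' ≅ SL₂(q)`, `q > 3`, `Z(B)` a
2-group: `z'`, `L'`, `J'` lift to `B`.
-/

set_option autoImplicit false
set_option linter.unusedSectionVars false

open Cfsg Subgroup
open Cfsg.Agent.SignalizersComponents Cfsg.Agent.Lib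
open Cfsg.Agent.SignalizersComponents.PLayerAut
open Cfsg.Agent.SignalizersComponents.BalanceDelta (autQuot autQuot_apply)
open Cfsg.Agent.OddHalf.NI (IsSL LieBig)
open scoped commutatorElement

namespace Cfsg.Agent.UGT.U2.LiftP

section SLfacts

variable {F : Type*} [Field F] [Fintype F]

/-- the involution of a copy of `SL₂(F)` -/
theorem eq_neg_one (hF : Odd (Fintype.card F)) {J : Type*} [Group J]
    (e : J ≃* Matrix.SpecialLinearGroup (Fin 2) F) {x : J} (hx : orderOf x = 2) : e x = -1 := by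
  have h0 : x * x = 1 := by
    have := pow_orderOf_eq_one x
    rwa [hx, pow_two] at this
  have h1 : e x * e x = 1 := by rw [← map_mul, h0, map_one]
  rcases Lib.PSL2Inv.sq_eq_one (TwoFusion.QuatCoverSL.two_ne_zero_of_odd hF) h1 with h | h
  · exfalso
    have h2 : x = 1 := e.injective (by rw [h, map_one])
    rw [h2, orderOf_one] at hx
    exact absurd hx (by decide)
  · exact h

theorem perfect_of_sl (h3 : 3 < Fintype.card F) {J : Type*} [Group J]
    (e : J ≃* Matrix.SpecialLinearGroup (Fin 2) F) : IsQuasisimple J :=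
  Components.isQuasisimple_of_mulEquiv e.symm
    (SLQuasisimple.isQuasisimple_two (by rw [Nat.card_eq_fintype_card]; omega))

end SLfacts

section lft

variable {B : Type*} [Group B]

/-- The perfect preimage of `S ≤ B / Z(B)`. -/
def lft (S : Subgroup (B ⧸ center B)) : Subgroup B :=
  ⁅S.comap (QuotientGroup.mk' (center B)), S.comap (QuotientGroup.mk' (center B))⁆

theorem comm_loc {p q z w : B} (h1 : q * z = z * q) (h2 : z * w = w * z) (h3 : p * w = w * p) :
    ⁅p * z, q * w⁆ = ⁅p, q⁆ := by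
  have h4 : p⁻¹ * w = w * p⁻¹ := by
    rw [inv_mul_eq_iff_eq_mul, ← mul_assoc, h3, mul_inv_cancel_right]
  rw [commutatorElement_def, commutatorElement_def]
  calc p * z * (q * w) * (p * z)⁻¹ * (q * w)⁻¹
      = p * (z * q) * w * z⁻¹ * p⁻¹ * w⁻¹ * q⁻¹ := by group
    _ = p * (q * z) * w * z⁻¹ * p⁻¹ * w⁻¹ * q⁻¹ := by rw [h1]
    _ = p * q * (z * w) * z⁻¹ * p⁻¹ * w⁻¹ * q⁻¹ := by group
    _ = p * q * (w * z) * z⁻¹ * p⁻¹ * w⁻¹ * q⁻¹ := by rw [h2]
    _ = p * q * (w * p⁻¹) * w⁻¹ * q⁻¹ := by group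
    _ = p * q * (p⁻¹ * w) * w⁻¹ * q⁻¹ := by rw [h4]
    _ = p * q * p⁻¹ * q⁻¹ := by group

theorem comm_central {p q z w : B} (hz : z ∈ center B) (hw : w ∈ center B) :
    ⁅p * z, q * w⁆ = ⁅p, q⁆ :=
  comm_loc (mem_center_iff.mp hz q) (mem_center_iff.mp hw z) (mem_center_iff.mp hw p)

/-- An automorphism trivial modulo the centre of the perfect subgroup `P` is trivial on `P`. -/
theorem eq_of_central {P : Subgroup B} (hP : ⁅P, P⁆ = P) (α : MulAut B)
    (h : ∀ p ∈ P, ∃ ζ ∈ P, α p = p * ζ ∧ ∀ q ∈ P, ζ * q = q * ζ) : ∀ p ∈ P, α p = p := by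
  have h2 : P ≤ MonoidHom.eqLocus α.toMonoidHom (MonoidHom.id B) := by
    conv_lhs => rw [← hP]
    rw [commutator_le]
    intro a ha b hb
    obtain ⟨z, hz, haz, hzc⟩ := h a ha
    obtain ⟨w, hw, hbw, hwc⟩ := h b hb
    change α ⁅a, b⁆ = ⁅a, b⁆
    rw [map_commutatorElement, haz, hbw]
    exact comm_loc (hzc b hb).symm (hzc w hw) (hwc a ha).symm
  intro p hp
  exact h2 hp

theorem lft_le (S : Subgroup (B ⧸ center B)) : lft S ≤ S.comap (QuotientGroup.mk' (center B)) :=
  commutator_le_self _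

theorem lft_mono {S T : Subgroup (B ⧸ center B)} (h : S ≤ T) : lft S ≤ lft T :=
  commutator_mono (comap_mono h) (comap_mono h)

variable {S : Subgroup (B ⧸ center B)}

theorem lft_map (hS : ⁅S, S⁆ = S) : (lft S).map (QuotientGroup.mk' (center B)) = S := by
  rw [lft, map_commutator, map_comap_eq_self_of_surjective (QuotientGroup.mk'_surjective _), hS]

theorem exists_mul (hS : ⁅S, S⁆ = S) {y : B} (hy : y ∈ S.comap (QuotientGroup.mk' (center B))) :
    ∃ p ∈ lft S, ∃ z ∈ center B, y = p * z := by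
  have h1 : QuotientGroup.mk' (center B) y ∈ (lft S).map (QuotientGroup.mk' (center B)) := by
    rw [lft_map hS]; exact hy
  obtain ⟨p, hp, hpy⟩ := h1
  have h2 : p⁻¹ * y ∈ center B := QuotientGroup.eq.mp hpy
  exact ⟨p, hp, p⁻¹ * y, h2, by group⟩

theorem lft_perfect (hS : ⁅S, S⁆ = S) : ⁅lft S, lft S⁆ = lft S := by
  apply le_antisymm (commutator_le_self _)
  conv_lhs => rw [lft]
  rw [commutator_le]
  intro a ha b hb
  obtain ⟨p, hp, z, hz, rfl⟩ := exists_mul hS ha
  obtain ⟨q, hq, w, hw, rfl⟩ := exists_mul hS hb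
  rw [comm_central hz hw]
  exact commutator_mem_commutator hp hq

theorem lft_aut [Finite B] (α : MulAut B) (hα : S.map (autQuot B α).toMonoidHom = S) :
    (lft S).map α.toMonoidHom = lft S := by
  obtain ⟨J1, hJ1⟩ : ∃ J1, J1 = S.comap (QuotientGroup.mk' (center B)) := ⟨_, rfl⟩
  have h6 : J1.map α.toMonoidHom = J1 := by
    have hle : ∀ y ∈ J1, α y ∈ J1 := by
      intro y hy
      rw [hJ1, mem_comap] at hy ⊢
      have h7 : QuotientGroup.mk' (center B) (α y) = autQuot B α (QuotientGroup.mk' (center B) y) := rfl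
      rw [h7, ← hα]
      exact ⟨_, hy, rfl⟩
    have h8 : J1.map α.toMonoidHom ≤ J1 := by
      rintro _ ⟨y, hy, rfl⟩
      exact hle y hy
    exact Subgroup.eq_of_le_of_card_ge h8 (by
      rw [Nat.card_congr (J1.equivMapOfInjective α.toMonoidHom α.injective).symm.toEquiv])
  rw [lft, map_commutator, ← hJ1, h6]

/-- the map `lft S → S` -/
def lftHom (hS : ⁅S, S⁆ = S) : ↥(lft S) →* ↥S :=
  MonoidHom.codRestrict ((QuotientGroup.mk' (center B)).comp (lft S).subtype) S (fun p => lft_le S p.2)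

theorem lftHom_surj (hS : ⁅S, S⁆ = S) : Function.Surjective (lftHom hS) := by
  rintro ⟨y, hy⟩
  have hy' := hy
  rw [← lft_map hS] at hy'
  obtain ⟨p, hp, rfl⟩ := hy'
  exact ⟨⟨p, hp⟩, rfl⟩

theorem mem_ker (hS : ⁅S, S⁆ = S) {p : ↥(lft S)} (hp : p ∈ (lftHom hS).ker) : (p : B) ∈ center B :=
  (QuotientGroup.eq_one_iff _).mp (congrArg Subtype.val (MonoidHom.mem_ker.mp hp))

theorem ker_le (hS : ⁅S, S⁆ = S) : (lftHom hS).ker ≤ center ↥(lft S) := by
  intro p hp
  rw [mem_center_iff]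
  intro g
  exact Subtype.ext (mem_center_iff.mp (mem_ker hS hp) g)

/-- `lft S` commutes with the preimages of the elements commuting with `S`. -/
theorem lft_comm (hS : ⁅S, S⁆ = S) {j : B}
    (hj : ∀ s ∈ S, s * QuotientGroup.mk' (center B) j = QuotientGroup.mk' (center B) j * s) :
    ∀ y ∈ S.comap (QuotientGroup.mk' (center B)), y * j = j * y := by
  have h1 : ∀ p ∈ lft S, j * p * j⁻¹ = p := by
    have h2 : lft S ≤ MonoidHom.eqLocus (MulAut.conj j).toMonoidHom (MonoidHom.id B) := by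
      rw [← lft_perfect hS, commutator_le]
      intro a ha b hb
      have key : ∀ a ∈ lft S, ∃ z ∈ center B, j * a * j⁻¹ = a * z := by
        intro a ha
        refine ⟨a⁻¹ * (j * a * j⁻¹), ?_, by group⟩
        apply QuotientGroup.eq.mp
        have h3 := hj _ (lft_le S ha)
        change QuotientGroup.mk' (center B) a = QuotientGroup.mk' (center B) (j * a * j⁻¹)
        rw [map_mul, map_mul, map_inv, ← h3]
        group
      obtain ⟨z, hz, haz⟩ := key a ha
      obtain ⟨w, hw, hbw⟩ := key b hb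
      change (MulAut.conj j) ⁅a, b⁆ = ⁅a, b⁆
      rw [map_commutatorElement, MulAut.conj_apply, MulAut.conj_apply, haz, hbw, comm_central hz hw]
    intro p hp
    exact h2 hp
  intro y hy
  obtain ⟨p, hp, z, hz, rfl⟩ := exists_mul hS hy
  have h2 := h1 p hp
  rw [mul_inv_eq_iff_eq_mul] at h2
  have h3 : j * z = z * j := mem_center_iff.mp hz j
  rw [mul_assoc, ← h3, ← mul_assoc, ← h2, mul_assoc]

end lft

section lift

variable {B : Type*} [Group B] [Finite B]

/-- A subgroup `L' ≅ SL₂(q)` of `B / Z(B)` lifts to `B`. -/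
theorem exists_Q (hZ : IsPGroup 2 ↥(center B)) {L' : Subgroup (B ⧸ center B)} {z' : B ⧸ center B}
    (hzo : orderOf z' = 2) (hzL : z' ∈ L') (hL : IsSL ↥L') :
    IsSL ↥(lft L') ∧ ∃ j ∈ lft L', orderOf j = 2 ∧ QuotientGroup.mk' (center B) j = z' ∧
      (∀ α : MulAut B, L'.map (autQuot B α).toMonoidHom = L' → α j = j) := by
  obtain ⟨F, _, _, hF, h3, ⟨e'⟩⟩ := hL
  set π := QuotientGroup.mk' (center B) with hπ
  have hLp : ⁅L', L'⁆ = L' := Subgroup.isPerfect_iff.mp (perfect_of_sl h3 e').1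
  -- `Q ≅ SL₂`
  have hf2 : IsPGroup 2 (lftHom hLp).ker := by
    intro x
    obtain ⟨k, hk⟩ := hZ ⟨x, mem_ker hLp x.2⟩
    refine ⟨k, Subtype.ext (Subtype.ext ?_)⟩
    exact congrArg (fun z : center B => (z : B)) hk
  have hperf : commutator ↥(lft L') = ⊤ := (Subgroup.isPerfect_iff.mpr (lft_perfect hLp)).commutator_eq_top
  have hgk : (e'.toMonoidHom.comp (lftHom hLp)).ker = (lftHom hLp).ker := by
    ext x
    rw [MonoidHom.mem_ker, MonoidHom.mem_ker]
    exact map_eq_one_iff e' e'.injective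
  have hginj : Function.Injective (e'.toMonoidHom.comp (lftHom hLp)) :=
    OddHalf.NI.CovTwo.injective_of_sl hF hperf _ (by rw [hgk]; exact ker_le hLp) (by rw [hgk]; exact hf2)
  let e : ↥(lft L') ≃* Matrix.SpecialLinearGroup (Fin 2) F :=
    MulEquiv.ofBijective (e'.toMonoidHom.comp (lftHom hLp)) ⟨hginj, e'.surjective.comp (lftHom_surj hLp)⟩
  obtain ⟨s, hs⟩ := e.surjective (-1)
  have hs1 : s * s = 1 := e.injective (by rw [map_mul, hs, map_one]; simp)
  have hsne : s ≠ 1 := by
    rintro rfl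
    rw [map_one] at hs
    have h6 := TwoFusion.QuatCoverSL.orderOf_neg_one (F := F) hF
    rw [← hs, orderOf_one] at h6
    exact absurd h6 (by decide)
  have hso : orderOf (s : B) = 2 := by
    rw [Subgroup.orderOf_coe]
    exact orderOf_eq_prime (by rw [pow_two]; exact hs1) hsne
  have huniq : ∀ p ∈ lft L', orderOf p = 2 → p = (s : B) := by
    intro p hp hpo
    have h6 := eq_neg_one hF e (x := ⟨p, hp⟩) (by rw [Subgroup.orderOf_mk]; exact hpo)
    have h7 : (⟨p, hp⟩ : ↥(lft L')) = s := e.injective (by rw [h6, hs])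
    exact congrArg Subtype.val h7
  have hsz : π s = z' := by
    have h6 : orderOf (lftHom hLp s) = 2 := by
      refine orderOf_eq_prime (by rw [pow_two, ← map_mul, hs1, map_one]) ?_
      intro h7
      apply hsne
      apply hginj
      change e' (lftHom hLp s) = e' (lftHom hLp 1)
      rw [h7, map_one, map_one, map_one]
    have h7 := eq_neg_one hF e' h6
    have h8 := eq_neg_one hF e' (x := ⟨z', hzL⟩) (by rw [Subgroup.orderOf_mk]; exact hzo)
    exact congrArg Subtype.val (e'.injective (h7.trans h8.symm))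
  refine ⟨⟨F, inferInstance, inferInstance, hF, h3, ⟨e⟩⟩, s, s.2, hso, hsz, ?_⟩
  intro α hα
  apply huniq
  · have h9 : α (s : B) ∈ (lft L').map α.toMonoidHom := ⟨_, s.2, rfl⟩
    rwa [lft_aut α hα] at h9
  · rw [MulEquiv.orderOf_eq, hso]

/-- A long `SL₂(q)` (or `J' ≥ L' ≅ SL₂(q)`) of `B / Z(B)` lifts to `B`. -/
theorem exists_P (hZ : IsPGroup 2 ↥(center B)) {J' L' : Subgroup (B ⧸ center B)} {z' : B ⧸ center B}
    (hzo : orderOf z' = 2) (hJz : J' ≤ centralizer ({z'} : Set (B ⧸ center B)))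
    (hsn : (J'.subgroupOf (centralizer ({z'} : Set (B ⧸ center B)))).IsSubnormal)
    (hq : IsQuasisimple ↥J') (hLJ : L' ≤ J') (hzL : z' ∈ L') (hL : IsSL ↥L') :
    ∃ (P Q : Subgroup B) (j : B), Q ≤ P ∧ IsSL ↥Q ∧ j ∈ Q ∧ orderOf j = 2 ∧
      P ≤ centralizer ({j} : Set B) ∧ (P.subgroupOf (centralizer ({j} : Set B))).IsSubnormal ∧
      IsQuasisimple ↥P ∧ P.map (QuotientGroup.mk' (center B)) = J' ∧
      (∀ α : MulAut B, J'.map (autQuot B α).toMonoidHom = J' → P.map α.toMonoidHom = P) ∧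
      (∀ α : MulAut B, L'.map (autQuot B α).toMonoidHom = L' → α j = j) ∧ (J' = L' → P = Q) := by
  set π := QuotientGroup.mk' (center B) with hπ
  have hJ : ⁅J', J'⁆ = J' := Subgroup.isPerfect_iff.mp hq.1
  obtain ⟨hQ, s, hsQ, hso, hsz, hsα⟩ := exists_Q hZ hzo hzL hL
  -- `J1 ≤ C(s)`
  have hJ1c : J'.comap π ≤ centralizer ({s} : Set B) := by
    intro y hy
    rw [mem_centralizer_singleton_iff]
    refine lft_comm hJ ?_ y hy
    intro g hg
    rw [hsz]
    exact mem_centralizer_singleton_iff.mp (hJz hg)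
  have hPc : lft J' ≤ centralizer ({s} : Set B) := (lft_le J').trans hJ1c
  refine ⟨lft J', lft L', s, lft_mono hLJ, hQ, hsQ, hso, hPc, ?_,
    ?_, lft_map hJ, fun α hα => lft_aut α hα, hsα, fun h => by rw [h]⟩
  · -- subnormality
    set C := centralizer ({s} : Set B) with hC
    let g : ↥C →* ↥(centralizer ({z'} : Set (B ⧸ center B))) :=
      MonoidHom.codRestrict (π.comp C.subtype) _ (by
        intro c
        rw [mem_centralizer_singleton_iff, ← hsz]
        change π c * π s = π s * π c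
        rw [← map_mul, ← map_mul, mem_centralizer_singleton_iff.mp c.2])
    have h6 : ((J'.comap π).subgroupOf C) =
        (J'.subgroupOf (centralizer ({z'} : Set (B ⧸ center B)))).comap g := by
      ext c
      rw [mem_subgroupOf, mem_comap, mem_comap, mem_subgroupOf]
      rfl
    have h7 : ((J'.comap π).subgroupOf C).IsSubnormal := by
      rw [h6]
      exact hsn.comap g
    refine Subgroup.IsSubnormal.trans (H := (lft J').subgroupOf C) (K := (J'.comap π).subgroupOf C) ?_ ?_ h7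
    · exact fun x hx => lft_le J' hx
    · have h8 : ((lft J').subgroupOf C).subgroupOf ((J'.comap π).subgroupOf C) =
          commutator ↥((J'.comap π).subgroupOf C) := by
        have h9 : (lft J').subgroupOf C = ⁅(J'.comap π).subgroupOf C, (J'.comap π).subgroupOf C⁆ := by
          apply Subgroup.map_injective C.subtype_injective
          rw [map_commutator, map_subgroupOf_eq_of_le hJ1c, map_subgroupOf_eq_of_le hPc]
          rfl
        rw [h9]
        apply Subgroup.map_injective ((J'.comap π).subgroupOf C).subtype_injective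
        rw [map_subgroupOf_eq_of_le (commutator_le_self _), _root_.commutator_def, map_commutator]
        rw [← MonoidHom.range_eq_map, range_subtype]
      rw [h8]
      exact (inferInstance : (commutator ↥((J'.comap π).subgroupOf C)).Normal).isSubnormal
  · refine LiftQ.quasisimple_of_central (lftHom hJ) (lftHom_surj hJ) (ker_le hJ) ?_ hq
    exact (Subgroup.isPerfect_iff.mpr (lft_perfect hJ)).commutator_eq_top

/-- A quaternion pair of `SL₂(q)`. -/
theorem exists_pair {Q : Type*} [Group Q] (h : IsSL Q) {j : Q} (hj : orderOf j = 2) :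
    ∃ u x : Q, u * u = j ∧ x * x = j ∧ ⁅u, x⁆ = j := by
  obtain ⟨F, _, _, hF, h3, ⟨e⟩⟩ := h
  obtain ⟨-, u, x, hu, hx, hux⟩ := OddHalf.NI.even8_neg_one (F := F) hF
  have hj' := eq_neg_one hF e hj
  refine ⟨e.symm u, e.symm x, ?_, ?_, ?_⟩
  · rw [← map_mul, hu, ← hj', e.symm_apply_apply]
  · rw [← map_mul, hx, ← hj', e.symm_apply_apply]
  · rw [← map_commutatorElement, hux, ← hj', e.symm_apply_apply]

end lift

end Cfsg.Agent.UGT.U2.LiftP
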