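import Cfsg.Agent.UGT.U2.Lift
import Cfsg.Agent.SignalizersComponents.BalanceDelta
import Cfsg.Agent.OddHalf.NI.FrameDef

/-!
# Central extensions and quaternion pairs

* `quasisimple_of_central`: a perfect central extension of a quasisimple group is quasisimple.
* `isPGroup_q8`: a quaternion pair generates a 2-group.
* `exists_q8`: a quaternion pair of `J / O(J)` over a central involution `z ∈ J` lifts to `J`.
-/

set_option autoImplicit false
set_option linter.unusedSectionVars false

open Cfsg Subgroup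
open Cfsg.Agent.SignalizersComponents
open Cfsg.Agent.SignalizersComponents.BalanceDelta (autQuot autQuot_apply eq_one_of_autQuot_eq_one)
open Cfsg.Agent.Intrinsic.Basic
open Cfsg.Agent.UGT.Iface
open scoped commutatorElement

namespace Cfsg.Agent.UGT.U2.LiftQ

/-- In a perfect central extension, the elements over the centre are central. -/
theorem mem_center_of_map {P S : Type*} [Group P] [Group S] (hperf : Group.IsPerfect P) (f : P →* S)
    (hk : f.ker ≤ center P) {y : P} (h1 : ∀ p, f y * f p = f p * f y) : y ∈ center P := by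
  have h2 : autQuot P (MulAut.conj y) = 1 := by
    apply MulEquiv.ext
    intro b
    obtain ⟨p, rfl⟩ := QuotientGroup.mk'_surjective (center P) b
    rw [autQuot_apply]
    change (QuotientGroup.mk (y * p * y⁻¹) : P ⧸ center P) = QuotientGroup.mk p
    rw [QuotientGroup.eq]
    apply hk
    rw [MonoidHom.mem_ker]
    simp only [map_mul, map_inv]
    rw [h1 p]
    group
  rw [mem_center_iff]
  intro p
  have h3 := eq_one_of_autQuot_eq_one hperf (MulAut.conj y) h2 p
  rw [MulAut.conj_apply, mul_inv_eq_iff_eq_mul] at h3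
  exact h3.symm

/-- A perfect central extension of a quasisimple group is quasisimple. -/
theorem quasisimple_of_central {P S : Type*} [Group P] [Group S] (f : P →* S) (hs : Function.Surjective f)
    (hk : f.ker ≤ center P) (hP : commutator P = ⊤) (hS : IsQuasisimple S) : IsQuasisimple P := by
  have hperf : Group.IsPerfect P := ⟨hP⟩
  refine ⟨hperf, ?_⟩
  obtain ⟨φ, hφ⟩ : ∃ φ, φ = (QuotientGroup.mk' (center S)).comp f := ⟨_, rfl⟩
  have hφs : Function.Surjective φ := by
    rw [hφ]; exact (QuotientGroup.mk'_surjective _).comp hs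
  have hker : φ.ker = center P := by
    apply le_antisymm
    · intro y hy
      have h1 : f y ∈ center S := by
        rw [MonoidHom.mem_ker, hφ] at hy
        exact (QuotientGroup.eq_one_iff _).mp hy
      exact mem_center_of_map hperf f hk (fun p => (mem_center_iff.mp h1 (f p)).symm)
    · intro y hy
      rw [MonoidHom.mem_ker, hφ]
      refine (QuotientGroup.eq_one_iff _).mpr ?_
      rw [mem_center_iff]
      intro s
      obtain ⟨p, rfl⟩ := hs s
      rw [← map_mul, ← map_mul, mem_center_iff.mp hy p]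
  let e : (P ⧸ center P) ≃* (S ⧸ center S) :=
    (QuotientGroup.quotientMulEquivOfEq hker.symm).trans
      (QuotientGroup.quotientKerEquivOfSurjective φ hφs)
  exact e.isSimpleGroup_congr.mpr hS.2

/-- The closure of a quaternion pair is a 2-group. -/
theorem isPGroup_q8 {B : Type*} [Group B] {z u x : B} (hz : z ∈ center B) (hzz : z * z = 1)
    (hu : u * u = z) (hx : x * x = z) (hux : ⁅u, x⁆ = z) : IsPGroup 2 ↥(closure {u, x}) := by
  have hn : (zpowers z).Normal := by
    refine ⟨fun y hy g => ?_⟩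
    have h2 : y ∈ center B := (zpowers_le.mpr hz) hy
    rwa [mem_center_iff.mp h2 g, mul_inv_cancel_right]
  set π := QuotientGroup.mk' (zpowers z) with hπ
  have hπz : π z = 1 := (QuotientGroup.eq_one_iff z).mpr (mem_zpowers z)
  have h2 : π u * π u = 1 := by rw [← map_mul, hu, hπz]
  have h3 : π x * π x = 1 := by rw [← map_mul, hx, hπz]
  have h4 : π u * π x = π x * π u := by
    have h5 : π ⁅u, x⁆ = 1 := by rw [hux, hπz]
    rw [map_commutatorElement, commutatorElement_eq_one_iff_mul_comm] at h5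
    exact h5
  have h1 : ∀ v ∈ closure ({π u, π x} : Set (B ⧸ zpowers z)), v * v = 1 := by
    refine Lift.sq_closure ?_ ?_
    · rintro _ (rfl | rfl) _ (rfl | rfl)
      · rfl
      · exact h4
      · exact h4.symm
      · rfl
    · rintro _ (rfl | rfl)
      · exact h2
      · exact h3
  have h5 : closure ({u, x} : Set B) ≤ (closure ({π u, π x} : Set (B ⧸ zpowers z))).comap π := by
    rw [closure_le]
    rintro _ (rfl | rfl)
    · exact subset_closure (Or.inl rfl)
    · exact subset_closure (Or.inr rfl)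
  rintro ⟨v, hv⟩
  have h6 := h1 (π v) (h5 hv)
  rw [← map_mul] at h6
  obtain ⟨k, hk⟩ := (QuotientGroup.eq_one_iff (N := zpowers z) (v * v)).mp h6
  refine ⟨2, Subtype.ext ?_⟩
  change v ^ 2 ^ 2 = 1
  have h7 : v ^ 2 ^ 2 = (v * v) * (v * v) := by
    rw [show (2 : ℕ) ^ 2 = 2 + 2 by norm_num, pow_add, pow_two]
  have h8 : (v * v) * (v * v) = (z * z) ^ k := by
    have h9 : Commute z z := Commute.refl z
    rw [h9.mul_zpow]
    change z ^ k = v * v at hk
    rw [hk]
  rw [h7, h8, hzz, one_zpow]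

/-- A quaternion pair of `J / O(J)` over the central involution `z` lifts. -/
theorem exists_q8 {G : Type*} [Group G] [Finite G] {J : Subgroup G} {z : G} (hzz : z * z = 1) (hzJ : z ∈ J)
    (hzc : ∀ g ∈ J, z * g = g * z) {u x : Bar J} (hu : u * u = QuotientGroup.mk ⟨z, hzJ⟩)
    (hx : x * x = QuotientGroup.mk ⟨z, hzJ⟩) (hux : ⁅u, x⁆ = QuotientGroup.mk ⟨z, hzJ⟩) :
    ∃ u' ∈ J, ∃ x' ∈ J, u' * u' = z ∧ x' * x' = z ∧ ⁅u', x'⁆ = z := by
  obtain ⟨Z, hZ⟩ : ∃ Z : Bar J, Z = QuotientGroup.mk ⟨z, hzJ⟩ := ⟨_, rfl⟩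
  rw [← hZ] at hu hx hux
  have hZZ : Z * Z = 1 := by
    rw [hZ, ← QuotientGroup.mk_mul]
    rw [show (⟨z, hzJ⟩ * ⟨z, hzJ⟩ : ↥J) = 1 from Subtype.ext hzz]
    rfl
  have hZc : Z ∈ center (Bar J) := by
    rw [mem_center_iff]
    intro b
    obtain ⟨⟨j, hj⟩, rfl⟩ := QuotientGroup.mk_surjective b
    rw [hZ, ← QuotientGroup.mk_mul, ← QuotientGroup.mk_mul]
    congr 1
    exact Subtype.ext (hzc j hj).symm
  obtain ⟨P, hP, hPV⟩ := Lift.exists_lift_two (closure {u, x}) (isPGroup_q8 hZc hZZ hu hx hux)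
  have hP1 : ∀ p ∈ P, (QuotientGroup.mk p : Bar J) = 1 → p = 1 := by
    intro p hp h
    obtain ⟨n, hn⟩ := hP ⟨p, hp⟩
    have hn' : p ^ 2 ^ n = 1 := congrArg Subtype.val hn
    have h3 : (p : G) ∈ core J := (Intrinsic.Quot.mk_eq_one_iff p.2).mp h
    exact Subtype.ext (eq_one_of_mem_core h3 (n := n) (by
      have := congrArg Subtype.val hn'
      simpa using this))
  have hinj : ∀ p ∈ P, ∀ q ∈ P, (QuotientGroup.mk p : Bar J) = QuotientGroup.mk q → p = q := by
    intro p hp q hq h
    have h3 := hP1 (p * q⁻¹) (mul_mem hp (inv_mem hq)) (by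
      rw [QuotientGroup.mk_mul, QuotientGroup.mk_inv, h, mul_inv_cancel])
    rwa [mul_inv_eq_one] at h3
  have hum : u ∈ closure ({u, x} : Set (Bar J)) := subset_closure (Or.inl rfl)
  have hxm : x ∈ closure ({u, x} : Set (Bar J)) := subset_closure (Or.inr rfl)
  obtain ⟨p, hp, hpu⟩ := hPV u hum
  obtain ⟨q, hq, hqx⟩ := hPV x hxm
  have h1 : p * p = q * q := by
    refine hinj _ (mul_mem hp hp) _ (mul_mem hq hq) ?_
    rw [QuotientGroup.mk_mul, QuotientGroup.mk_mul, hpu, hqx, hu, hx]
  have h2 : ⁅p, q⁆ = p * p := by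
    refine hinj _ ?_ _ (mul_mem hp hp) ?_
    · rw [commutatorElement_def]
      exact mul_mem (mul_mem (mul_mem hp hq) (inv_mem hp)) (inv_mem hq)
    · have h3 : (QuotientGroup.mk ⁅p, q⁆ : Bar J) = ⁅(QuotientGroup.mk p : Bar J), QuotientGroup.mk q⁆ := rfl
      rw [h3, QuotientGroup.mk_mul, hpu, hqx, hux, hu]
  have h3 : (p * p) * (p * p) = 1 := by
    refine hP1 _ (mul_mem (mul_mem hp hp) (mul_mem hp hp)) ?_
    rw [QuotientGroup.mk_mul, QuotientGroup.mk_mul, hpu, hu, hZZ]
  have h4 : (p : G) * p = z := by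
    obtain ⟨w, hw⟩ : ∃ w : G, w = (p : G) * p := ⟨_, rfl⟩
    have hww : w * w = 1 := by
      rw [hw]
      exact congrArg Subtype.val h3
    have hwJ : w ∈ J := by rw [hw]; exact mul_mem p.2 p.2
    have h5 : (QuotientGroup.mk (⟨w * z, mul_mem hwJ hzJ⟩ : ↥J) : Bar J) = 1 := by
      have h6 : (⟨w * z, mul_mem hwJ hzJ⟩ : ↥J) = (p * p) * ⟨z, hzJ⟩ := Subtype.ext (by
        change w * z = (p : G) * p * z
        rw [hw])
      rw [h6, QuotientGroup.mk_mul, QuotientGroup.mk_mul, hpu, hu, ← hZ, hZZ]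
    have h6 : w * z ∈ core J := (Intrinsic.Quot.mk_eq_one_iff _).mp h5
    have h7 : w * z = 1 := by
      refine eq_one_of_mem_core_sq h6 ?_
      calc w * z * (w * z) = w * (z * w) * z := by group
        _ = w * (w * z) * z := by rw [hzc w hwJ]
        _ = (w * w) * (z * z) := by group
        _ = 1 := by rw [hww, hzz, one_mul]
    rw [← hw]
    calc w = w * z * z := by rw [mul_assoc, hzz, mul_one]
      _ = z := by rw [h7, one_mul]
  refine ⟨p, p.2, q, q.2, h4, ?_, ?_⟩
  · have h5 := congrArg Subtype.val h1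
    change (p : G) * p = (q : G) * q at h5
    rw [← h5, h4]
  · have h5 := congrArg Subtype.val h2
    change ⁅(p : G), (q : G)⁆ = (p : G) * p at h5
    rw [h5, h4]

end Cfsg.Agent.UGT.U2.LiftQ
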