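import Cfsg.Agent.McLLyComp.MapComp
import Cfsg.Agent.McLLyComp.PumpT

/-!
# Pump-ups of 2-components, and 2-components of `D ⊓ C(s)` seen in `D / O(D)`

* `pump` : `s ∈ K'`, `K'` and `Z` 2-components of `X ⊓ C(s)`: `Z` lies in an `s`-invariant 2-component `D` of `X`;
  either `s` fixes `D` and `D = Z O(D)`, or `K' ≤ D`.
* `isComp_qs`, `exists_lift`, `le_of_qs_le` : 2-components of `D ⊓ C(s)` and of `C(s̄)` in `D / O(D)`.
* `isComp_of_inf` : 2-components of `D ⊓ C(s)` are 2-components of `X ⊓ C(s)`.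
-/

set_option autoImplicit false

open Cfsg Subgroup
open Cfsg.Agent.SignalizersComponents Cfsg.Agent.Lib
open Cfsg.Agent.SignalizersComponents.IntrinsicBasic
open Cfsg.Agent.SignalizersComponents.IntrinsicIntr
open Cfsg.Agent.Intrinsic.Basic Cfsg.Agent.Intrinsic.Cen Cfsg.Agent.Intrinsic.Quot
open Cfsg.Agent.McLLyComp
open scoped commutatorElement

namespace Cfsg.Agent.UGT.U2

variable {G : Type*} [Group G] [Finite G]

/-- **(P)** -/
theorem pump {X K' Z : Subgroup G} {s : G} (hsX : s ∈ X) (hs : s * s = 1) (hsK : s ∈ K')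
    (hK' : IsComp (X ⊓ centralizer ({s} : Set G)) K')
    (hZ : IsComp (X ⊓ centralizer ({s} : Set G)) Z) :
    ∃ D, IsComp X D ∧ Z ≤ D ∧ ((Fixes s D ∧ Z ⊔ core D = D) ∨ (¬ Fixes s D ∧ K' ≤ D)) := by
  obtain ⟨D, hD, -, h⟩ := PumpT.exists_pump hsX hs hZ
  have hsD : s ∈ normalizer (D : Set G) :=
    hD.L2_le_normalizer (isComp_le_L2 hsX hs hK' hsK)
  have hZD : Z ≤ D := by
    rcases h with ⟨-, h⟩ | ⟨h, -⟩
    · exact h
    · exact absurd (mem_normalizer_iff_cj.mp hsD) h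
  refine ⟨D, hD, hZD, ?_⟩
  by_cases hf : Fixes s D
  · left
    refine ⟨hf, ?_⟩
    obtain ⟨h1, h2⟩ := isComp_cen hD hsX hs hf
    have h3 : Z ≤ cen D s := by
      rw [← hZ.pElem_eq]
      exact PComponents.pElem_mono (le_inf hZD (hZ.le.trans inf_le_right))
    rw [hZ.eq_of_le h1 h3]
    exact h2
  · right
    refine ⟨hf, ?_⟩
    obtain ⟨D', hD', hKD'⟩ := exists_pumpup hs hsK hK'
    by_cases hne : D = D'
    · rw [hne]; exact hKD'
    · exact absurd (hD.fixes_of_mem hD' hne (hKD' hsK)) hf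

/-- A 2-component of `D ⊓ C(s)`, `D` a 2-component of `X`, is a 2-component of `X ⊓ C(s)`. -/
theorem isComp_of_inf {X D Z : Subgroup G} {s : G} (hD : IsComp X D)
    (hZ : IsComp (D ⊓ centralizer ({s} : Set G)) Z) : IsComp (X ⊓ centralizer ({s} : Set G)) Z := by
  refine hZ.extend (inf_le_inf_right _ hD.le) ?_
  have h1 : (D.subgroupOf X).IsSubnormal := (isComp_iff.mp hD).2.1
  have h2 := h1.comap (Subgroup.inclusion (inf_le_left : X ⊓ centralizer ({s} : Set G) ≤ X))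
  convert h2 using 1
  ext ⟨y, hy⟩
  constructor
  · intro h
    exact h.1
  · intro h
    exact ⟨h, hy.2⟩

/-- the image in `D / O(D)` -/
theorem isComp_qs {D Z : Subgroup G} {s : G} (hsD : s ∈ D) (hs : s * s = 1)
    (hZ : IsComp (D ⊓ centralizer ({s} : Set G)) Z) :
    IsComp (centralizer ({(QuotientGroup.mk ⟨s, hsD⟩ : ↥D ⧸ oddCore ↥D)} : Set _)) (qs D Z) :=
  IsComp.of_tc (Cfsg.Agent.Intrinsic.PumpUp.tc_image hsD hs hZ.tc)

omit [Finite G] in
/-- the kernel of `C_D(s) → C(s̄)` -/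
theorem mem_ker_centMap {D : Subgroup G} {s : G} (hsD : s ∈ D)
    (m : ↥(D ⊓ centralizer ({s} : Set G))) : m ∈ (centMap D s hsD).ker ↔ (m : G) ∈ core D := by
  rw [MonoidHom.mem_ker, Subtype.ext_iff, centMap_coe, mem_core_iff m.2.1]
  exact QuotientGroup.eq_one_iff _

theorem odd_ker_centMap {D : Subgroup G} {s : G} (hsD : s ∈ D) :
    Odd (Nat.card (centMap D s hsD).ker) := by
  have h1 : (centMap D s hsD).ker.map (D ⊓ centralizer ({s} : Set G)).subtype ≤ core D := by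
    rintro _ ⟨m, hm, rfl⟩
    exact (mem_ker_centMap hsD m).mp hm
  have h2 := Subgroup.card_dvd_of_le h1
  rw [card_map_of_injective (D ⊓ centralizer ({s} : Set G)).subtype_injective] at h2
  exact Odd.of_dvd_nat (odd_card_core D) h2

/-- 2-components of `C(s̄)` that are quasisimple lift. -/
theorem exists_lift_comp {D : Subgroup G} {s : G} (hsD : s ∈ D) (hs : s * s = 1)
    {E : Subgroup (↥D ⧸ oddCore ↥D)}
    (hE : IsComp (centralizer ({(QuotientGroup.mk ⟨s, hsD⟩ : ↥D ⧸ oddCore ↥D)} : Set _)) E)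
    (hq : IsQuasisimple ↥E) :
    ∃ Z, IsComp (D ⊓ centralizer ({s} : Set G)) Z ∧ qs D Z = E := by
  have hC : IsComponent (E.subgroupOf
      (centralizer ({(QuotientGroup.mk ⟨s, hsD⟩ : ↥D ⧸ oddCore ↥D)} : Set _))) := by
    refine ⟨(isComp_iff.mp hE).2.1, ?_⟩
    exact Components.isQuasisimple_of_mulEquiv (subgroupOfEquivOfLe hE.le).symm hq
  have h2 : 2 ∣ Nat.card (E.subgroupOf
      (centralizer ({(QuotientGroup.mk ⟨s, hsD⟩ : ↥D ⧸ oddCore ↥D)} : Set _))) := by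
    rw [Nat.card_congr (subgroupOfEquivOfLe hE.le).toEquiv]
    exact hE.even
  obtain ⟨h3, h4⟩ := IntrinsicLift.lift_component (centMap D s hsD)
    (centMap_surjective D s hsD hs) (odd_ker_centMap hsD) hC h2
  refine ⟨_, isComp_of_subtype h3, ?_⟩
  ext x
  constructor
  · rintro ⟨m, hm, rfl⟩
    obtain ⟨m', hm', hmm⟩ := hm
    have h5 : (centMap D s hsD) m' ∈ (E.subgroupOf
        (centralizer ({(QuotientGroup.mk ⟨s, hsD⟩ : ↥D ⧸ oddCore ↥D)} : Set _))) := by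
      rw [← h4]
      exact ⟨m', hm', rfl⟩
    have h6 : m = ⟨(m' : G), m'.2.1⟩ := Subtype.ext hmm.symm
    rw [h6]
    exact h5
  · intro hx
    have h5 : (⟨x, hE.le hx⟩ : ↥(centralizer
        ({(QuotientGroup.mk ⟨s, hsD⟩ : ↥D ⧸ oddCore ↥D)} : Set _))) ∈ (E.subgroupOf
      (centralizer ({(QuotientGroup.mk ⟨s, hsD⟩ : ↥D ⧸ oddCore ↥D)} : Set _))) := hx
    rw [← h4] at h5
    obtain ⟨m, hm, hmx⟩ := h5
    exact ⟨⟨(m : G), m.2.1⟩, ⟨m, hm, rfl⟩, congrArg Subtype.val hmx⟩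

omit [Finite G] in
theorem mk_mem_qs {D Z : Subgroup G} {z : G} (hzD : z ∈ D) (hz : z ∈ Z) :
    (QuotientGroup.mk ⟨z, hzD⟩ : ↥D ⧸ oddCore ↥D) ∈ qs D Z :=
  (mem_qs hzD).mpr ⟨z, ⟨hz, hzD⟩, by simp⟩

/-- a 2-element `z` of `C_D(s)` with image in the image of `Z` lies in `Z` -/
theorem mem_of_mk_mem {D Z : Subgroup G} {s z : G} (hsD : s ∈ D) (hs : s * s = 1)
    (hZ : IsComp (D ⊓ centralizer ({s} : Set G)) Z) (hzD : z ∈ D)
    (hzs : z ∈ centralizer ({s} : Set G)) {n : ℕ} (hn : z ^ 2 ^ n = 1)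
    (h : (QuotientGroup.mk ⟨z, hzD⟩ : ↥D ⧸ oddCore ↥D) ∈ qs D Z) : z ∈ Z := by
  obtain ⟨j, ⟨hj, hjD⟩, hc⟩ := (mem_qs hzD).mp h
  refine hZ.mem_of_two hj ?_ hn
  have h1 : core D ⊓ centralizer ({s} : Set G) ≤ core (D ⊓ centralizer ({s} : Set G)) := by
    refine le_core (inf_le_inf_right _ (core_le D)) ?_ ?_
    · intro g hg
      have h2 : g ∈ normalizer (core D : Set G) := le_normalizer_core _ hg.1
      have h3 : g ∈ normalizer (centralizer ({s} : Set G) : Set G) := le_normalizer hg.2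
      rw [mem_normalizer_iff]
      intro y
      rw [mem_inf, mem_inf]
      exact and_congr (mem_normalizer_iff.mp h2 y) (mem_normalizer_iff.mp h3 y)
    · exact Odd.of_dvd_nat (odd_card_core D) (card_dvd_of_le inf_le_left)
  exact h1 ⟨hc, (centralizer ({s} : Set G)).mul_mem
    ((centralizer ({s} : Set G)).inv_mem (hZ.le hj).2) hzs⟩

/-- 2-components of `D ⊓ C(s)` with the same image are equal. -/
theorem eq_of_qs_eq {D Z Z' : Subgroup G} {s : G} (hsD : s ∈ D) (hs : s * s = 1)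
    (hZ : IsComp (D ⊓ centralizer ({s} : Set G)) Z)
    (hZ' : IsComp (D ⊓ centralizer ({s} : Set G)) Z') (h : qs D Z = qs D Z') : Z = Z' := by
  refine hZ.eq_of_le hZ' (hZ.le_of_two fun k hk n hn => ?_)
  have hkD := (hZ.le hk).1
  refine mem_of_mk_mem hsD hs hZ' hkD (hZ.le hk).2 hn ?_
  rw [← h]
  exact mk_mem_qs hkD hk

end Cfsg.Agent.UGT.U2
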