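import Cfsg.Agent.FixBN.RankOneRee

/-!
# Automorphisms of odd order of the small Ree groups

`aut_trivial`: an automorphism of odd order of ²G₂(q) which is trivial on the centralizer of an involution is trivial.
-/

set_option autoImplicit false

namespace Cfsg.Agent.UGT.U2.ReeAut

open Subgroup
open Cfsg.Agent.LieRecognition.ReeAbs Cfsg.Agent.LieRecognition.ReeSylowThree Cfsg.Agent.FixBN.ReeSplit
open Cfsg.Agent.FixBN.RankOneRee

universe u

section Grp

variable {K : Type*} [Field K] {G : Type*} [Group G] {m : ℕ} {U : K → K → K → G} {h : Kˣ → G} {n : G}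

/-- centralizers of elements of `U` -/
theorem mem_bSub_of_comm (D : Data m U h n) {x g : G} (hx : x ∈ uSub D) (hx1 : x ≠ 1) (hg : g * x = x * g) :
    g ∈ bSub D := by
  rcases bruhat' D g with h1 | ⟨b, hb, b', hb', rfl⟩
  · exact h1
  exfalso
  apply hx1
  have hBU : ∀ b ∈ bSub D, ∀ u ∈ uSub D, b⁻¹ * u * b ∈ uSub D := by
    rintro _ ⟨v, hv, a, rfl⟩ u hu
    have e : (v * h a)⁻¹ * u * (v * h a) = h a⁻¹ * (v⁻¹ * u * v) * (h a⁻¹)⁻¹ := by
      rw [D.h_inv]
      group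
    rw [e]
    exact h_conj_mem D _ (mul_mem (mul_mem (inv_mem hv) hu) hv)
  have h2 : b⁻¹ * x * b ∈ uSub D := hBU b hb x hx
  have h3 : n * (b⁻¹ * x * b) * n ∈ bSub D := by
    have e : n * (b⁻¹ * x * b) * n = b' * x * b'⁻¹ := by
      have hni : n⁻¹ = n := D.n_inv
      have h4 : b' * x * b'⁻¹ = (n⁻¹ * b⁻¹) * (b * n * b' * x) * b'⁻¹ := by group
      rw [h4, hg, hni]
      group
    rw [e]
    exact mul_mem (mul_mem hb' (uSub_le_bSub D hx)) (inv_mem hb')
  have h4 := eq_one_of_conj D h2 h3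
  calc x = b * (b⁻¹ * x * b) * b⁻¹ := by group
    _ = 1 := by rw [h4]; group

end Grp

section Aut

variable {K : Type*} [Field K] [Fintype K] {G : Type*} [Group G] {m : ℕ} {U : K → K → K → G} {h : Kˣ → G} {n : G}

theorem pow_pow (hK : Fintype.card K = 3 ^ (2 * m + 1)) (s : K) : (s ^ 3 ^ (m + 1)) ^ 3 ^ (m + 1) = s ^ 3 := by
  rw [← pow_mul, ← pow_add, show m + 1 + (m + 1) = 2 * m + 1 + 1 by ring, pow_succ, pow_mul, ← hK,
    FiniteField.pow_card]

theorem neg_one_pow_P (m : ℕ) : (-1 : K) ^ 3 ^ (m + 1) = -1 := (odd_three_pow _).neg_one_pow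

/-- **An automorphism of odd order which is trivial on `C(h (-1))` is trivial.** -/
theorem aut_trivial (hm : 1 ≤ m) (hK : Fintype.card K = 3 ^ (2 * m + 1)) (D : Data m U h n) (α : MulAut G)
    (ho : Odd (orderOf α)) (hfix : ∀ x, x * h (-1) = h (-1) * x → α x = x) : α = 1 := by
  classical
  have hchar := charP_three hK
  have hp3 : Fact (Nat.Prime 3) := ⟨Nat.prime_three⟩
  have h30 : (3 : K) = 0 := by exact_mod_cast CharP.cast_eq_zero K 3
  have S := split hK D
  have hev : ∀ k : ℕ, Even k → (((-1 : Kˣ) : Kˣ) : K) ^ k = 1 := fun k hk => by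
    rw [Units.val_neg, Units.val_one, hk.neg_one_pow]
  have hod : ∀ k : ℕ, Odd k → (((-1 : Kˣ) : Kˣ) : K) ^ k = -1 := fun k hk => by
    rw [Units.val_neg, Units.val_one, hk.neg_one_pow]
  have hP : Odd (3 ^ (m + 1)) := odd_three_pow _
  have e1 : Even (3 ^ (m + 1) + 3) := hP.add_odd (by decide)
  have e2 : Odd (2 * 3 ^ (m + 1) + 3) := (even_two_mul _).add_odd (by decide)
  have htor : ∀ a, α (h a) = h a := fun a => hfix _ (by rw [← D.h_mul, ← D.h_mul, mul_comm])
  have hn : α n = n := hfix _ (by rw [D.n_h, inv_neg, inv_one])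
  have hneg : ∀ t u v, h (-1) * U t u v = U (-t) u (-v) * h (-1) := by
    intro t u v
    rw [D.h_U, hev _ e1, hod _ e2, hod _ hP]
    congr 2 <;> ring
  have hmid : ∀ u, α (U 0 u 0) = U 0 u 0 := fun u => hfix _ (by rw [hneg, neg_zero])
  -- `α` preserves `U`
  have hx0 : U 0 1 0 ≠ (1 : G) := by
    intro h1
    rw [← D.U_zero] at h1
    exact one_ne_zero (U_injective D h1).2.1
  have hz0 : U 0 0 1 ≠ (1 : G) := by
    intro h1
    rw [← D.U_zero] at h1
    exact one_ne_zero (U_injective D h1).2.2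
  have hmemU : ∀ x ∈ uSub D, α x ∈ bSub D → α x ∈ uSub D := by
    intro x hx hb
    obtain ⟨k, hk⟩ := S.isP ⟨x, hx⟩
    have hk' : x ^ 3 ^ k = 1 := congrArg Subtype.val hk
    exact S.mem_of_pow (n := k) hb (by rw [← map_pow, hk', map_one])
  have hz1 : α (U 0 0 1) ∈ uSub D := by
    apply hmemU _ ⟨_, _, _, rfl⟩
    refine mem_bSub_of_comm D (x := U 0 1 0) ⟨_, _, _, rfl⟩ hx0 ?_
    have h1 : U 0 0 1 * U 0 1 0 = U 0 1 0 * U 0 0 1 := by
      rw [D.U_mul, D.U_mul]; congr 1 <;> simp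
    have h2 := congrArg α h1
    rw [map_mul, map_mul, hmid] at h2
    exact h2
  have hz1' : α (U 0 0 1) ≠ 1 := fun h1 => hz0 (α.injective (by rw [h1, map_one]))
  have hU : ∀ t u v, ∃ t' u' v', α (U t u v) = U t' u' v' := by
    intro t u v
    apply hmemU _ ⟨_, _, _, rfl⟩
    refine mem_bSub_of_comm D hz1 hz1' ?_
    rw [← map_mul, ← map_mul]
    congr 1
    rw [D.U_mul, D.U_mul]; congr 1 <;> simp [add_comm]
  choose F X Y hF using hU
  -- the action on `U / U'`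
  have hF0 : ∀ u v, F 0 u v = 0 := by
    intro u v
    have h1 := congrArg α ((cube_eq_one hK D 0 u v).2 rfl)
    rw [map_mul, map_mul, map_one, hF] at h1
    exact (cube_eq_one hK D _ _ _).1 h1
  have hFt : ∀ t u v, F t u v = F t 0 0 := by
    intro t u v
    have h1 := congrArg α (U_split D t u v)
    rw [map_mul, hF, hF, hF, D.U_mul] at h1
    obtain ⟨h2, -, -⟩ := U_injective D h1
    rw [h2, hF0, add_zero]
  have hmul : ∀ (a : Kˣ) t, F ((a : K) ^ 3 ^ (m + 1) * t) 0 0 = (a : K) ^ 3 ^ (m + 1) * F t 0 0 := by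
    intro a t
    have h1 := congrArg α (D.h_U a t 0 0)
    rw [map_mul, map_mul, hF, hF, htor, D.h_U] at h1
    obtain ⟨h2, -, -⟩ := U_injective D (mul_right_cancel h1)
    exact (hFt _ _ _).symm.trans h2.symm
  have hroot : ∀ s : K, s ≠ 0 → ∃ a : Kˣ, (a : K) ^ 3 ^ (m + 1) = s := by
    intro s hs
    refine ⟨(Units.mk0 s hs) ^ 3 ^ m, ?_⟩
    have h1 := congrArg Units.val (units_pow_card hK (Units.mk0 s hs))
    rw [Units.val_pow_eq_pow_val, Units.val_mk0] at h1
    rw [Units.val_pow_eq_pow_val, Units.val_mk0, ← pow_mul, ← pow_add, show m + (m + 1) = 2 * m + 1 by ring, h1]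
  obtain ⟨c, hc⟩ : ∃ c, c = F 1 0 0 := ⟨_, rfl⟩
  have hlin : ∀ t, F t 0 0 = c * t := by
    intro t
    by_cases ht : t = 0
    · rw [ht, hF0, mul_zero]
    · obtain ⟨a, rfl⟩ := hroot t ht
      have h1 := hmul a 1
      rw [mul_one] at h1
      rw [h1, hc, mul_comm]
  have hα : ∀ t u v, α (U t u v) = U (c * t) (X t u v) (Y t u v) := fun t u v => by rw [hF, hFt, hlin]
  have hc0 : c ≠ 0 := by
    intro h0
    have h1 : α (U 1 0 0 * U 1 0 0 * U 1 0 0) = 1 := by
      rw [map_mul, map_mul, hα, h0, zero_mul]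
      exact (cube_eq_one hK D _ _ _).2 rfl
    have h2 : U 1 0 0 * U 1 0 0 * U 1 0 0 = 1 := by
      apply α.injective
      rw [h1, map_one]
    exact one_ne_zero ((cube_eq_one hK D _ _ _).1 h2)
  -- the centre
  have hz : ∀ v, X 0 0 v = 0 := by
    intro v
    have h1 : U 0 0 v * U 1 0 0 = U 1 0 0 * U 0 0 v := by
      rw [D.U_mul, D.U_mul]; congr 1 <;> simp
    have h2 := congrArg α h1
    rw [map_mul, map_mul, hα 0 0 v, hα 1 0 0, D.U_mul, D.U_mul] at h2
    obtain ⟨-, -, h3⟩ := U_injective D h2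
    rw [mul_zero, mul_one, zero_pow'] at h3
    have h4 : X 0 0 v * c = 0 := by linear_combination -h3
    exact (mul_eq_zero.1 h4).resolve_right hc0
  have hzz : ∀ v, α (U 0 0 v) = U 0 0 (Y 0 0 v) := fun v => by rw [hα, hz, mul_zero]
  -- `c ^ (P + 1) = 1`
  have hcomm : ∀ t a b t' a' b' : K, ∃ z, U t a b * U t' a' b' =
      U t' a' b' * U t a b * U 0 (t' * t ^ 3 ^ (m + 1) - t * t' ^ 3 ^ (m + 1)) z := by
    intro t a b t' a' b'
    rw [D.U_mul, D.U_mul]
    refine ⟨(b + b' - a * t' - t ^ 2 * t' ^ (3 ^ (m + 1)) + t * t' * t' ^ (3 ^ (m + 1))) -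
      (b' + b - a' * t - t' ^ 2 * t ^ (3 ^ (m + 1)) + t' * t * t ^ (3 ^ (m + 1))), ?_⟩
    rw [D.U_mul]
    congr 1
    · ring
    · rw [zero_pow']; ring
    · rw [zero_pow']; ring
  obtain ⟨t₀, ht₀⟩ := exists_pow_ne hm hK
  have hcP : c * c ^ 3 ^ (m + 1) = 1 := by
    obtain ⟨z, hz1⟩ := hcomm t₀ 0 0 1 0 0
    obtain ⟨z', hz2⟩ := hcomm (c * t₀) (X t₀ 0 0) (Y t₀ 0 0) (c * 1) (X 1 0 0) (Y 1 0 0)
    have h2 := congrArg α hz1
    rw [map_mul, map_mul, map_mul, hα t₀, hα 1, hz2] at h2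
    have h3 := mul_left_cancel h2
    have h5 : U 0 (1 * t₀ ^ 3 ^ (m + 1) - t₀ * 1 ^ 3 ^ (m + 1)) z =
        U 0 (1 * t₀ ^ 3 ^ (m + 1) - t₀ * 1 ^ 3 ^ (m + 1)) 0 * U 0 0 z := by rw [U_split' D, zero_add]
    rw [h5, map_mul, hmid, hzz, U_split' D] at h3
    obtain ⟨-, h4, -⟩ := U_injective D h3
    rw [one_pow, mul_one, one_mul, mul_one, mul_pow] at h4
    have h6 : (t₀ ^ 3 ^ (m + 1) - t₀) * (c * c ^ 3 ^ (m + 1) - 1) = 0 := by linear_combination h4
    exact sub_eq_zero.1 ((mul_eq_zero.1 h6).resolve_left ht₀)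
  have hc2 : c * c = 1 := by
    have h1 : c ^ 3 ^ (m + 1) = c⁻¹ := eq_inv_of_mul_eq_one_right hcP
    have h2 := pow_pow hK c
    rw [h1, inv_pow, h1, inv_inv] at h2
    have h3 : c * (c * c - 1) = 0 := by linear_combination -h2
    exact sub_eq_zero.1 ((mul_eq_zero.1 h3).resolve_left hc0)
  have hit : ∀ j : ℕ, ∃ u v, (α ^ j) (U 1 0 0) = U (c ^ j) u v := by
    intro j
    induction j with
    | zero => exact ⟨0, 0, by rw [pow_zero, pow_zero]; rfl⟩
    | succ j ih =>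
      obtain ⟨u, v, he⟩ := ih
      refine ⟨X (c ^ j) u v, Y (c ^ j) u v, ?_⟩
      rw [pow_succ', MulAut.mul_apply, he, hα, pow_succ']
  have hc1 : c = 1 := by
    obtain ⟨u, v, he⟩ := hit (orderOf α)
    rw [pow_orderOf_eq_one, MulAut.one_apply] at he
    obtain ⟨h1, -, -⟩ := U_injective D he
    obtain ⟨k, hk⟩ := ho
    rw [hk, pow_succ, pow_mul, pow_two, hc2, one_pow, one_mul] at h1
    exact h1.symm
  have hα' : ∀ t u v, α (U t u v) = U t (X t u v) (Y t u v) := fun t u v => by rw [hα, hc1, one_mul]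
  -- the centre is fixed
  have hZ : ∀ v, α (U 0 0 v) = U 0 0 v := by
    intro v
    have hc' : ∀ a b c : K, U 1 a b * U 0 v c = U 0 v c * U 1 a b * U 0 0 v := by
      intro a b c
      rw [D.U_mul, D.U_mul, D.U_mul]
      congr 1
      · ring
      · rw [zero_pow']; ring
      · rw [zero_pow']; ring
    have h2 := congrArg α (hc' 0 0 0)
    rw [map_mul, map_mul, map_mul, hα' 1 0 0, hmid, hc'] at h2
    exact (mul_left_cancel h2).symm
  have hder : ∀ u v, α (U 0 u v) = U 0 u v := by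
    intro u v
    have h1 : U 0 u v = U 0 u 0 * U 0 0 v := by rw [U_split' D, zero_add]
    rw [h1, map_mul, hmid, hZ]
  -- the middle coordinate
  have hprod : ∀ s t, α (U (s + t) 0 0) * U 0 (-(s * t ^ 3 ^ (m + 1)))
      (-(s ^ 2 * t ^ 3 ^ (m + 1)) + s * t * t ^ 3 ^ (m + 1)) = α (U s 0 0) * α (U t 0 0) := by
    intro s t
    rw [← hder, ← map_mul, ← map_mul]
    congr 1
    rw [D.U_mul, D.U_mul]
    congr 1 <;> simp
  have hXadd : ∀ s t, X (s + t) 0 0 = X s 0 0 + X t 0 0 := by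
    intro s t
    have h1 := hprod s t
    rw [hα', hα', hα', D.U_mul, D.U_mul] at h1
    obtain ⟨-, h2, -⟩ := U_injective D h1
    rw [zero_pow'] at h2
    linear_combination h2
  have hXneg : ∀ t, X (-t) 0 0 = X t 0 0 := by
    intro t
    have h1 := congrArg α (hneg t 0 0)
    rw [neg_zero, map_mul, map_mul, htor, hα', hα', hneg] at h1
    obtain ⟨-, h2, -⟩ := U_injective D (mul_right_cancel h1)
    exact h2.symm
  have hX : ∀ t, X t 0 0 = 0 := by
    intro t
    have h1 := hXadd t (-t)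
    have h2 := hXadd 0 0
    rw [add_neg_cancel, hXneg] at h1
    rw [add_zero] at h2
    linear_combination (X t 0 0) * h30 + h1 + h2
  have hαt : ∀ t, α (U t 0 0) = U t 0 (Y t 0 0) := fun t => by rw [hα', hX]
  -- the last coordinate
  have hYadd : ∀ s t, Y (s + t) 0 0 = Y s 0 0 + Y t 0 0 := by
    intro s t
    have h1 := hprod s t
    rw [hαt, hαt, hαt, D.U_mul, D.U_mul] at h1
    obtain ⟨-, -, h2⟩ := U_injective D h1
    rw [zero_pow'] at h2
    linear_combination h2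
  have hYmul : ∀ s, Y s 0 0 = s ^ 2 * s ^ 3 ^ (m + 1) * Y 1 0 0 := by
    intro s
    by_cases hs : s = 0
    · have h2 := hYadd 0 0
      rw [add_zero] at h2
      rw [hs]
      linear_combination -h2
    · obtain ⟨a, rfl⟩ := hroot s hs
      have h1 := congrArg α (D.h_U a 1 0 0)
      rw [mul_one, mul_zero, mul_zero, map_mul, map_mul, htor, hαt, hαt, D.h_U] at h1
      obtain ⟨-, -, h2⟩ := U_injective D (mul_right_cancel h1)
      rw [← h2, pow_pow hK]
      ring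
  have hY1 : Y 1 0 0 = 0 := by
    have h1 := hYadd t₀ 1
    rw [hYmul (t₀ + 1), hYmul t₀, add_pow_char_pow, one_pow] at h1
    have h2 : Y 1 0 0 * ((t₀ - 1) * (t₀ ^ 3 ^ (m + 1) - t₀)) = 0 := by
      linear_combination -h1 + (Y 1 0 0) * (t₀ * t₀ ^ 3 ^ (m + 1) + t₀) * h30
    rcases mul_eq_zero.1 h2 with h3 | h3
    · exact h3
    · exfalso
      rcases mul_eq_zero.1 h3 with h4 | h4
      · apply ht₀
        rw [sub_eq_zero.1 h4, one_pow, sub_self]
      · exact ht₀ h4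
  have hall : ∀ t u v, α (U t u v) = U t u v := by
    intro t u v
    rw [U_split D, map_mul, hder, hαt, hYmul, hY1, mul_zero]
  ext g
  rw [MulAut.one_apply]
  rcases D.bruhat g with ⟨t, u, v, a, rfl⟩ | ⟨t, u, v, a, t', u', v', rfl⟩
  · rw [map_mul, hall, htor]
  · rw [map_mul, map_mul, map_mul, hall, hall, htor, hn]

end Aut

end Cfsg.Agent.UGT.U2.ReeAut
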