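import Cfsg.Agent.OddHalf.NI.SolAct

/-!
# Solomon's configuration modulo cores: the algebra

Three independent commuting elements `τ i` of order `m` of a group `Q`; `s` acts as the reflection
`1 - ½ (1,1,1) ⊗ (2,1,1)` on the `τ i`, `s'` acts as the reflection `1 - ½ (1,1,1) ⊗ (1,2,1)` on the `τ i ^ r i`, and
`[s, s']` normalizes the three `⟨τ i⟩`. Then `r₂² + r₀ r₂ + 2 r₀² = 0` modulo `m`.
-/

set_option autoImplicit false

namespace Cfsg.Agent.UGT.U2.Sol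

open Subgroup
open Cfsg.Agent.OddHalf.NI.Sol

variable {Q : Type*} [Group Q] {m : ℕ}

section T

variable [NeZero m]

/-- `τ 0 ^ x 0 * τ 1 ^ x 1 * τ 2 ^ x 2` -/
def T (τ : Fin 3 → Q) (x : Fin 3 → ZMod m) : Q :=
  τ 0 ^ (x 0).val * τ 1 ^ (x 1).val * τ 2 ^ (x 2).val

/-- `k ↦ y ^ k` -/
def pwHom (y : Q) (hy : y ^ m = 1) : Multiplicative (ZMod m) →* Q where
  toFun k := y ^ (k.toAdd).val
  map_one' := by simp
  map_mul' a b := pw_add hy _ _

theorem pwHom_apply (y : Q) (hy : y ^ m = 1) (k : Multiplicative (ZMod m)) :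
    pwHom y hy k = y ^ (k.toAdd).val := rfl

theorem T_eq {τ : Fin 3 → Q} (hτ : ∀ i, τ i ^ m = 1) (x : Fin 3 → ZMod m) :
    T τ x = P (Multiplicative.ofAdd (1 : ZMod m)) (pwHom (τ 0) (hτ 0)) (pwHom (τ 1) (hτ 1))
      (pwHom (τ 2) (hτ 2)) x := by
  have h1 : ∀ k : ZMod m, (Multiplicative.ofAdd (1 : ZMod m)) ^ k.val = Multiplicative.ofAdd k := by
    intro k
    rw [← ofAdd_nsmul, nsmul_eq_mul, mul_one, ZMod.natCast_zmod_val]
  unfold T P
  rw [h1, h1, h1]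
  rfl

variable {τ : Fin 3 → Q}

omit [NeZero m] in
theorem ht1 : (Multiplicative.ofAdd (1 : ZMod m)) ^ m = 1 := by
  rw [← ofAdd_nsmul, nsmul_eq_mul, mul_one, ZMod.natCast_self, ofAdd_zero]

theorem pw_comm {x y : Q} (hx : x ^ m = 1) (hy : y ^ m = 1) (h : x * y = y * x) (A B : Multiplicative (ZMod m)) :
    pwHom x hx A * pwHom y hy B = pwHom y hy B * pwHom x hx A := by
  have h1 : Commute x y := h
  exact (h1.pow_pow _ _).eq

theorem T_add (hτ : ∀ i, τ i ^ m = 1) (hc : ∀ i j, τ i * τ j = τ j * τ i) (x y : Fin 3 → ZMod m) :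
    T τ (x + y) = T τ x * T τ y := by
  rw [T_eq hτ, T_eq hτ, T_eq hτ]
  exact P_add ht1 (pw_comm _ _ (hc 0 1)) (pw_comm _ _ (hc 0 2)) (pw_comm _ _ (hc 1 2)) x y

theorem T_neg (hτ : ∀ i, τ i ^ m = 1) (hc : ∀ i j, τ i * τ j = τ j * τ i) (x : Fin 3 → ZMod m) :
    T τ (-x) = (T τ x)⁻¹ := by
  rw [T_eq hτ, T_eq hτ]
  exact P_neg ht1 (pw_comm _ _ (hc 0 1)) (pw_comm _ _ (hc 0 2)) (pw_comm _ _ (hc 1 2)) x

theorem T_pow (hτ : ∀ i, τ i ^ m = 1) (hc : ∀ i j, τ i * τ j = τ j * τ i) (x : Fin 3 → ZMod m)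
    (k : ZMod m) : T τ (k • x) = T τ x ^ k.val := by
  rw [T_eq hτ, T_eq hτ]
  exact P_pow ht1 (pw_comm _ _ (hc 0 1)) (pw_comm _ _ (hc 0 2)) (pw_comm _ _ (hc 1 2)) x k

omit [NeZero m] in
theorem T_single (i : Fin 3) (k : ZMod m) : T τ (Pi.single i k : Fin 3 → ZMod m) = τ i ^ k.val := by
  fin_cases i <;> simp [T]

omit [NeZero m] in
theorem T_single_one (hm : 1 < m) (i : Fin 3) : T τ (Pi.single i 1 : Fin 3 → ZMod m) = τ i := by
  have : Fact (1 < m) := ⟨hm⟩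
  rw [T_single, ZMod.val_one, pow_one]

theorem T_act (hm : 1 < m) (hτ : ∀ i, τ i ^ m = 1) (hc : ∀ i j, τ i * τ j = τ j * τ i)
    (M : Matrix (Fin 3) (Fin 3) (ZMod m)) (s : Q)
    (h : ∀ i, s * τ i * s⁻¹ = T τ (fun j => M j i)) (x : Fin 3 → ZMod m) :
    s * T τ x * s⁻¹ = T τ (M.mulVec x) := by
  rw [T_eq hτ, T_eq hτ]
  refine act_of ht1 (pw_comm _ _ (hc 0 1)) (pw_comm _ _ (hc 0 2)) (pw_comm _ _ (hc 1 2)) M s ?_ x
  intro i
  rw [← T_eq hτ, ← T_eq hτ, T_single_one hm]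
  exact h i

end T

/-- the end of the argument -/
theorem alg (hm : 1 < m) {τ : Fin 3 → Q} (hτ : ∀ i, τ i ^ m = 1) (hc : ∀ i j, τ i * τ j = τ j * τ i)
    [NeZero m] (hind : ∀ x : Fin 3 → ZMod m, T τ x = 1 → x = 0)
    {h : ZMod m} (hh : 2 * h = 1) {r q : Fin 3 → ZMod m} (hr : ∀ i, r i * q i = 1) {s s' : Q}
    (s0 : s * τ 0 * s⁻¹ = (τ 1)⁻¹ * (τ 2)⁻¹)
    (s1 : s * (τ 1 * τ 1) * s⁻¹ = (τ 0)⁻¹ * τ 1 * (τ 2)⁻¹)
    (s2 : s * (τ 2 * τ 2) * s⁻¹ = (τ 0)⁻¹ * (τ 1)⁻¹ * τ 2)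
    (t1 : s' * τ 1 ^ (r 1).val * s'⁻¹ = (τ 0 ^ (r 0).val)⁻¹ * (τ 2 ^ (r 2).val)⁻¹)
    (t0 : s' * (τ 0 ^ (r 0).val * τ 0 ^ (r 0).val) * s'⁻¹ =
      (τ 1 ^ (r 1).val)⁻¹ * τ 0 ^ (r 0).val * (τ 2 ^ (r 2).val)⁻¹)
    (t2 : s' * (τ 2 ^ (r 2).val * τ 2 ^ (r 2).val) * s'⁻¹ =
      (τ 1 ^ (r 1).val)⁻¹ * (τ 0 ^ (r 0).val)⁻¹ * τ 2 ^ (r 2).val)
    (hd : ∀ i, ∃ d : ZMod m, (s * s' * s⁻¹ * s'⁻¹) * τ i * (s * s' * s⁻¹ * s'⁻¹)⁻¹ = τ i ^ d.val) :
    r 2 ^ 2 + r 0 * r 2 + 2 * r 0 ^ 2 = 0 := by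
  have hinj : ∀ x y : Fin 3 → ZMod m, T τ x = T τ y → x = y := by
    intro x y hxy
    have h1 : T τ (x - y) = 1 := by
      have h2 : T τ (x - y) * T τ y = T τ y := by
        rw [← T_add hτ hc, sub_add_cancel, hxy]
      exact mul_eq_right.mp h2
    exact sub_eq_zero.mp (hind _ h1)
  -- taking square roots
  have half : ∀ (g : Q) (x y : Fin 3 → ZMod m), g * T τ (x + x) * g⁻¹ = T τ y → g * T τ x * g⁻¹ = T τ (h • y) := by
    intro g x y hg
    have h1 : T τ x = T τ (x + x) ^ h.val := by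
      rw [← T_pow hτ hc]
      congr 1
      rw [smul_add, ← add_smul, show h + h = 1 by rw [← two_mul]; exact hh, one_smul]
    rw [T_pow hτ hc, ← hg]
    conv_lhs => rw [h1]
    rw [conj_pow]
  have e : ∀ i : Fin 3, ∀ k : ZMod m, τ i ^ k.val = T τ (Pi.single i k) := fun i k => (T_single i k).symm
  have e1 : ∀ i : Fin 3, τ i = T τ (Pi.single i 1) := fun i => (T_single_one hm i).symm
  have hh1 : 1 - h = h := by linear_combination -hh
  -- `s`
  have acts : ∀ x : Fin 3 → ZMod m, s * T τ x * s⁻¹ = T τ ((SA h).mulVec x) := by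
    refine T_act hm hτ hc _ s ?_
    intro i
    fin_cases i
    · change s * τ 0 * s⁻¹ = _
      rw [s0, e1 1, e1 2, ← T_neg hτ hc, ← T_neg hτ hc, ← T_add hτ hc]
      congr 1
      ext j
      fin_cases j <;> simp [SA, Matrix.vecMulVec_apply] <;> grind
    · change s * τ 1 * s⁻¹ = _
      rw [e1 0, e1 1, e1 2, ← T_neg hτ hc, ← T_neg hτ hc, ← T_add hτ hc, ← T_add hτ hc,
        ← T_add hτ hc] at s1
      rw [e1 1, half s _ _ s1]
      congr 1
      ext j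
      fin_cases j <;> simp [SA, Matrix.vecMulVec_apply] <;> grind
    · change s * τ 2 * s⁻¹ = _
      rw [e1 0, e1 1, e1 2, ← T_neg hτ hc, ← T_neg hτ hc, ← T_add hτ hc, ← T_add hτ hc,
        ← T_add hτ hc] at s2
      rw [e1 2, half s _ _ s2]
      congr 1
      ext j
      fin_cases j <;> simp [SA, Matrix.vecMulVec_apply] <;> grind
  -- `s'`
  have root : ∀ (g : Q) (i : Fin 3) (y : Fin 3 → ZMod m), g * T τ (Pi.single i (r i)) * g⁻¹ = T τ y →
      g * τ i * g⁻¹ = T τ (q i • y) := by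
    intro g i y hg
    have h1 : τ i = T τ (Pi.single i (r i)) ^ (q i).val := by
      rw [← T_pow hτ hc, e1 i]
      congr 1
      ext j
      by_cases hij : j = i
      · subst hij
        simp only [Pi.smul_apply, Pi.single_eq_same, smul_eq_mul]
        rw [mul_comm, hr]
      · simp [Pi.single_eq_of_ne hij]
    rw [T_pow hτ hc, ← hg]
    conv_lhs => rw [h1]
    rw [conj_pow]
  have acts' : ∀ x : Fin 3 → ZMod m, s' * T τ x * s'⁻¹ = T τ ((SB h r q).mulVec x) := by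
    have hr0 := hr 0
    have hr1 := hr 1
    have hr2 := hr 2
    refine T_act hm hτ hc _ s' ?_
    intro i
    fin_cases i
    · change s' * τ 0 * s'⁻¹ = _
      rw [e 0, e 1, e 2, ← T_neg hτ hc, ← T_neg hτ hc, ← T_add hτ hc, ← T_add hτ hc,
        ← T_add hτ hc] at t0
      rw [root s' 0 _ (half s' _ _ t0)]
      congr 1
      ext j
      fin_cases j <;> simp [SB, Matrix.vecMulVec_apply] <;> grind
    · change s' * τ 1 * s'⁻¹ = _
      rw [e 0, e 1, e 2, ← T_neg hτ hc, ← T_neg hτ hc, ← T_add hτ hc] at t1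
      rw [root s' 1 _ t1]
      congr 1
      ext j
      fin_cases j <;> simp [SB, Matrix.vecMulVec_apply] <;> grind
    · change s' * τ 2 * s'⁻¹ = _
      rw [e 0, e 1, e 2, ← T_neg hτ hc, ← T_neg hτ hc, ← T_add hτ hc, ← T_add hτ hc,
        ← T_add hτ hc] at t2
      rw [root s' 2 _ (half s' _ _ t2)]
      congr 1
      ext j
      fin_cases j <;> simp [SB, Matrix.vecMulVec_apply] <;> grind
  choose d hd using hd
  obtain ⟨c, hcdef⟩ : ∃ c, c = s * s' * s⁻¹ * s'⁻¹ := ⟨_, rfl⟩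
  have actc : ∀ x : Fin 3 → ZMod m, c * T τ x * c⁻¹ = T τ ((Matrix.diagonal d).mulVec x) := by
    refine T_act hm hτ hc _ c ?_
    intro i
    rw [hcdef, hd, e]
    congr 1
    ext j
    by_cases hij : j = i
    · subst hij
      simp
    · simp [Pi.single_eq_of_ne hij, Matrix.diagonal_apply_ne _ hij]
  have hS2 := SA_sq (A := ZMod m) hh
  have hT2 := SB_sq (A := ZMod m) (r := r) (q := q) hh hr
  obtain ⟨N, hN⟩ : ∃ N, N = SB h r q := ⟨_, rfl⟩
  rw [← hN] at hT2 acts'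
  have actsi : ∀ x : Fin 3 → ZMod m, s⁻¹ * T τ x * s = T τ ((SA h).mulVec x) := by
    intro x
    have h1 := acts ((SA h).mulVec x)
    rw [Matrix.mulVec_mulVec, hS2, Matrix.one_mulVec] at h1
    rw [← h1]
    group
  have actsi' : ∀ x : Fin 3 → ZMod m, s'⁻¹ * T τ x * s' = T τ (N.mulVec x) := by
    intro x
    have h1 := acts' (N.mulVec x)
    rw [Matrix.mulVec_mulVec, hT2, Matrix.one_mulVec] at h1
    rw [← h1]
    group
  have hfin : SA h * N * SA h * N = Matrix.diagonal d := by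
    have h1 : ∀ x : Fin 3 → ZMod m, (SA h * N * SA h * N).mulVec x = (Matrix.diagonal d).mulVec x := by
      intro x
      apply hinj
      rw [← actc, hcdef]
      rw [← Matrix.mulVec_mulVec, ← Matrix.mulVec_mulVec, ← Matrix.mulVec_mulVec, ← acts, ← acts', ← actsi,
        ← actsi']
      group
    ext i j
    have h2 := congrFun (h1 (Pi.single j 1)) i
    rwa [Matrix.mulVec_single_one, Matrix.mulVec_single_one] at h2
  rw [hN] at hfin
  exact matrix_lemma hh hr _ hfin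

end Cfsg.Agent.UGT.U2.Sol
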