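import Cfsg.Agent.UGT.U2.SolPair

/-!
# Solomon's configuration modulo cores: the configuration

`exists_cfg` : the elements `e ∈ L`, `e' = y e ∈ L'`, `x ∈ L`, `x' ∈ L'` (lifts of the two reflections) which act on
`⟨u, v, e, y⟩`.
-/

set_option autoImplicit false

open Cfsg Subgroup
open Cfsg.Agent.SignalizersComponents Cfsg.Agent.Lib
open Cfsg.Agent.SignalizersComponents.IntrinsicBasic
open Cfsg.Agent.Intrinsic.Basic Cfsg.Agent.Intrinsic.Cen Cfsg.Agent.Intrinsic.Quot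
open Cfsg.Agent.McLLyComp.Act
open Cfsg.Agent.OddHalf.NI.Sol
open scoped commutatorElement

namespace Cfsg.Agent.UGT.U2.Sol

variable {G : Type*} [Group G] {S : Type*} [Group S]

/-- the configuration -/
structure Cfg (δ : MulAut S) (t : S) (H L L' : Subgroup G) (u v : G) (J : Fin 3 → Subgroup G)
    (Γ : Subgroup (↥L ⧸ oddCore ↥L)) (Γ' : Subgroup (↥L' ⧸ oddCore ↥L')) (φ : Fin 3 → S →* (↥L ⧸ oddCore ↥L))
    (φ' : Fin 3 → S →* (↥L' ⧸ oddCore ↥L')) (e e' y x x' : G) (k k' : Fin 3 → ℤ) : Prop where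
  iso : Isos φ (fun i => qs L (J i))
  iso' : Isos φ' (fun i => qs L' (J (sw i)))
  comp : ∀ i, ∀ j ∈ J i, ∀ s, pr L j = φ i s ↔ pr L' j = φ' (sw i) s
  eL : e ∈ L
  eL' : e' ∈ L'
  e'_def : e' = y * e
  ee : e * e = 1
  yy : y * y = 1
  ye : y * e = e * y
  eC : e ∈ CV H u v
  yC : y ∈ CV H u v
  act : ActD δ L J φ e
  act' : ActD δ L J φ e'
  fy : ∀ i, Fixes y (J i)
  ty : Tri L Γ y
  ty' : Tri L' Γ' y
  xL : x ∈ L
  xΓ : pr L x ∈ Γ
  xu : x * u = u * x
  xe : x * e = e * x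
  xv : x * v * x⁻¹ = v * e
  xy : x * y = y * x
  xL' : x' ∈ L'
  xΓ' : pr L' x' ∈ Γ'
  xv' : x' * v = v * x'
  xe' : x' * e = e * x'
  xu' : x' * u * x'⁻¹ = u * e'
  xy' : x' * y = y * x'
  rel : Rel (pr L x) (φ 0 t ^ k 0) (φ 1 t ^ k 1) (φ 2 t ^ k 2)
  rel' : Rel (pr L' x') (φ' 0 t ^ k' 0) (φ' 1 t ^ k' 1) (φ' 2 t ^ k' 2)
  ex : ∀ i, Ex t (k i)
  ex' : ∀ i, Ex t (k' i)

variable {δ : MulAut S} {t n z : S} {H L L' : Subgroup G} {u v : G} {J : Fin 3 → Subgroup G}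
  {Γ : Subgroup (↥L ⧸ oddCore ↥L)} {Γ' : Subgroup (↥L' ⧸ oddCore ↥L')} {m : ℕ}

theorem fixes_pow {K : Subgroup G} {a : G} (ha : Fixes a K) (k : ℕ) : Fixes (a ^ k) K := by
  induction k with
  | zero => rw [pow_zero]; exact fixes_one K
  | succ k ih => rw [pow_succ]; exact fixes_mul ih ha

/-- conjugation in the dihedral group -/
theorem dihedral {e e' r : G} (hee : e * e = 1) (he' : e' * e' = 1) (hr : r = e' * e) (k : ℕ) :
    r ^ k * e' * (r ^ k)⁻¹ = r ^ (2 * k + 1) * e ∧ e * r ^ k * e⁻¹ = (r ^ k)⁻¹ := by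
  have hi : e⁻¹ = e := inv_eq_of_mul_eq_one_right hee
  have hi' : e'⁻¹ = e' := inv_eq_of_mul_eq_one_right he'
  have hri : r⁻¹ = e * e' := by rw [hr, mul_inv_rev, hi, hi']
  have h1 : e' * r⁻¹ = r * e' := by rw [hri, hr]; group
  have h2 : e' * (r⁻¹) ^ k = r ^ k * e' := by
    have h3 : SemiconjBy e' (r⁻¹) r := h1
    exact (h3.pow_right k).eq
  constructor
  · rw [mul_assoc, ← inv_pow, h2, two_mul, pow_succ, pow_add]
    have h4 : r * e = e' := by rw [hr, mul_assoc, hee, mul_one]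
    calc r ^ k * (r ^ k * e') = r ^ k * r ^ k * (r * e) := by rw [h4]; group
      _ = _ := by group
  · have h3 : e * r * e⁻¹ = r⁻¹ := by
      rw [hri, hr]
      calc e * (e' * e) * e⁻¹ = e * e' := by group
        _ = _ := rfl
    rw [← conj_pow, h3, inv_pow]

theorem exists_cfg [Finite G] (hS : CoreFree S) (h : Half δ t z H L u v J Γ)
    (h' : Half δ t z H L' v u (fun i => J (sw i)) Γ') :
    ∃ φ φ' e e' y x x' k k', Cfg δ t H L L' u v J Γ Γ' φ φ' e e' y x x' k k' := by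
  obtain ⟨φ, hφ⟩ := h.sp.iso
  obtain ⟨φ', hφ', hcomp⟩ := exists_transport hS h h' hφ
  obtain ⟨e₀, he₀L, he₀C, he₀e₀, he₀Γ, he₀act, hrest⟩ := h.exists_e hφ
  obtain ⟨e₁, he₁L, he₁C, he₁e₁, he₁Γ, he₁act, hrest'⟩ := h'.exists_e hφ'
  rw [CV_comm] at he₁C
  have he₁act' : ActD δ L J φ e₁ := he₁act.sw hcomp
  have hδ := h.dd hφ he₀act he₀e₀
  -- `u` and `v`
  have uC : u ∈ CV H u v := mem_CV.mpr ⟨h.hu, rfl, h.uv⟩
  have vC : v ∈ CV H u v := mem_CV.mpr ⟨h.hv, h.uv.symm, rfl⟩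
  have tu : Tri L Γ u := by
    refine ⟨le_normalizer h.uL, fun x hx _ => ?_⟩
    congr 1
    rw [← h.le_cu hx, mul_inv_cancel_right]
  have tv' : Tri L' Γ' v := by
    refine ⟨le_normalizer h'.uL, fun x hx _ => ?_⟩
    congr 1
    rw [← h'.le_cu hx, mul_inv_cancel_right]
  have fCu : (e₁ * e₀) * u = u * (e₁ * e₀) := (mem_CV.mp (mul_mem he₁C he₀C)).2.1
  have fCv : (e₁ * e₀) * v = v * (e₁ * e₀) := (mem_CV.mp (mul_mem he₁C he₀C)).2.2
  have hfix : ∀ i, Fixes (e₁ * e₀) (J i) := h.fixes_of_actD hS hφ hδ he₀act he₁act'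
  have hT1 := h.triv_or hS (mul_mem he₁C he₀C) hfix
  have hT2 := h'.triv_or hS (g := e₁ * e₀) (by rw [CV_comm]; exact mul_mem he₁C he₀C) (fun i => hfix _)
  -- the choice of `ν`
  obtain ⟨ν, hν, hνL, hν1, hν2⟩ : ∃ ν, (ν = 1 ∨ ν = u ∨ ν = v ∨ ν = u * v) ∧ ν ∈ L ∧
      Tri L Γ (ν * (e₁ * e₀)) ∧ Tri L' Γ' (ν * (e₁ * e₀)) := by
    rcases hT1 with h1 | h1
    · rcases hT2 with h2 | h2
      · exact ⟨1, Or.inl rfl, one_mem _, by rw [one_mul]; exact h1, by rw [one_mul]; exact h2⟩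
      · exact ⟨u, Or.inr (Or.inl rfl), h.uL, tu.mul h1, h2⟩
    · rcases hT2 with h2 | h2
      · exact ⟨v, Or.inr (Or.inr (Or.inl rfl)), h.vL, h1, tv'.mul h2⟩
      · refine ⟨u * v, Or.inr (Or.inr (Or.inr rfl)), mul_mem h.uL h.vL, ?_, ?_⟩
        · rw [mul_assoc]; exact tu.mul h1
        · rw [h.uv, mul_assoc]; exact tv'.mul h2
  have hνC : ν ∈ CV H u v := by
    rcases hν with rfl | rfl | rfl | rfl
    · exact one_mem _
    · exact uC
    · exact vC
    · exact mul_mem uC vC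
  have hνcomm : ∀ g ∈ CV H u v, g * ν = ν * g := by
    intro g hg
    obtain ⟨-, h1, h2⟩ := mem_CV.mp hg
    rcases hν with rfl | rfl | rfl | rfl
    · rw [mul_one, one_mul]
    · exact h1
    · exact h2
    · exact ((show Commute g u from h1).mul_right (show Commute g v from h2)).eq
  have hνν : ν * ν = 1 := by
    rcases hν with rfl | rfl | rfl | rfl
    · exact one_mul 1
    · exact h.uu
    · exact h.vv
    · calc u * v * (u * v) = u * (v * u) * v := by group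
        _ = (u * u) * (v * v) := by rw [← h.uv]; group
        _ = 1 := by rw [h.uu, h.vv, one_mul]
  -- `e`
  obtain ⟨e, he⟩ : ∃ e, e = e₀ * ν := ⟨_, rfl⟩
  have heL : e ∈ L := by rw [he]; exact mul_mem he₀L hνL
  have heC : e ∈ CV H u v := by rw [he]; exact mul_mem he₀C hνC
  have hee : e * e = 1 := by
    rw [he]
    calc e₀ * ν * (e₀ * ν) = e₀ * (ν * e₀) * ν := by group
      _ = (e₀ * e₀) * (ν * ν) := by rw [← hνcomm e₀ he₀C]; group
      _ = 1 := by rw [he₀e₀, hνν, one_mul]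
  have hνJ : ∀ i, ∀ j ∈ J i, ν * j * ν⁻¹ = j := by
    intro i j hj
    rw [← hνcomm j (h.jle_cv i hj), mul_inv_cancel_right]
  have hconj : ∀ i, ∀ j ∈ J i, e * j * e⁻¹ = e₀ * j * e₀⁻¹ := by
    intro i j hj
    rw [he]
    calc e₀ * ν * j * (e₀ * ν)⁻¹ = e₀ * (ν * j * ν⁻¹) * e₀⁻¹ := by group
      _ = _ := by rw [hνJ i j hj]
  have hνN : ∀ i, ν ∈ normalizer (J i : Set G) := by
    intro i
    rw [mem_normalizer_iff_cj]
    ext j
    rw [mem_cj]
    constructor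
    · intro hj
      have h1 := hνJ i _ hj
      have h2 : ν * (ν⁻¹ * j * ν) * ν⁻¹ = j := by group
      rw [h2] at h1
      rw [h1]
      exact hj
    · intro hj
      have h1 := hνJ i _ hj
      have h2 : ν⁻¹ * j * ν = j := by
        calc ν⁻¹ * j * ν = ν⁻¹ * (ν * j * ν⁻¹) * ν := by rw [h1]
          _ = j := by group
      rw [h2]
      exact hj
  have hact : ActD δ L J φ e := by
    intro i
    refine ⟨?_, ?_⟩
    · rw [he]; exact mul_mem (he₀act i).1 (hνN i)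
    · intro j hj s hjs
      rw [hconj i j hj]
      exact (he₀act i).2 j hj s hjs
  have hpe : pr L e = pr L e₀ * pr L ν := by rw [he, pr_mul he₀L hνL]
  have hprν : pr L ν = 1 ∨ pr L ν = pr L u ∨ pr L ν = pr L v ∨ pr L ν = pr L u * pr L v := by
    rcases hν with rfl | rfl | rfl | rfl
    · left; exact pr_one
    · right; left; rfl
    · right; right; left; rfl
    · right; right; right; exact pr_mul h.uL h.vL
  have puΓ : pr L u ∈ Γ := h.sp.le 0 (pr_mem_qs (h.jle 0) h.m0)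
  have pvΓ : pr L v ∈ Γ := h.sp.le 1 (pr_mem_qs (h.jle 1) h.m1)
  have hνΓ : pr L ν ∈ Γ := by
    rcases hprν with h1 | h1 | h1 | h1
    · rw [h1]; exact one_mem _
    · rw [h1]; exact puΓ
    · rw [h1]; exact pvΓ
    · rw [h1]; exact mul_mem puΓ pvΓ
  have heΓ : pr L e ∈ Γ := by rw [hpe]; exact mul_mem he₀Γ hνΓ
  -- `r = e₁ e`
  obtain ⟨r, hr⟩ : ∃ r, r = e₁ * e := ⟨_, rfl⟩
  have hrν : r = ν * (e₁ * e₀) := by
    rw [hr, he, ← mul_assoc, hνcomm _ (mul_mem he₁C he₀C)]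
  have hr1 : Tri L Γ r := by rw [hrν]; exact hν1
  have hr2 : Tri L' Γ' r := by rw [hrν]; exact hν2
  have hrC : r ∈ CV H u v := by rw [hr]; exact mul_mem he₁C heC
  have hrf : ∀ i, Fixes r (J i) := by
    rw [hr]; exact h.fixes_of_actD hS hφ hδ hact he₁act'
  obtain ⟨b, hb, a, hab⟩ := exists_two_part r
  obtain ⟨k₀, hk₀⟩ := hb
  obtain ⟨y, hy⟩ : ∃ y, y = r ^ b := ⟨_, rfl⟩
  have hyC : y ∈ CV H u v := by rw [hy]; exact pow_mem hrC b
  have ty : Tri L Γ y := by rw [hy]; exact hr1.pow b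
  have ty' : Tri L' Γ' y := by rw [hy]; exact hr2.pow b
  have fy : ∀ i, Fixes y (J i) := by
    intro i
    rw [hy]
    exact fixes_pow (hrf i) b
  have hyinv : e * y * e⁻¹ = y⁻¹ := by rw [hy]; exact (dihedral hee he₁e₁ hr b).2
  have hyy : y * y = 1 := by
    have h1 := ty.comm heL heΓ
    have h2 : y * e * y⁻¹ * e⁻¹ = y * y := by
      have h3 : e * y⁻¹ * e⁻¹ = y := by
        have h4 : (e * y * e⁻¹)⁻¹ = e * y⁻¹ * e⁻¹ := by group
        rw [← h4, hyinv, inv_inv]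
      calc y * e * y⁻¹ * e⁻¹ = y * (e * y⁻¹ * e⁻¹) := by group
        _ = y * y := by rw [h3]
    rw [h2] at h1
    refine eq_one_of_mem_core (n := a) h1 ?_
    rw [← pow_two, ← pow_mul, mul_comm, pow_mul, hy, hab, one_pow]
  have hye : y * e = e * y := by
    have h1 : y⁻¹ = y := inv_eq_of_mul_eq_one_right hyy
    rw [h1] at hyinv
    calc y * e = e * y * e⁻¹ * e := by rw [hyinv]
      _ = e * y := by group
  -- `e'`
  obtain ⟨e', he'⟩ : ∃ e', e' = r ^ k₀ * e₁ * (r ^ k₀)⁻¹ := ⟨_, rfl⟩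
  have he'y : e' = y * e := by
    rw [he', hy, hk₀]
    exact (dihedral hee he₁e₁ hr k₀).1
  have he'L : e' ∈ L' := by
    rw [he']
    exact McLLyComp.Act.conj_mem (pow_mem hr2.1 k₀) he₁L
  have hpe' : pr L' e' = pr L' e₁ := by
    rw [he']
    exact (hr2.pow k₀).2 e₁ he₁L he₁Γ
  have he'C : e' ∈ CV H u v := by rw [he'y]; exact mul_mem hyC heC
  have he'e' : e' * e' = 1 := by
    rw [he'y]
    calc y * e * (y * e) = y * (e * y) * e := by group
      _ = (y * y) * (e * e) := by rw [← hye]; group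
      _ = 1 := by rw [hyy, hee, one_mul]
  have hye' : y * e' = e' * y := by
    rw [he'y, mul_assoc y e y, ← hye]
  have hact' : ActD δ L J φ e' := by
    intro i
    refine ⟨?_, ?_⟩
    · rw [he'y]; exact mul_mem (fy i).1 (hact i).1
    · intro j hj s hjs
      have h1 := (hact i).2 j hj s hjs
      rw [← h1, he'y, ← h.pr_of_fixes hS (fy i) (McLLyComp.Act.conj_mem (hact i).1 hj)]
      congr 1
      group
  -- `s`, `s'`
  obtain ⟨s, hsΓ, k, hk, hse, hsv, hrel⟩ := hrest (pr L ν) hprν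
  rw [← hpe] at hse hsv
  obtain ⟨s', hsΓ', k', hk', hse', hsu', hrel'⟩ := hrest' 1 (Or.inl rfl)
  rw [mul_one, ← hpe'] at hse' hsu'
  obtain ⟨x, hxL, hxs, hxu, hxe, hxv, hxy⟩ := h.exists_s heL hee heC hyy hyC hye ty hsΓ hse hsv
  obtain ⟨x', hxL', hxs', hxv', hxe', hxu', hxy'⟩ := h'.exists_s he'L he'e' (by rw [CV_comm]; exact he'C) hyy
    (by rw [CV_comm]; exact hyC) hye' ty' hsΓ' hse' hsu'
  have hxe'' : x' * e = e * x' := by
    have h1 : e = y * e' := by rw [he'y, ← mul_assoc, hyy, one_mul]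
    rw [h1]
    exact ((show Commute x' y from hxy').mul_right (show Commute x' e' from hxe')).eq
  exact ⟨φ, φ', e, e', y, x, x', k, k',
    { iso := hφ
      iso' := hφ'
      comp := hcomp
      eL := heL
      eL' := he'L
      e'_def := he'y
      ee := hee
      yy := hyy
      ye := hye
      eC := heC
      yC := hyC
      act := hact
      act' := hact'
      fy := fy
      ty := ty
      ty' := ty'
      xL := hxL
      xΓ := by rw [hxs]; exact hsΓ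
      xu := hxu
      xe := hxe
      xv := hxv
      xy := hxy
      xL' := hxL'
      xΓ' := by rw [hxs']; exact hsΓ'
      xv' := hxv'
      xe' := hxe''
      xu' := hxu'
      xy' := hxy'
      rel := by rw [hxs]; exact hrel
      rel' := by rw [hxs']; exact hrel'
      ex := hk
      ex' := hk' }⟩

end Cfsg.Agent.UGT.U2.Sol
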