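import Cfsg.Agent.UGT.U2.SolAlg
import Cfsg.Agent.OddHalf.NI.SolCore

/-!
# Data for the kill of Solomon's configuration modulo cores (bb UGT #10940 (2), #10792; ODD #9815)

`Rig z a b c g` : rigidity of a frame for automorphisms. `SP δ t z c d A Γ` : what the group level uses; `SP.of_frame` :
it follows from a frame (`Fr`) with `Rig`.
-/

set_option autoImplicit false

namespace Cfsg.Agent.UGT.U2.Sol

open Subgroup
open Cfsg.Agent.OddHalf.NI.Sol

variable {S : Type*} [Group S] {L : Type*} [Group L] {m : ℕ}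

/-- rigidity for automorphisms: an automorphism trivial on the three groups fixes `g` or `g ^ v` -/
def Rig (z : S) (a b c : S →* L) (g : L) : Prop :=
  ∀ α : MulAut L, (∀ A, α (a A) = a A) → (∀ A, α (b A) = b A) → (∀ A, α (c A) = c A) →
    α g = g ∨ α (b z * g * (b z)⁻¹) = g

/-- `s` acts as the reflection `1 - ½ (1,1,1) ⊗ (2,1,1)` -/
def Rel (s x y w : L) : Prop :=
  s * x * s⁻¹ = y⁻¹ * w⁻¹ ∧ s * (y * y) * s⁻¹ = x⁻¹ * y * w⁻¹ ∧ s * (w * w) * s⁻¹ = x⁻¹ * y⁻¹ * w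

/-- isomorphisms onto the three subgroups -/
def Isos (φ : Fin 3 → S →* L) (A : Fin 3 → Subgroup L) : Prop :=
  ∀ i, Function.Injective (φ i) ∧ (φ i).range = A i

/-- the exponents -/
def Ex (t : S) (k : ℤ) : Prop := ∃ α : MulAut S, α t = t ^ k

/-- What the group level uses. -/
structure SP (δ : MulAut S) (t z : S) (c d : L) (A : Fin 3 → Subgroup L) (Γ : Subgroup L) : Prop where
  le : ∀ i, A i ≤ Γ
  cen : ∀ x : L, x * c = c * x
  comm : ∀ i j, i ≠ j → ∀ x ∈ A i, ∀ y ∈ A j, x * y = y * x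
  aut : ∀ α : MulAut L, (∀ i, ∀ a ∈ A i, α a = a) → (∀ y ∈ Γ, α y = y) ∨ ∀ y ∈ Γ, α y = d * y * d⁻¹
  iso : ∃ φ : Fin 3 → S →* L, Isos φ A
  zi : ∀ φ : Fin 3 → S →* L, Isos φ A → φ 0 z = c ∧ φ 1 z = d ∧ φ 2 z = c * d
  ex : ∀ φ : Fin 3 → S →* L, Isos φ A → ∃ e ∈ Γ, e * e = 1 ∧ e * d = d * e ∧
    (∀ i a, e * φ i a = φ i (δ a) * e) ∧
    ∀ ν, (ν = 1 ∨ ν = c ∨ ν = d ∨ ν = c * d) → ∃ s ∈ Γ, ∃ k : Fin 3 → ℤ, (∀ i, Ex t (k i)) ∧
      s * (e * ν) = e * ν * s ∧ s * d * s⁻¹ = d * (e * ν) ∧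
      Rel s (φ 0 t ^ k 0) (φ 1 t ^ k 1) (φ 2 t ^ k 2)

theorem Rel.conj {s x y w : L} (h : Rel s x y w) (g : L) :
    Rel (g * s * g⁻¹) (g * x * g⁻¹) (g * y * g⁻¹) (g * w * g⁻¹) := by
  obtain ⟨h1, h2, h3⟩ := h
  refine ⟨?_, ?_, ?_⟩
  · calc g * s * g⁻¹ * (g * x * g⁻¹) * (g * s * g⁻¹)⁻¹ = g * (s * x * s⁻¹) * g⁻¹ := by group
      _ = _ := by rw [h1]; group
  · calc g * s * g⁻¹ * (g * y * g⁻¹ * (g * y * g⁻¹)) * (g * s * g⁻¹)⁻¹ = g * (s * (y * y) * s⁻¹) * g⁻¹ := by group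
      _ = _ := by rw [h2]; group
  · calc g * s * g⁻¹ * (g * w * g⁻¹ * (g * w * g⁻¹)) * (g * s * g⁻¹)⁻¹ = g * (s * (w * w) * s⁻¹) * g⁻¹ := by group
      _ = _ := by rw [h3]; group

/-- two isomorphisms onto the same subgroup differ by an automorphism -/
theorem exists_aut {φ θ : S →* L} (hφ : Function.Injective φ) (hθ : Function.Injective θ)
    (h : φ.range = θ.range) : ∃ α : MulAut S, ∀ A, φ A = θ (α A) := by
  refine ⟨((MonoidHom.ofInjective hφ).trans (MulEquiv.subgroupCongr h)).trans (MonoidHom.ofInjective hθ).symm, ?_⟩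
  intro A
  have h1 : (MonoidHom.ofInjective hθ) ((MonoidHom.ofInjective hθ).symm
      ((MulEquiv.subgroupCongr h) ((MonoidHom.ofInjective hφ) A))) =
      (MulEquiv.subgroupCongr h) ((MonoidHom.ofInjective hφ) A) := MulEquiv.apply_symm_apply _ _
  have h2 := congrArg Subtype.val h1
  exact h2.symm

variable {δ : MulAut S} {t n z : S} {a b c : S →* L} {g : L}

theorem z_of_iso (hT : Tor δ t n z m) {φ θ : S →* L} (hφ : Function.Injective φ) (hθ : Function.Injective θ)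
    (h : φ.range = θ.range) : φ z = θ z := by
  obtain ⟨α, hα⟩ := exists_aut hφ hθ h
  rw [hα, hT.aut_z]

/-- the frame in the position of three given isomorphisms -/
theorem exists_pos (hT : Tor δ t n z m) (hF : Fr δ t z ⊤ a b c g) {φ : Fin 3 → S →* L}
    (h0 : Function.Injective (φ 0) ∧ (φ 0).range = a.range) (h1 : Function.Injective (φ 1) ∧ (φ 1).range = b.range)
    (h2 : Function.Injective (φ 2) ∧ (φ 2).range = c.range) :
    ∃ X : L, X ∈ a.range ⊔ b.range ⊔ c.range ∧ ∃ γ : Fin 3 → MulAut S,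
      (∀ i A, γ i (δ A) = δ (γ i A)) ∧ (∀ B, X * a B * X⁻¹ = φ 0 (γ 0 B)) ∧ (∀ B, X * b B * X⁻¹ = φ 1 (γ 1 B)) ∧
      (∀ B, X * c B * X⁻¹ = φ 2 (γ 2 B)) ∧ ∀ i, ∃ k : ℤ, γ i t = t ^ k := by
  have key : ∀ (f θ : S →* L), Function.Injective f → Function.Injective θ → f.range = θ.range →
      ∃ (h : S) (γ : MulAut S), (∀ A, γ (δ A) = δ (γ A)) ∧ (∀ B, (f h)⁻¹ * θ B * f h = f (γ B)) ∧
        ∃ k : ℤ, γ t = t ^ k := by
    intro f θ hf hθ hr
    obtain ⟨α, hα⟩ := exists_aut hf hθ hr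
    obtain ⟨h, k, -, hδ⟩ := hT.conj α
    obtain ⟨β, hβ⟩ : ∃ β : MulAut S, β = α * MulAut.conj h := ⟨_, rfl⟩
    have hβa : ∀ A, β A = α (h * A * h⁻¹) := by intro A; rw [hβ]; rfl
    have hβδ : ∀ A, β (δ A) = δ (β A) := by intro A; rw [hβa, hβa, hδ]
    have hβs : ∀ A, β.symm (δ A) = δ (β.symm A) := by
      intro A
      apply β.injective
      rw [MulEquiv.apply_symm_apply, hβδ, MulEquiv.apply_symm_apply]
    refine ⟨h, β.symm, hβs, ?_, ?_⟩
    · intro B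
      have h3 : θ B = f (h * β.symm B * h⁻¹) := by
        rw [hα, ← hβa, MulEquiv.apply_symm_apply]
      rw [h3, map_mul, map_mul, map_inv]
      group
    · refine hT.tor _ (by rw [← hβs, hT.dt]) ?_
      rw [← map_pow, hT.pow, map_one]
  obtain ⟨x0, γ0, d0, c0, k0⟩ := key (φ 0) a h0.1 hF.ia h0.2
  obtain ⟨x1, γ1, d1, c1, k1⟩ := key (φ 1) b h1.1 hF.ib h1.2
  obtain ⟨x2, γ2, d2, c2, k2⟩ := key (φ 2) c h2.1 hF.ic h2.2
  -- commuting
  obtain ⟨p0, hp0⟩ : φ 0 x0 ∈ a.range := by rw [← h0.2]; exact ⟨x0, rfl⟩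
  obtain ⟨p1, hp1⟩ : φ 1 x1 ∈ b.range := by rw [← h1.2]; exact ⟨x1, rfl⟩
  obtain ⟨p2, hp2⟩ : φ 2 x2 ∈ c.range := by rw [← h2.2]; exact ⟨x2, rfl⟩
  have m0 : φ 0 x0 ∈ a.range ⊔ b.range ⊔ c.range :=
    (le_sup_left.trans le_sup_left : a.range ≤ _) ⟨p0, hp0⟩
  have m1 : φ 1 x1 ∈ a.range ⊔ b.range ⊔ c.range :=
    (le_sup_right.trans le_sup_left : b.range ≤ _) ⟨p1, hp1⟩
  have m2 : φ 2 x2 ∈ a.range ⊔ b.range ⊔ c.range := (le_sup_right : c.range ≤ _) ⟨p2, hp2⟩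
  refine ⟨(φ 0 x0)⁻¹ * (φ 1 x1)⁻¹ * (φ 2 x2)⁻¹, mul_mem (mul_mem (inv_mem m0) (inv_mem m1)) (inv_mem m2),
    ![γ0, γ1, γ2], ?_, ?_, ?_, ?_, ?_⟩
  · intro i A
    fin_cases i
    · exact d0 A
    · exact d1 A
    · exact d2 A
  · intro B
    change _ = φ 0 (γ0 B)
    rw [← c0 B, ← hp1, ← hp2]
    have e1 : Commute (b p1) (a B) := (hF.ab B p1).symm
    have e2 : Commute (c p2) (a B) := (hF.ac B p2).symm
    calc (φ 0 x0)⁻¹ * (b p1)⁻¹ * (c p2)⁻¹ * a B * ((φ 0 x0)⁻¹ * (b p1)⁻¹ * (c p2)⁻¹)⁻¹ =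
        (φ 0 x0)⁻¹ * ((b p1)⁻¹ * ((c p2)⁻¹ * a B * c p2) * b p1) * φ 0 x0 := by group
      _ = _ := by
        rw [e2.inv_left.eq, inv_mul_cancel_right, e1.inv_left.eq, inv_mul_cancel_right]
  · intro B
    change _ = φ 1 (γ1 B)
    rw [← c1 B, ← hp0, ← hp2]
    have e1 : Commute (a p0) (b B) := hF.ab p0 B
    have e2 : Commute (c p2) (b B) := (hF.bc B p2).symm
    have e3 : Commute (a p0) (φ 1 x1) := by rw [← hp1]; exact hF.ab p0 p1
    calc (a p0)⁻¹ * (φ 1 x1)⁻¹ * (c p2)⁻¹ * b B * ((a p0)⁻¹ * (φ 1 x1)⁻¹ * (c p2)⁻¹)⁻¹ =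
        (a p0)⁻¹ * ((φ 1 x1)⁻¹ * ((c p2)⁻¹ * b B * c p2) * φ 1 x1) * a p0 := by group
      _ = (a p0)⁻¹ * ((φ 1 x1)⁻¹ * b B * φ 1 x1) * a p0 := by rw [e2.inv_left.eq, inv_mul_cancel_right]
      _ = _ := by
        have e4 : Commute (a p0) ((φ 1 x1)⁻¹ * b B * φ 1 x1) := (e3.inv_right.mul_right e1).mul_right e3
        rw [e4.inv_left.eq, inv_mul_cancel_right]
  · intro B
    change _ = φ 2 (γ2 B)
    rw [← c2 B, ← hp0, ← hp1]
    have e1 : Commute (a p0) (c B) := hF.ac p0 B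
    have e2 : Commute (b p1) (c B) := hF.bc p1 B
    have e3 : Commute (a p0) (φ 2 x2) := by rw [← hp2]; exact hF.ac p0 p2
    have e4 : Commute (b p1) (φ 2 x2) := by rw [← hp2]; exact hF.bc p1 p2
    calc (a p0)⁻¹ * (b p1)⁻¹ * (φ 2 x2)⁻¹ * c B * ((a p0)⁻¹ * (b p1)⁻¹ * (φ 2 x2)⁻¹)⁻¹ =
        (a p0)⁻¹ * ((b p1)⁻¹ * ((φ 2 x2)⁻¹ * c B * φ 2 x2) * b p1) * a p0 := by group
      _ = (a p0)⁻¹ * ((φ 2 x2)⁻¹ * c B * φ 2 x2) * a p0 := by
        have e5 : Commute (b p1) ((φ 2 x2)⁻¹ * c B * φ 2 x2) := (e4.inv_right.mul_right e2).mul_right e4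
        rw [e5.inv_left.eq, inv_mul_cancel_right]
      _ = _ := by
        have e4 : Commute (a p0) ((φ 2 x2)⁻¹ * c B * φ 2 x2) := (e3.inv_right.mul_right e1).mul_right e3
        rw [e4.inv_left.eq, inv_mul_cancel_right]
  · intro i
    fin_cases i
    · exact k0
    · exact k1
    · exact k2

/-- the reflection of a frame, in terms of `Rel` -/
theorem rel_of_frame (hT : Tor δ t n z m) (hF : Fr δ t z ⊤ a b c g) :
    Rel (g⁻¹ * b n * g) (a t) (b t) (c t) := by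
  have hm := hT.one_lt
  have : NeZero m := ⟨by omega⟩
  obtain ⟨h, hh⟩ : ∃ h : ZMod m, 2 * h = 1 := by
    obtain ⟨k, hk⟩ := hT.odd
    refine ⟨((k + 1 : ℕ) : ZMod m), ?_⟩
    have h1 : ((2 * (k + 1) : ℕ) : ZMod m) = ((m + 1 : ℕ) : ZMod m) := by congr 1; omega
    rw [Nat.cast_mul, Nat.cast_ofNat] at h1
    rw [h1, Nat.cast_add, ZMod.natCast_self, zero_add, Nat.cast_one]
  have act := hF.act_s hT.pow hm hT.nt hh
  have e0 := P_e0 (t := t) (a := a) (b := b) (c := c) hm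
  have e1 := P_e1 (t := t) (a := a) (b := b) (c := c) hm
  have e2 := P_e2 (t := t) (a := a) (b := b) (c := c) hm
  have hadd := P_add (m := m) (a := a) (b := b) (c := c) hT.pow hF.ab hF.ac hF.bc
  have hneg := P_neg (m := m) (a := a) (b := b) (c := c) hT.pow hF.ab hF.ac hF.bc
  refine ⟨?_, ?_, ?_⟩
  · rw [← e0, ← e1, ← e2, ← hneg, ← hneg, ← hadd, act]
    congr 1
    ext j
    fin_cases j <;> simp [SA] <;> grind
  · rw [← e0, ← e1, ← e2, ← hneg, ← hneg, ← hadd, ← hadd, ← hadd, act]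
    congr 1
    rw [Matrix.mulVec_add]
    ext j
    fin_cases j <;> simp [SA] <;> grind
  · rw [← e0, ← e1, ← e2, ← hneg, ← hneg, ← hadd, ← hadd, ← hadd, act]
    congr 1
    rw [Matrix.mulVec_add]
    ext j
    fin_cases j <;> simp [SA] <;> grind

/-- the subgroup generated by a frame -/
def Gam (a b c : S →* L) (g : L) : Subgroup L := a.range ⊔ b.range ⊔ c.range ⊔ zpowers g

theorem fr_comm_z (hT : Tor δ t n z m) (hF : Fr δ t z ⊤ a b c g) :
    (∀ x : L, x * a z = a z * x) ∧ c z = a z * b z := by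
  refine ⟨fun x => hF.cen x (mem_top x), ?_⟩
  have h1 : b z * b z = 1 := by rw [← map_mul, hT.zz, map_one]
  calc c z = (b z * b z) * c z := by rw [h1, one_mul]
    _ = b z * (b z * c z) := by group
    _ = b z * a z := by rw [hF.prod]
    _ = a z * b z := (hF.ab z z).symm

theorem aut_of_rig (hT : Tor δ t n z m) (hF : Fr δ t z ⊤ a b c g) (hR : Rig z a b c g) (α : MulAut L)
    (ha : ∀ A, α (a A) = a A) (hb : ∀ A, α (b A) = b A) (hc : ∀ A, α (c A) = c A) :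
    (∀ y ∈ Gam a b c g, α y = y) ∨ ∀ y ∈ Gam a b c g, α y = b z * y * (b z)⁻¹ := by
  have hbz : b z * b z = 1 := by rw [← map_mul, hT.zz, map_one]
  have hbi : (b z)⁻¹ = b z := inv_eq_of_mul_eq_one_right hbz
  rcases hR α ha hb hc with h | h
  · left
    have h1 : Gam a b c g ≤ MonoidHom.eqLocus (α : L →* L) (MonoidHom.id L) := by
      unfold Gam
      refine sup_le (sup_le (sup_le ?_ ?_) ?_) ?_
      · rintro _ ⟨A, rfl⟩; exact ha A
      · rintro _ ⟨A, rfl⟩; exact hb A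
      · rintro _ ⟨A, rfl⟩; exact hc A
      · rw [zpowers_le]; exact h
    intro y hy
    exact h1 hy
  · right
    have h1 : Gam a b c g ≤ MonoidHom.eqLocus (α : L →* L) (MulAut.conj (b z)).toMonoidHom := by
      unfold Gam
      refine sup_le (sup_le (sup_le ?_ ?_) ?_) ?_
      · rintro _ ⟨A, rfl⟩
        change α (a A) = b z * a A * (b z)⁻¹
        rw [ha, ← hF.ab, mul_inv_cancel_right]
      · rintro _ ⟨A, rfl⟩
        change α (b A) = b z * b A * (b z)⁻¹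
        rw [hb, ← map_mul, ← hT.cen, map_mul, mul_inv_cancel_right]
      · rintro _ ⟨A, rfl⟩
        change α (c A) = b z * c A * (b z)⁻¹
        rw [hc, hF.bc, mul_inv_cancel_right]
      · rw [zpowers_le]
        change α g = b z * g * (b z)⁻¹
        rw [map_mul, map_mul, map_inv, hb] at h
        calc α g = b z * (b z * α g * (b z)⁻¹) * b z := by
              rw [show b z * (b z * α g * (b z)⁻¹) * b z = (b z * b z) * α g * ((b z)⁻¹ * b z) by group, hbz]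
              group
          _ = b z * g * (b z)⁻¹ := by rw [h, hbi]
    intro y hy
    exact h1 hy

/-- changing the sign of one exponent -/
theorem exists_sign (hT : Tor δ t n z m) {φ : Fin 3 → S →* L}
    (hcomm : ∀ i j, i ≠ j → ∀ A B, φ i A * φ j B = φ j B * φ i A) (i : Fin 3) {k : Fin 3 → ℤ}
    (hk : ∀ j, Ex t (k j)) {e s : L} (he : ∀ j A, e * φ j A = φ j (δ A) * e) (hse : s * e = e * s)
    (hsd : s * φ 1 z * s⁻¹ = φ 1 z * e) (hrel : Rel s (φ 0 t ^ k 0) (φ 1 t ^ k 1) (φ 2 t ^ k 2)) :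
    ∃ k' : Fin 3 → ℤ, (∀ j, Ex t (k' j)) ∧ (φ i n * s * (φ i n)⁻¹) * (e * φ i z) =
      e * φ i z * (φ i n * s * (φ i n)⁻¹) ∧
      (φ i n * s * (φ i n)⁻¹) * φ 1 z * (φ i n * s * (φ i n)⁻¹)⁻¹ = φ 1 z * (e * φ i z) ∧
      Rel (φ i n * s * (φ i n)⁻¹) (φ 0 t ^ k' 0) (φ 1 t ^ k' 1) (φ 2 t ^ k' 2) := by
  -- `y e y⁻¹ = e z`
  have hye : φ i n * e * (φ i n)⁻¹ = e * φ i z := by
    have h1 := he i n
    rw [hT.dn, map_mul] at h1
    have h2 : φ i z * φ i z = 1 := by rw [← map_mul, hT.zz, map_one]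
    have h3 : φ i z * e = e * φ i z := by
      have h4 := he i z
      rw [hT.aut_z] at h4
      exact h4.symm
    have h5 : φ i n * e = φ i z * e * φ i n := by
      calc φ i n * e = (φ i z * φ i z) * (φ i n * e) := by rw [h2, one_mul]
        _ = φ i z * (φ i z * φ i n * e) := by group
        _ = φ i z * (e * φ i n) := by rw [← h1]
        _ = φ i z * e * φ i n := by group
    rw [h5, mul_inv_cancel_right, h3]
  have hyd : φ i n * φ 1 z = φ 1 z * φ i n := by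
    by_cases hi : i = 1
    · subst hi
      rw [← map_mul, ← map_mul, hT.cen]
    · exact hcomm i 1 hi n z
  obtain ⟨k', hk'⟩ : ∃ k' : Fin 3 → ℤ, k' = fun j => if j = i then - k j else k j := ⟨_, rfl⟩
  have hconj : ∀ j, φ i n * φ j t ^ k j * (φ i n)⁻¹ = φ j t ^ k' j := by
    intro j
    by_cases hj : j = i
    · subst hj
      have h1 : k' j = - k j := by rw [hk']; simp
      rw [h1, ← conj_zpow, ← map_inv, ← map_mul, ← map_mul, hT.nt, map_inv, inv_zpow, zpow_neg]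
    · have h1 : k' j = k j := by rw [hk']; simp [hj]
      have h2 : Commute (φ i n) (φ j t) := hcomm i j (Ne.symm hj) n t
      rw [h1, (h2.zpow_right (k j)).eq, mul_inv_cancel_right]
  refine ⟨k', ?_, ?_, ?_, ?_⟩
  · intro j
    by_cases hj : j = i
    · subst hj
      obtain ⟨α, hα⟩ := hk j
      have h1 : k' j = - k j := by rw [hk']; simp
      refine ⟨MulAut.conj n * α, ?_⟩
      change n * α t * n⁻¹ = _
      rw [hα, h1, ← conj_zpow, hT.nt, inv_zpow, zpow_neg]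
    · have h1 : k' j = k j := by rw [hk']; simp [hj]
      rw [h1]; exact hk j
  · rw [← hye]
    calc φ i n * s * (φ i n)⁻¹ * (φ i n * e * (φ i n)⁻¹) = φ i n * (s * e) * (φ i n)⁻¹ := by group
      _ = φ i n * e * (φ i n)⁻¹ * (φ i n * s * (φ i n)⁻¹) := by rw [hse]; group
  · have h1 : (φ i n)⁻¹ * φ 1 z * φ i n = φ 1 z := by rw [mul_assoc, ← hyd, inv_mul_cancel_left]
    calc φ i n * s * (φ i n)⁻¹ * φ 1 z * (φ i n * s * (φ i n)⁻¹)⁻¹ =
        φ i n * (s * ((φ i n)⁻¹ * φ 1 z * φ i n) * s⁻¹) * (φ i n)⁻¹ := by group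
      _ = φ i n * φ 1 z * (e * (φ i n)⁻¹) := by rw [h1, hsd]; group
      _ = φ 1 z * (φ i n * e * (φ i n)⁻¹) := by rw [hyd]; group
      _ = φ 1 z * (e * φ i z) := by rw [hye]
  · rw [← hconj, ← hconj, ← hconj]
    exact hrel.conj _

theorem SP.of_frame (hT : Tor δ t n z m) (hF : Fr δ t z ⊤ a b c g) (hR : Rig z a b c g) :
    SP δ t z (a z) (b z) ![a.range, b.range, c.range] (Gam a b c g) := by
  obtain ⟨hcz, hcc⟩ := fr_comm_z hT hF
  have hga : a.range ≤ Gam a b c g := le_sup_left.trans (le_sup_left.trans le_sup_left)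
  have hgb : b.range ≤ Gam a b c g := le_sup_right.trans (le_sup_left.trans le_sup_left)
  have hgc : c.range ≤ Gam a b c g := le_sup_right.trans le_sup_left
  have hgg : g ∈ Gam a b c g := (le_sup_right : zpowers g ≤ _) (mem_zpowers g)
  have hgX : a.range ⊔ b.range ⊔ c.range ≤ Gam a b c g := le_sup_left
  have hcomm : ∀ i j : Fin 3, i ≠ j → ∀ x ∈ (![a.range, b.range, c.range] : Fin 3 → Subgroup L) i,
      ∀ y ∈ (![a.range, b.range, c.range] : Fin 3 → Subgroup L) j, x * y = y * x := by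
    intro i j hij x hx y hy
    fin_cases i <;> fin_cases j
    · exact absurd rfl hij
    · obtain ⟨A, rfl⟩ := hx; obtain ⟨B, rfl⟩ := hy; exact hF.ab A B
    · obtain ⟨A, rfl⟩ := hx; obtain ⟨B, rfl⟩ := hy; exact hF.ac A B
    · obtain ⟨A, rfl⟩ := hx; obtain ⟨B, rfl⟩ := hy; exact (hF.ab B A).symm
    · exact absurd rfl hij
    · obtain ⟨A, rfl⟩ := hx; obtain ⟨B, rfl⟩ := hy; exact hF.bc A B
    · obtain ⟨A, rfl⟩ := hx; obtain ⟨B, rfl⟩ := hy; exact (hF.ac B A).symm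
    · obtain ⟨A, rfl⟩ := hx; obtain ⟨B, rfl⟩ := hy; exact (hF.bc B A).symm
    · exact absurd rfl hij
  have hzi : ∀ φ : Fin 3 → S →* L, Isos φ ![a.range, b.range, c.range] →
      φ 0 z = a z ∧ φ 1 z = b z ∧ φ 2 z = a z * b z := by
    intro φ hφ
    refine ⟨z_of_iso hT (hφ 0).1 hF.ia (hφ 0).2, z_of_iso hT (hφ 1).1 hF.ib (hφ 1).2, ?_⟩
    rw [← hcc]
    exact z_of_iso hT (hφ 2).1 hF.ic (hφ 2).2
  refine ⟨?_, hcz, hcomm, ?_, ?_, hzi, ?_⟩
  · intro i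
    fin_cases i
    · exact hga
    · exact hgb
    · exact hgc
  · intro α hα
    exact aut_of_rig hT hF hR α (fun A => hα 0 _ ⟨A, rfl⟩) (fun A => hα 1 _ ⟨A, rfl⟩) (fun A => hα 2 _ ⟨A, rfl⟩)
  · refine ⟨![a, b, c], ?_⟩
    intro i
    fin_cases i
    · exact ⟨hF.ia, rfl⟩
    · exact ⟨hF.ib, rfl⟩
    · exact ⟨hF.ic, rfl⟩
  · intro φ hφ
    obtain ⟨X, hX, γ, hγδ, hγ0, hγ1, hγ2, hγt⟩ := exists_pos hT hF (hφ 0) (hφ 1) (hφ 2)
    obtain ⟨z0, z1, z2⟩ := hzi φ hφ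
    have hXΓ : X ∈ Gam a b c g := hgX hX
    have hF' := hF.conj (mem_top X)
    have hcommφ : ∀ i j, i ≠ j → ∀ A B, φ i A * φ j B = φ j B * φ i A := by
      intro i j hij A B
      exact hcomm i j hij _ (by rw [← (hφ i).2]; exact ⟨A, rfl⟩) _ (by rw [← (hφ j).2]; exact ⟨B, rfl⟩)
    choose k hk using hγt
    obtain ⟨e, he⟩ : ∃ e, e = (MulAut.conj X g)⁻¹ * ((MulAut.conj X).toMonoidHom.comp b) z * (MulAut.conj X g) :=
      ⟨_, rfl⟩
    obtain ⟨s, hs⟩ : ∃ s, s = (MulAut.conj X g)⁻¹ * ((MulAut.conj X).toMonoidHom.comp b) n * (MulAut.conj X g) :=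
      ⟨_, rfl⟩
    have hgΓ : MulAut.conj X g ∈ Gam a b c g := mul_mem (mul_mem hXΓ hgg) (inv_mem hXΓ)
    have hbΓ : ∀ A, ((MulAut.conj X).toMonoidHom.comp b) A ∈ Gam a b c g := fun A =>
      mul_mem (mul_mem hXΓ (hgb ⟨A, rfl⟩)) (inv_mem hXΓ)
    have heΓ : e ∈ Gam a b c g := by
      rw [he]; exact mul_mem (mul_mem (inv_mem hgΓ) (hbΓ z)) hgΓ
    have hsΓ : s ∈ Gam a b c g := by
      rw [hs]; exact mul_mem (mul_mem (inv_mem hgΓ) (hbΓ n)) hgΓ
    have hee : e * e = 1 := by rw [he]; exact hF'.e_sq hT.zz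
    have ha0 : ∀ A, ((MulAut.conj X).toMonoidHom.comp a) A = φ 0 (γ 0 A) := hγ0
    have hb0 : ∀ A, ((MulAut.conj X).toMonoidHom.comp b) A = φ 1 (γ 1 A) := hγ1
    have hc0 : ∀ A, ((MulAut.conj X).toMonoidHom.comp c) A = φ 2 (γ 2 A) := hγ2
    have hact : ∀ i A, e * φ i A = φ i (δ A) * e := by
      intro i A
      have h0 : A = γ i ((γ i).symm A) := (MulEquiv.apply_symm_apply _ _).symm
      have h1 : δ A = γ i (δ ((γ i).symm A)) := by rw [hγδ, ← h0]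
      rw [h1]
      conv_lhs => rw [h0]
      fin_cases i
      · have h2 := hF'.ea ((γ 0).symm A)
        rw [← he, ha0, ha0] at h2
        exact h2
      · have h2 := hF'.eb ((γ 1).symm A)
        rw [← he, hb0, hb0] at h2
        exact h2
      · have h2 := hF'.ec ((γ 2).symm A)
        rw [← he, hc0, hc0] at h2
        exact h2
    have hγz : ∀ i, γ i z = z := fun i => hT.aut_z _
    have hse : s * e = e * s := by rw [hs, he]; exact hF'.s_e hT.cen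
    have hsd : s * φ 1 z * s⁻¹ = φ 1 z * e := by
      have h1 := hF'.s_v hT.zz hT.dn hT.cen hT.nn
      rw [← hs, ← he, hb0, hγz] at h1
      exact h1
    have hed : e * b z = b z * e := by
      rw [← z1, hact, hT.aut_z]
    have hrel : Rel s (φ 0 t ^ k 0) (φ 1 t ^ k 1) (φ 2 t ^ k 2) := by
      have h1 := rel_of_frame hT hF'
      rw [← hs, ha0, hb0, hc0, hk, hk, hk, map_zpow, map_zpow, map_zpow] at h1
      exact h1
    have hEx : ∀ i, Ex t (k i) := fun i => ⟨γ i, hk i⟩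
    refine ⟨e, heΓ, hee, hed, hact, ?_⟩
    intro ν hν
    have main : ∀ i, ∃ s ∈ Gam a b c g, ∃ k : Fin 3 → ℤ, (∀ i, Ex t (k i)) ∧
        s * (e * φ i z) = e * φ i z * s ∧ s * b z * s⁻¹ = b z * (e * φ i z) ∧
        Rel s (φ 0 t ^ k 0) (φ 1 t ^ k 1) (φ 2 t ^ k 2) := by
      intro i
      obtain ⟨k', h1, h2, h3, h4⟩ := exists_sign hT hcommφ i hEx hact hse hsd hrel
      rw [z1] at h3
      have hφΓ : φ i n ∈ Gam a b c g := by
        have h5 : φ i n ∈ (![a.range, b.range, c.range] : Fin 3 → Subgroup L) i := by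
          rw [← (hφ i).2]; exact ⟨n, rfl⟩
        fin_cases i
        · exact hga h5
        · exact hgb h5
        · exact hgc h5
      exact ⟨_, mul_mem (mul_mem hφΓ hsΓ) (inv_mem hφΓ), k', h1, h2, h3, h4⟩
    rcases hν with rfl | rfl | rfl | rfl
    · refine ⟨s, hsΓ, k, hEx, ?_, ?_, hrel⟩
      · rw [mul_one]; exact hse
      · rw [mul_one, ← z1]; exact hsd
    · rw [← z0]; exact main 0
    · have := main 1
      rwa [z1] at this
    · have := main 2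
      rwa [z2] at this

end Cfsg.Agent.UGT.U2.Sol
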