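import Cfsg.Agent.UGT.U2.SolKill

/-!
# Solomon's configuration modulo cores: the end

`Half.false` : two halves (with the roles of `u` and `v` interchanged) do not exist.
-/

set_option autoImplicit false

open Cfsg Subgroup
open Cfsg.Agent.SignalizersComponents Cfsg.Agent.Lib
open Cfsg.Agent.SignalizersComponents.IntrinsicBasic
open Cfsg.Agent.Intrinsic.Basic Cfsg.Agent.Intrinsic.Cen Cfsg.Agent.Intrinsic.Quot
open Cfsg.Agent.McLLyComp.Act
open Cfsg.Agent.OddHalf.NI.Sol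
open scoped commutatorElement

namespace Cfsg.Agent.UGT.U2.Sol

variable {G : Type*} [Group G] {S : Type*} [Group S]
variable {δ : MulAut S} {t n z : S} {H L L' : Subgroup G} {u v : G} {J : Fin 3 → Subgroup G}
  {Γ : Subgroup (↥L ⧸ oddCore ↥L)} {Γ' : Subgroup (↥L' ⧸ oddCore ↥L')} {m : ℕ}

/-- **Solomon's configuration modulo cores does not exist.** -/
theorem Half.false [Finite G] (hT : Tor δ t n z m) (hS : CoreFree S) (h : Half δ t z H L u v J Γ)
    (h' : Half δ t z H L' v u (fun i => J (sw i)) Γ') : False := by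
  obtain ⟨φ, φ', e, e', y, x, x', k, k', c⟩ := exists_cfg hS h h'
  have hm := hT.one_lt
  have : NeZero m := ⟨by omega⟩
  have hfm : Fact (1 < m) := ⟨hm⟩
  choose g hgJ hgY hgt using exists_g hT hS h c
  obtain ⟨K, hK⟩ : ∃ K, K = KK H u v e y J := ⟨_, rfl⟩
  obtain ⟨Y, hY⟩ : ∃ Y, Y = YY H u v e y := ⟨_, rfl⟩
  have hcore : ∀ o ∈ core L, o ∈ Y → o ∈ K := by
    intro o ho hoY
    rw [hK]
    rw [hY] at hoY
    exact h.core_KK ho hoY
  have hcore' : ∀ o ∈ core L', o ∈ Y → o ∈ K := by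
    intro o ho hoY
    rw [hK]
    rw [hY] at hoY
    exact h'.core_KK' ho hoY
  have hgL : ∀ i, g i ∈ L := fun i => h.jle i (hgJ i)
  have hgL' : ∀ i, g i ∈ L' := by
    intro i
    have h1 : J (sw (sw i)) ≤ L' := h'.jle (sw i)
    rw [sw_sw] at h1
    exact h1 (hgJ i)
  have hgN : ∀ i, g i ∈ normalizer (K : Set G) := by
    intro i
    rw [hK]
    exact J_KK h (hgJ i) (YY_le _ _ _ _ _ (hgY i))
  rw [← hY] at hgY
  have hxN : x ∈ normalizer (K : Set G) := by rw [hK]; exact c.x_KK hS h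
  have hxN' : x' ∈ normalizer (K : Set G) := by rw [hK]; exact c.x_KK' hS h'
  have hxY : x ∈ normalizer (Y : Set G) := by rw [hY]; exact c.x_YY h
  have hxY' : x' ∈ normalizer (Y : Set G) := by rw [hY]; exact c.x_YY' h'
  -- equality in the quotient
  have eqQ : ∀ a b : G, a ∈ L → b ∈ L → a ∈ Y → b ∈ Y → a ∈ normalizer (K : Set G) →
      b ∈ normalizer (K : Set G) → pr L a = pr L b → qn K a = qn K b := by
    intro a b ha hb haY hbY haK hbK hab
    rw [qn_eq haK hbK]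
    exact hcore _ ((pr_eq_iff ha hb).mp hab) (mul_mem (inv_mem haY) hbY)
  obtain ⟨b, hb⟩ : ∃ b : Fin 3 → ↥(normalizer (K : Set G)) ⧸ K.subgroupOf (normalizer (K : Set G)),
      b = fun i => qn K (g i) := ⟨_, rfl⟩
  have hbi : ∀ i, b i = qn K (g i) := fun i => by rw [hb]
  have htm := hT.pow
  have hgm : ∀ i, pr L (g i ^ m) = 1 := by
    intro i
    rw [pr_pow (hgL i), hgt, ← map_pow, htm, map_one]
  have hbm : ∀ i, b i ^ m = 1 := by
    intro i
    rw [hbi, ← qn_pow (hgN i), qn_one (pow_mem (hgN i) m)]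
    exact hcore _ ((pr_eq_one_iff (pow_mem (hgL i) m)).mp (hgm i)) (pow_mem (hgY i) m)
  have hphic : ∀ i j, i ≠ j → ∀ s s', φ i s * φ j s' = φ j s' * φ i s := by
    intro i j hij s s'
    refine h.sp.comm i j hij _ ?_ _ ?_
    · rw [← show (φ i).range = qs L (J i) from (c.iso i).2]; exact ⟨s, rfl⟩
    · rw [← show (φ j).range = qs L (J j) from (c.iso j).2]; exact ⟨s', rfl⟩
  have hbc : ∀ i j, b i * b j = b j * b i := by
    intro i j
    rw [hbi, hbi, ← qn_mul (hgN i) (hgN j), ← qn_mul (hgN j) (hgN i)]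
    refine eqQ _ _ (mul_mem (hgL i) (hgL j)) (mul_mem (hgL j) (hgL i)) (mul_mem (hgY i) (hgY j))
      (mul_mem (hgY j) (hgY i)) (mul_mem (hgN i) (hgN j)) (mul_mem (hgN j) (hgN i)) ?_
    rw [pr_mul (hgL i) (hgL j), pr_mul (hgL j) (hgL i), hgt, hgt]
    by_cases hij : i = j
    · rw [hij]
    · exact hphic i j hij t t
  -- the exponents
  have hex : ∀ i, ∃ q : ZMod m, ((k i : ℤ) : ZMod m) * q = 1 := by
    intro i
    obtain ⟨α, hα⟩ := c.ex i
    exact hT.unit hα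
  have hex' : ∀ i, ∃ q : ZMod m, ((k' i : ℤ) : ZMod m) * q = 1 := by
    intro i
    obtain ⟨α, hα⟩ := c.ex' i
    exact hT.unit hα
  choose q hq using hex
  choose q' hq' using hex'
  obtain ⟨τ, hτ⟩ : ∃ τ : Fin 3 → ↥(normalizer (K : Set G)) ⧸ K.subgroupOf (normalizer (K : Set G)),
      τ = fun i => b i ^ k i := ⟨_, rfl⟩
  have hτi : ∀ i, τ i = b i ^ k i := fun i => by rw [hτ]
  have hτm : ∀ i, τ i ^ m = 1 := by
    intro i
    rw [hτi, ← zpow_natCast, ← zpow_mul, mul_comm, zpow_mul, zpow_natCast, hbm, one_zpow]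
  have hτc : ∀ i j, τ i * τ j = τ j * τ i := by
    intro i j
    rw [hτi, hτi]
    have h1 : Commute (b i) (b j) := hbc i j
    exact (h1.zpow_zpow _ _).eq
  -- central elements of `S`
  have hcent : ∀ l : ℤ, (∀ s, t ^ l * s = s * t ^ l) → ((l : ℤ) : ZMod m) = 0 := by
    intro l hl
    have h1 : t ^ l = 1 := by
      rcases hT.cen2 _ hl with h1 | h1
      · exact h1
      · exfalso
        apply hT.z1
        have h2 : (t ^ l) ^ m = 1 := by
          rw [← zpow_natCast, ← zpow_mul, mul_comm, zpow_mul, zpow_natCast, htm, one_zpow]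
        rw [h1, odd_pow_of_sq hT.zz hT.odd] at h2
        exact h2
    rw [ZMod.intCast_zmod_eq_zero_iff_dvd, ← hT.ord]
    exact orderOf_dvd_iff_zpow_eq_one.mpr h1
  -- independence
  have hind : ∀ w : Fin 3 → ZMod m, T τ w = 1 → w = 0 := by
    intro w hw
    obtain ⟨a, ha⟩ : ∃ a : Fin 3 → ℤ, a = fun i => k i * ((w i).val : ℤ) := ⟨_, rfl⟩
    have hai : ∀ i, a i = k i * ((w i).val : ℤ) := fun i => by rw [ha]
    have hpow : ∀ i, τ i ^ (w i).val = qn K (g i ^ a i) := by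
      intro i
      rw [qn_zpow (hgN i), ← hbi, hτi, ← zpow_natCast, ← zpow_mul, ← hai]
    have hgaL : ∀ i, g i ^ a i ∈ L := fun i => zpow_mem (hgL i) _
    have hgaN : ∀ i, g i ^ a i ∈ normalizer (K : Set G) := fun i => zpow_mem (hgN i) _
    unfold T at hw
    rw [hpow, hpow, hpow, ← qn_mul (hgaN 0) (hgaN 1), ← qn_mul (mul_mem (hgaN 0) (hgaN 1)) (hgaN 2),
      qn_one (mul_mem (mul_mem (hgaN 0) (hgaN 1)) (hgaN 2)), hK] at hw
    have hpr : pr L (g 0 ^ a 0 * g 1 ^ a 1 * g 2 ^ a 2) = φ 0 (t ^ a 0) * φ 1 (t ^ a 1) * φ 2 (t ^ a 2) := by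
      rw [pr_mul (mul_mem (hgaL 0) (hgaL 1)) (hgaL 2), pr_mul (hgaL 0) (hgaL 1), pr_zpow (hgL 0), pr_zpow (hgL 1),
        pr_zpow (hgL 2), hgt, hgt, hgt, map_zpow, map_zpow, map_zpow]
    have hcomm : ∀ i s, Commute (φ 0 (t ^ a 0) * φ 1 (t ^ a 1) * φ 2 (t ^ a 2)) (φ i s) := by
      intro i s
      obtain ⟨j, hj, hjs⟩ := h.exists_j_of c.iso i s
      have h1 := h.pr_of_fixes hS (hw.2 i) hj
      have hGL : g 0 ^ a 0 * g 1 ^ a 1 * g 2 ^ a 2 ∈ L := mul_mem (mul_mem (hgaL 0) (hgaL 1)) (hgaL 2)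
      rw [pr_mul (mul_mem hGL (h.jle i hj)) (inv_mem hGL), pr_mul hGL (h.jle i hj), pr_inv hGL, hjs, hpr] at h1
      exact mul_inv_eq_iff_eq_mul.mp h1
    have hz : ∀ i, ((a i : ℤ) : ZMod m) = 0 := by
      intro i
      refine hcent (a i) fun s => ?_
      apply (c.iso i).1
      rw [map_mul, map_mul]
      have h01 : ∀ s s', Commute (φ 0 s) (φ 1 s') := hphic 0 1 (by decide)
      have h02 : ∀ s s', Commute (φ 0 s) (φ 2 s') := hphic 0 2 (by decide)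
      have h12 : ∀ s s', Commute (φ 1 s) (φ 2 s') := hphic 1 2 (by decide)
      fin_cases i
      · change φ 0 (t ^ a 0) * φ 0 s = φ 0 s * φ 0 (t ^ a 0)
        have h1 : φ 0 (t ^ a 0) = (φ 0 (t ^ a 0) * φ 1 (t ^ a 1) * φ 2 (t ^ a 2)) * (φ 2 (t ^ a 2))⁻¹ *
            (φ 1 (t ^ a 1))⁻¹ := by group
        rw [h1]
        exact (((hcomm 0 s).mul_left (h02 s _).symm.inv_left).mul_left (h01 s _).symm.inv_left).eq
      · change φ 1 (t ^ a 1) * φ 1 s = φ 1 s * φ 1 (t ^ a 1)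
        have h1 : φ 1 (t ^ a 1) = (φ 0 (t ^ a 0))⁻¹ * (φ 0 (t ^ a 0) * φ 1 (t ^ a 1) * φ 2 (t ^ a 2)) *
            (φ 2 (t ^ a 2))⁻¹ := by group
        rw [h1]
        exact (((h01 _ s).inv_left.mul_left (hcomm 1 s)).mul_left (h12 s _).symm.inv_left).eq
      · change φ 2 (t ^ a 2) * φ 2 s = φ 2 s * φ 2 (t ^ a 2)
        have h1 : φ 2 (t ^ a 2) = (φ 1 (t ^ a 1))⁻¹ * (φ 0 (t ^ a 0))⁻¹ *
            (φ 0 (t ^ a 0) * φ 1 (t ^ a 1) * φ 2 (t ^ a 2)) := by group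
        rw [h1]
        exact (((h12 _ s).inv_left.mul_left (h02 _ s).inv_left).mul_left (hcomm 2 s)).eq
    funext i
    have h1 := hz i
    rw [hai, Int.cast_mul, Int.cast_natCast, ZMod.natCast_zmod_val] at h1
    calc w i = (((k i : ℤ) : ZMod m) * q i) * w i := by rw [hq, one_mul]
      _ = q i * (((k i : ℤ) : ZMod m) * w i) := by ring
      _ = 0 := by rw [h1, mul_zero]
  -- `g i ∉ K`
  have hgK : ∀ i, g i ∉ K := by
    intro i hi
    have h1 : b i = 1 := by rw [hbi, qn_one (hgN i)]; exact hi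
    have h2 : T τ (Pi.single i 1 : Fin 3 → ZMod m) = 1 := by
      rw [T_single_one hm, hτi, h1, one_zpow]
    have h3 := congrFun (hind _ h2) i
    rw [Pi.single_eq_same, Pi.zero_apply] at h3
    exact one_ne_zero h3
  -- the commutator
  obtain ⟨w, hw⟩ : ∃ w, w = x * x' * x⁻¹ * x'⁻¹ := ⟨_, rfl⟩
  have hwCS : w ∈ CS H u v e y := by rw [hw]; exact c.comm_CS h h'
  have hwCV : w ∈ CV H u v := CS_le_CV hwCS
  have hwN : w ∈ normalizer (K : Set G) := by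
    rw [hw]; exact mul_mem (mul_mem (mul_mem hxN hxN') (inv_mem hxN)) (inv_mem hxN')
  have hwY : w ∈ normalizer (Y : Set G) := by rw [hY]; exact le_normalizer_core _ hwCS
  obtain ⟨-, hwu, hwv, hwe, -⟩ := mem_CS.mp hwCS
  have hcjw : ∀ i, IsComp (CV H u v) (cj w (J i)) := by
    intro i
    have h1 := (h.jcv i).cj w
    rwa [cj_eq_self_of_mem hwCV] at h1
  have hgwY : ∀ i, w * g i * w⁻¹ ∈ Y := fun i => (mem_normalizer_iff.mp hwY _).mp (hgY i)
  have hJw : ∀ i, cj w (J i) = J i := by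
    intro i
    obtain ⟨j, hj⟩ : ∃ j, cj w (J i) = J j := by
      by_contra hne
      rw [not_exists] at hne
      have h1 : w * g i * w⁻¹ ∈ K := by
        rw [hK]
        refine ⟨by rw [← hY]; exact hgwY i, fun j => ?_⟩
        exact (h.jcv j).fixes_of_mem (hcjw i) (fun h2 => hne j h2.symm) (conj_mem_cj (hgJ i))
      exact hgK i ((mem_normalizer_iff.mp hwN _).mpr h1)
    obtain ⟨ζ, hζ, hζp, hζc⟩ := exists_zz h c.iso i
    have h1 : ζ ∈ J j := by
      have h2 : w * ζ * w⁻¹ ∈ cj w (J i) := conj_mem_cj hζ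
      rw [hζc w hwu hwv, mul_inv_cancel_right, hj] at h2
      exact h2
    by_cases hij : i = j
    · rw [hj, hij]
    · exfalso
      obtain ⟨s, hs⟩ := h.exists_s_of c.iso j h1
      have h2 : ∀ s', s * s' = s' * s := by
        intro s'
        apply (c.iso j).1
        rw [map_mul, map_mul, ← hs, hζp]
        exact hphic i j hij z s'
      rcases hT.cen2 s h2 with h3 | h3
      · rw [h3, map_one, hζp] at hs
        apply hT.z1
        apply (c.iso i).1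
        rw [hs, map_one]
      · rw [h3, hζp] at hs
        exact hij (zz_distinct hT h c.iso hs)
  have hwg : ∀ i, ∃ l : ℤ, qn K (w * g i * w⁻¹) = b i ^ l := by
    intro i
    have haJ : w * g i * w⁻¹ ∈ J i := by
      have h1 : w * g i * w⁻¹ ∈ cj w (J i) := conj_mem_cj (hgJ i)
      rwa [hJw] at h1
    have haL : w * g i * w⁻¹ ∈ L := h.jle i haJ
    obtain ⟨s, hs⟩ := h.exists_s_of c.iso i haJ
    have haCS : w * g i * w⁻¹ ∈ CS H u v e y := by
      have h1 := hgwY i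
      rw [hY] at h1
      exact YY_le _ _ _ _ _ h1
    have h1 : δ s = s := c.fixd haJ (mem_CS.mp haCS).2.2.2.1 hs
    have h2 : s ^ m = 1 := by
      apply (c.iso i).1
      rw [map_pow, ← hs, ← pr_pow haL, map_one, conj_pow]
      have h3 : g i ^ m ∈ core (J i) := by
        rw [h.core_eq hS (pow_mem (hgJ i) m), ← pr_eq_one_iff (pow_mem (hgL i) m)]
        exact hgm i
      have h4 : w * g i ^ m * w⁻¹ ∈ core (J i) := conj_mem_core (mem_normalizer_iff_cj.mpr (hJw i)) h3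
      exact (pr_eq_one_iff (core_le L (h.core_le' hS i h4))).mpr (h.core_le' hS i h4)
    obtain ⟨l, hl⟩ := hT.tor s h1 h2
    refine ⟨l, ?_⟩
    rw [hbi, ← qn_zpow (hgN i)]
    refine eqQ _ _ haL (zpow_mem (hgL i) l) (hgwY i) (zpow_mem (hgY i) l)
      (mul_mem (mul_mem hwN (hgN i)) (inv_mem hwN)) (zpow_mem (hgN i) l) ?_
    rw [hs, hl, pr_zpow (hgL i), hgt, map_zpow]
  have hqw : qn K x * qn K x' * (qn K x)⁻¹ * (qn K x')⁻¹ = qn K w := by
    rw [hw, qn_mul (mul_mem (mul_mem hxN hxN') (inv_mem hxN)) (inv_mem hxN'),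
      qn_mul (mul_mem hxN hxN') (inv_mem hxN), qn_mul hxN hxN', qn_inv hxN, qn_inv hxN']
  have hd : ∀ i, ∃ d : ZMod m, (qn K x * qn K x' * (qn K x)⁻¹ * (qn K x')⁻¹) * τ i *
      (qn K x * qn K x' * (qn K x)⁻¹ * (qn K x')⁻¹)⁻¹ = τ i ^ d.val := by
    intro i
    obtain ⟨l, hl⟩ := hwg i
    refine ⟨((l : ℤ) : ZMod m), ?_⟩
    rw [hqw, pw_intCast (hτm i), hτi, ← conj_zpow, hbi, ← qn_conj hwN (hgN i), hl, hbi, ← zpow_mul, ← zpow_mul,
      mul_comm]
  -- the reflections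
  have hax : ∀ i, pr L (g i ^ k i) = φ i t ^ k i := fun i => by rw [pr_zpow (hgL i), hgt]
  have hqx : ∀ i, qn K (g i ^ k i) = τ i := fun i => by rw [qn_zpow (hgN i), hτi, hbi]
  have hrel : Rel (qn K x) (τ 0) (τ 1) (τ 2) := by
    rw [← hqx, ← hqx, ← hqx]
    refine rel_transfer hcore c.xL (zpow_mem (hgL 0) _) (zpow_mem (hgL 1) _) (zpow_mem (hgL 2) _)
      (zpow_mem (hgY 0) _) (zpow_mem (hgY 1) _) (zpow_mem (hgY 2) _) hxY hxN (zpow_mem (hgN 0) _)
      (zpow_mem (hgN 1) _) (zpow_mem (hgN 2) _) ?_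
    rw [hax, hax, hax]
    exact c.rel
  have hgt' : ∀ i, pr L' (g i) = φ' (sw i) t := fun i => (c.comp i _ (hgJ i) t).mp (hgt i)
  have hax' : ∀ (i : Fin 3) (l : ℤ), pr L' (g i ^ l) = φ' (sw i) t ^ l := fun i l => by
    rw [pr_zpow (hgL' i), hgt']
  obtain ⟨r, hr⟩ : ∃ r : Fin 3 → ZMod m, r = fun i => ((k' (sw i) : ℤ) : ZMod m) * q i := ⟨_, rfl⟩
  have hri : ∀ i, r i = ((k' (sw i) : ℤ) : ZMod m) * q i := fun i => by rw [hr]
  have hqx' : ∀ i, qn K (g i ^ k' (sw i)) = τ i ^ (r i).val := by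
    intro i
    rw [qn_zpow (hgN i), ← hbi, hτi]
    have h1 : b i ^ k' (sw i) = b i ^ ((k' (sw i) : ℤ) : ZMod m).val := (pw_intCast (hbm i) _).symm
    have h2 : (b i ^ k i) ^ (r i).val = b i ^ (((k i * ((r i).val : ℤ) : ℤ)) : ZMod m).val := by
      rw [pw_intCast (hbm i), zpow_mul, zpow_natCast]
    rw [h1, h2]
    congr 2
    rw [Int.cast_mul, Int.cast_natCast, ZMod.natCast_zmod_val, hri]
    calc ((k' (sw i) : ℤ) : ZMod m) = (((k i : ℤ) : ZMod m) * q i) * ((k' (sw i) : ℤ) : ZMod m) := by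
          rw [hq, one_mul]
      _ = _ := by ring
  have hrel' : Rel (qn K x') (τ 1 ^ (r 1).val) (τ 0 ^ (r 0).val) (τ 2 ^ (r 2).val) := by
    rw [← hqx', ← hqx', ← hqx']
    refine rel_transfer hcore' c.xL' (zpow_mem (hgL' 1) _) (zpow_mem (hgL' 0) _) (zpow_mem (hgL' 2) _)
      (zpow_mem (hgY 1) _) (zpow_mem (hgY 0) _) (zpow_mem (hgY 2) _) hxY' hxN' (zpow_mem (hgN 1) _)
      (zpow_mem (hgN 0) _) (zpow_mem (hgN 2) _) ?_
    rw [hax', hax', hax']
    exact c.rel'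
  obtain ⟨s0, s1, s2⟩ := hrel
  obtain ⟨t1, t0, t2⟩ := hrel'
  -- one half
  obtain ⟨hf, hhf⟩ : ∃ h : ZMod m, 2 * h = 1 := by
    obtain ⟨l, hl⟩ := hT.odd
    refine ⟨((l + 1 : ℕ) : ZMod m), ?_⟩
    have h1 : ((2 * (l + 1) : ℕ) : ZMod m) = ((m + 1 : ℕ) : ZMod m) := by congr 1; omega
    rw [Nat.cast_mul, Nat.cast_ofNat] at h1
    rw [h1, Nat.cast_add, ZMod.natCast_self, zero_add, Nat.cast_one]
  have hrq : ∀ i, r i * (q' (sw i) * ((k i : ℤ) : ZMod m)) = 1 := by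
    intro i
    rw [hri]
    calc ((k' (sw i) : ℤ) : ZMod m) * q i * (q' (sw i) * ((k i : ℤ) : ZMod m)) =
        (((k' (sw i) : ℤ) : ZMod m) * q' (sw i)) * (((k i : ℤ) : ZMod m) * q i) := by ring
      _ = 1 := by rw [hq, hq', one_mul]
  have hlast := alg hm hτm hτc hind hhf (r := r) (q := fun i => q' (sw i) * ((k i : ℤ) : ZMod m)) hrq
    s0 s1 s2 t1 t0 t2 hd
  -- arithmetic
  obtain ⟨α0, hα0⟩ := c.ex 0
  obtain ⟨α2, hα2⟩ := c.ex 2
  obtain ⟨β1, hβ1⟩ := c.ex' 1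
  obtain ⟨β2, hβ2⟩ := c.ex' 2
  apply hT.arith (β1 * α2) (β2 * α0) (k' 1 * k 2) (k' 2 * k 0)
    (by change β1 (α2 t) = _; rw [hα2, map_zpow, hβ1, ← zpow_mul])
    (by change β2 (α0 t) = _; rw [hα0, map_zpow, hβ2, ← zpow_mul])
  have e0 : r 0 = ((k' 1 : ℤ) : ZMod m) * q 0 := hri 0
  have e2 : r 2 = ((k' 2 : ℤ) : ZMod m) * q 2 := hri 2
  have f0 := hq 0
  have f2 := hq 2
  rw [e0, e2] at hlast
  push_cast
  have g0 : ((k' 2 : ℤ) : ZMod m) * ((k 0 : ℤ) : ZMod m) =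
      ((k' 2 : ℤ) : ZMod m) * q 2 * (((k 0 : ℤ) : ZMod m) * ((k 2 : ℤ) : ZMod m)) := by
    linear_combination (-(((k' 2 : ℤ) : ZMod m) * ((k 0 : ℤ) : ZMod m))) * f2
  have g1 : ((k' 1 : ℤ) : ZMod m) * ((k 2 : ℤ) : ZMod m) =
      ((k' 1 : ℤ) : ZMod m) * q 0 * (((k 0 : ℤ) : ZMod m) * ((k 2 : ℤ) : ZMod m)) := by
    linear_combination (-(((k' 1 : ℤ) : ZMod m) * ((k 2 : ℤ) : ZMod m))) * f0
  rw [g0, g1]
  linear_combination ((((k 0 : ℤ) : ZMod m) * ((k 2 : ℤ) : ZMod m)) ^ 2) * hlast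

end Cfsg.Agent.UGT.U2.Sol
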