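import Cfsg.Agent.UGT.U2.SolLift

/-!
# Solomon's configuration modulo cores: one half

`pr L x` : the image of `x ∈ L` in `L / O(L)`. `Half δ t z H L u v J Γ` : `L` is a 2-component of `C_H(u)`,
`u v ∈ L`, `J 0 ∋ u`, `J 1 ∋ v`, `J 2 ∋ u v` 2-components of `C_L(v)`, and `L / O(L)` has the property `SP`.
-/

set_option autoImplicit false

open Cfsg Subgroup
open Cfsg.Agent.SignalizersComponents Cfsg.Agent.Lib
open Cfsg.Agent.SignalizersComponents.IntrinsicBasic
open Cfsg.Agent.Intrinsic.Basic Cfsg.Agent.Intrinsic.Cen Cfsg.Agent.Intrinsic.Quot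
open Cfsg.Agent.McLLyComp.Act
open Cfsg.Agent.OddHalf.NI.Sol
open scoped commutatorElement

namespace Cfsg.Agent.UGT.U2.Sol

variable {G : Type*} [Group G]

open Classical in
/-- the image in `L / O(L)` -/
noncomputable def pr (L : Subgroup G) (x : G) : ↥L ⧸ oddCore ↥L :=
  if hx : x ∈ L then QuotientGroup.mk ⟨x, hx⟩ else 1

section pr

variable {L : Subgroup G} {x y : G}

theorem pr_mem (hx : x ∈ L) : pr L x = QuotientGroup.mk ⟨x, hx⟩ := by
  unfold pr; rw [dif_pos hx]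

theorem pr_mul (hx : x ∈ L) (hy : y ∈ L) : pr L (x * y) = pr L x * pr L y := by
  rw [pr_mem hx, pr_mem hy, pr_mem (mul_mem hx hy)]; rfl

theorem pr_one : pr L 1 = 1 := by rw [pr_mem (one_mem L)]; rfl

theorem pr_inv (hx : x ∈ L) : pr L x⁻¹ = (pr L x)⁻¹ := by
  rw [pr_mem hx, pr_mem (inv_mem hx)]; rfl

theorem pr_zpow (hx : x ∈ L) (k : ℤ) : pr L (x ^ k) = pr L x ^ k := by
  rw [pr_mem hx, pr_mem (zpow_mem hx k)]; rfl

theorem pr_pow (hx : x ∈ L) (k : ℕ) : pr L (x ^ k) = pr L x ^ k := by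
  rw [pr_mem hx, pr_mem (pow_mem hx k)]; rfl

theorem pr_eq_iff (hx : x ∈ L) (hy : y ∈ L) : pr L x = pr L y ↔ x⁻¹ * y ∈ core L := by
  rw [pr_mem hx, pr_mem hy]; exact mk_eq_iff hx hy

theorem pr_eq_one_iff (hx : x ∈ L) : pr L x = 1 ↔ x ∈ core L := by
  rw [pr_mem hx]; exact McLLyComp.Act.mk_eq_one_iff hx

theorem pr_surj (b : ↥L ⧸ oddCore ↥L) : ∃ x ∈ L, pr L x = b := by
  obtain ⟨⟨x, hx⟩, rfl⟩ := QuotientGroup.mk_surjective b
  exact ⟨x, hx, pr_mem hx⟩

theorem pr_act {g : G} (hg : g ∈ normalizer (L : Set G)) (hx : x ∈ L) :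
    act L ⟨g, hg⟩ (pr L x) = pr L (g * x * g⁻¹) := by
  rw [pr_mem hx, pr_mem (McLLyComp.Act.conj_mem hg hx), act_mk]

theorem pr_mem_qs {J : Subgroup G} (hJ : J ≤ L) (hx : x ∈ J) : pr L x ∈ qs L J := by
  rw [pr_mem (hJ hx)]
  exact mk_mem_qs (hJ hx) hx

theorem exists_of_mem_qs {J : Subgroup G} {b : ↥L ⧸ oddCore ↥L} (hb : b ∈ qs L J) :
    ∃ j ∈ J, j ∈ L ∧ pr L j = b := by
  obtain ⟨j, hj, rfl⟩ := hb
  exact ⟨j, hj, j.2, pr_mem j.2⟩

/-- two elements with the same image -/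
theorem pr_eq_of_core {c : G} (hc : c ∈ core L) (hx : x ∈ L) : pr L (c * x) = pr L x := by
  rw [pr_mul (core_le L hc) hx, (pr_eq_one_iff (core_le L hc)).mpr hc, one_mul]

end pr

/-- `g` normalizes `L` and is trivial on `Γ` -/
def Tri (L : Subgroup G) (Γ : Subgroup (↥L ⧸ oddCore ↥L)) (g : G) : Prop :=
  g ∈ normalizer (L : Set G) ∧ ∀ x ∈ L, pr L x ∈ Γ → pr L (g * x * g⁻¹) = pr L x

theorem Tri.mul {L : Subgroup G} {Γ : Subgroup (↥L ⧸ oddCore ↥L)} {g k : G} (hg : Tri L Γ g) (hk : Tri L Γ k) :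
    Tri L Γ (g * k) := by
  refine ⟨mul_mem hg.1 hk.1, fun x hx hxΓ => ?_⟩
  have h1 := hk.2 x hx hxΓ
  have hkx : k * x * k⁻¹ ∈ L := McLLyComp.Act.conj_mem hk.1 hx
  have h2 := hg.2 (k * x * k⁻¹) hkx (by rw [h1]; exact hxΓ)
  rw [← h1, ← h2]
  congr 1
  group

theorem Tri.one (L : Subgroup G) (Γ : Subgroup (↥L ⧸ oddCore ↥L)) : Tri L Γ 1 :=
  ⟨one_mem _, fun x _ _ => by rw [one_mul, inv_one, mul_one]⟩

theorem Tri.pow {L : Subgroup G} {Γ : Subgroup (↥L ⧸ oddCore ↥L)} {g : G} (hg : Tri L Γ g) (k : ℕ) :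
    Tri L Γ (g ^ k) := by
  induction k with
  | zero => rw [pow_zero]; exact Tri.one L Γ
  | succ k ih => rw [pow_succ]; exact ih.mul hg

/-- `g x g⁻¹ x⁻¹ ∈ O(L)` -/
theorem Tri.comm {L : Subgroup G} {Γ : Subgroup (↥L ⧸ oddCore ↥L)} {g x : G} (hg : Tri L Γ g) (hx : x ∈ L)
    (hxΓ : pr L x ∈ Γ) : g * x * g⁻¹ * x⁻¹ ∈ core L := by
  have h1 := hg.2 x hx hxΓ
  have hgx : g * x * g⁻¹ ∈ L := McLLyComp.Act.conj_mem hg.1 hx
  rw [← pr_eq_one_iff (mul_mem hgx (inv_mem hx)), pr_mul hgx (inv_mem hx), pr_inv hx, h1, mul_inv_cancel]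

variable {S : Type*} [Group S]

/-- one half of Solomon's configuration in the subgroup `H` -/
structure Half (δ : MulAut S) (t z : S) (H L : Subgroup G) (u v : G) (J : Fin 3 → Subgroup G)
    (Γ : Subgroup (↥L ⧸ oddCore ↥L)) : Prop where
  comp : IsComp (H ⊓ centralizer ({u} : Set G)) L
  hu : u ∈ H
  hv : v ∈ H
  uu : u * u = 1
  vv : v * v = 1
  uv : u * v = v * u
  Jc : ∀ i, IsComp (L ⊓ centralizer ({v} : Set G)) (J i)
  m0 : u ∈ J 0
  m1 : v ∈ J 1
  m2 : u * v ∈ J 2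
  sp : SP δ t z (pr L u) (pr L v) (fun i => qs L (J i)) Γ

/-- `C_H(u, v)` -/
def CV (H : Subgroup G) (u v : G) : Subgroup G :=
  H ⊓ centralizer ({u} : Set G) ⊓ centralizer ({v} : Set G)

theorem mem_CV {H : Subgroup G} {u v g : G} : g ∈ CV H u v ↔ g ∈ H ∧ g * u = u * g ∧ g * v = v * g := by
  unfold CV
  rw [mem_inf, mem_inf, mem_centralizer_singleton_iff, mem_centralizer_singleton_iff, and_assoc]

theorem CV_comm (H : Subgroup G) (u v : G) : CV H v u = CV H u v := by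
  ext g
  rw [mem_CV, mem_CV]
  tauto

variable {δ : MulAut S} {t n z : S} {H L : Subgroup G} {u v : G} {J : Fin 3 → Subgroup G}
  {Γ : Subgroup (↥L ⧸ oddCore ↥L)} {m : ℕ}

namespace Half

theorem jle (h : Half δ t z H L u v J Γ) (i : Fin 3) : J i ≤ L := (h.Jc i).le.trans inf_le_left

theorem uL (h : Half δ t z H L u v J Γ) : u ∈ L := h.jle 0 h.m0

theorem vL (h : Half δ t z H L u v J Γ) : v ∈ L := h.jle 1 h.m1

theorem pv (h : Half δ t z H L u v J Γ) : pr L v * pr L v = 1 := by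
  rw [← pr_mul h.vL h.vL, h.vv, pr_one]

theorem le_cu (h : Half δ t z H L u v J Γ) {x : G} (hx : x ∈ L) : x * u = u * x :=
  mem_centralizer_singleton_iff.mp (h.comp.le hx).2

theorem le_H (h : Half δ t z H L u v J Γ) : L ≤ H := h.comp.le.trans inf_le_left

/-- `J i` is a 2-component of `C_H(u, v)` -/
theorem jcv [Finite G] (h : Half δ t z H L u v J Γ) (i : Fin 3) : IsComp (CV H u v) (J i) :=
  isComp_of_inf h.comp (h.Jc i)

theorem jle_cv [Finite G] (h : Half δ t z H L u v J Γ) (i : Fin 3) : J i ≤ CV H u v := (h.jcv i).le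

/-- an element of `C(u, v)` normalizing one of the `J i` normalizes `L` -/
theorem nrm [Finite G] (h : Half δ t z H L u v J Γ) {g : G} (hg : g ∈ CV H u v) {i : Fin 3}
    (hgJ : g ∈ normalizer (J i : Set G)) : g ∈ normalizer (L : Set G) := by
  have h1 : IsComp (cj g (H ⊓ centralizer ({u} : Set G))) (cj g L) := h.comp.cj g
  rw [cj_eq_self_of_mem (show g ∈ H ⊓ centralizer ({u} : Set G) from hg.1)] at h1
  have h2 : J i ≤ cj g L := by
    have h3 : cj g (J i) = J i := mem_normalizer_iff_cj.mp hgJ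
    rw [← h3]
    exact cj_mono (h.jle i)
  rw [mem_normalizer_iff_cj]
  exact (h.Jc i).unique h1 h.comp h2 (h.jle i)

/-- `O(L) ⊓ C(v)` fixes the `J i` -/
theorem fixes_of_core [Finite G] (h : Half δ t z H L u v J Γ) {o : G} (ho : o ∈ core L) (hov : o * v = v * o)
    (i : Fin 3) : Fixes o (J i) := by
  have h1 : core L ⊓ centralizer ({v} : Set G) ≤ core (L ⊓ centralizer ({v} : Set G)) := by
    refine le_core (inf_le_inf_right _ (core_le L)) ?_ ?_
    · intro g hg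
      have h2 : g ∈ normalizer (core L : Set G) := le_normalizer_core _ hg.1
      have h3 : g ∈ normalizer (centralizer ({v} : Set G) : Set G) := le_normalizer hg.2
      rw [mem_normalizer_iff]
      intro y
      rw [mem_inf, mem_inf]
      exact and_congr (mem_normalizer_iff.mp h2 y) (mem_normalizer_iff.mp h3 y)
    · exact Odd.of_dvd_nat (odd_card_core L) (card_dvd_of_le inf_le_left)
  exact (h.Jc i).fixes_of_core (h1 ⟨ho, mem_centralizer_singleton_iff.mpr hov⟩)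

/-- an element of `C(u, v)` normalizing `L` and the image of `J i` normalizes `J i` -/
theorem nrm_J [Finite G] (h : Half δ t z H L u v J Γ) {g : G} (hg : g ∈ CV H u v)
    (hgL : g ∈ normalizer (L : Set G)) {i : Fin 3} (hA : ∀ x ∈ J i, pr L (g * x * g⁻¹) ∈ qs L (J i)) :
    g ∈ normalizer (J i : Set G) := by
  have hgv : cj g (centralizer ({v} : Set G)) = centralizer ({v} : Set G) :=
    cj_eq_self_of_mem (show g ∈ centralizer ({v} : Set G) from hg.2)
  have h1 : IsComp (L ⊓ centralizer ({v} : Set G)) (cj g (J i)) := by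
    have h2 := (h.Jc i).cj g
    rw [cj_inf, mem_normalizer_iff_cj.mp hgL, hgv] at h2
    exact h2
  rw [mem_normalizer_iff_cj]
  refine h1.eq_of_le (h.Jc i) (h1.le_of_two fun k hk n hn => ?_)
  have hk' := h1.le hk
  refine mem_of_mk_mem h.vL h.vv (h.Jc i) hk'.1 hk'.2 hn ?_
  have h3 := hA _ (mem_cj.mp hk)
  have h4 : g * (g⁻¹ * k * g) * g⁻¹ = k := by group
  rw [h4, pr_mem hk'.1] at h3
  exact h3

end Half

/-- normal subgroups of odd order are trivial -/
def CoreFree (S : Type*) [Group S] : Prop := ∀ N : Subgroup S, N.Normal → Odd (Nat.card N) → N = ⊥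

namespace Half

theorem core_le' [Finite G] (hS : CoreFree S) (h : Half δ t z H L u v J Γ) (i : Fin 3) :
    core (J i) ≤ core L := by
  obtain ⟨φ, hφ⟩ := h.sp.iso
  have hinj := (hφ i).1
  have hr : (φ i).range = qs L (J i) := (hφ i).2
  let N : Subgroup S := (qs L (core (J i))).comap (φ i)
  have hN : N.Normal := by
    refine ⟨fun a ha s => ?_⟩
    obtain ⟨x, hx, hxL, hxa⟩ := exists_of_mem_qs (mem_comap.mp ha)
    obtain ⟨j, hj, hjL, hjs⟩ := exists_of_mem_qs (J := J i) (b := φ i s) (by rw [← hr]; exact ⟨s, rfl⟩)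
    change φ i (s * a * s⁻¹) ∈ qs L (core (J i))
    rw [map_mul, map_mul, map_inv, ← hxa, ← hjs, ← pr_inv hjL, ← pr_mul hjL hxL,
      ← pr_mul (mul_mem hjL hxL) (inv_mem hjL)]
    exact pr_mem_qs ((core_le _).trans (h.jle i)) (conj_mem_core (le_normalizer hj) hx)
  have hodd : Odd (Nat.card N) := by
    have h1 : Nat.card (N.map (φ i)) = Nat.card N := card_map_of_injective hinj
    have h2 : Nat.card (N.map (φ i)) ∣ Nat.card (qs L (core (J i))) :=
      card_dvd_of_le (map_comap_le _ _)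
    have h3 : Nat.card (qs L (core (J i))) ∣ Nat.card ((core (J i)).subgroupOf L) := card_map_dvd _ _
    have h4 : Nat.card ((core (J i)).subgroupOf L) = Nat.card (core (J i)) := by
      refine Nat.card_congr (subgroupOfEquivOfLe ((core_le _).trans (h.jle i))).toEquiv
    rw [← h1]
    refine Odd.of_dvd_nat (odd_card_core (J i)) ?_
    rw [← h4]
    exact h2.trans h3
  have hbot := hS N hN hodd
  intro x hx
  have hxL : x ∈ L := h.jle i (core_le _ hx)
  rw [← pr_eq_one_iff hxL]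
  have h1 : pr L x ∈ (φ i).range := by
    rw [hr]; exact pr_mem_qs (h.jle i) (core_le _ hx)
  obtain ⟨s, hs⟩ := h1
  have h2 : s ∈ N := by
    change φ i s ∈ qs L (core (J i))
    rw [hs]
    exact pr_mem_qs ((core_le _).trans (h.jle i)) hx
  rw [hbot, mem_bot] at h2
  rw [← hs, h2, map_one]

theorem core_eq [Finite G] (hS : CoreFree S) (h : Half δ t z H L u v J Γ) {i : Fin 3} {x : G} (hx : x ∈ J i) :
    x ∈ core (J i) ↔ x ∈ core L := by
  refine ⟨fun h1 => h.core_le' hS i h1, fun h1 => ?_⟩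
  have h2 : J i ⊓ core L ≤ core (J i) := by
    refine le_core inf_le_left ?_ ?_
    · intro g hg
      have h2 : g ∈ normalizer (core L : Set G) := le_normalizer_core _ (h.jle i hg)
      have h3 : g ∈ normalizer (J i : Set G) := le_normalizer hg
      rw [mem_normalizer_iff]
      intro y
      rw [mem_inf, mem_inf]
      exact and_congr (mem_normalizer_iff.mp h3 y) (mem_normalizer_iff.mp h2 y)
    · exact Odd.of_dvd_nat (odd_card_core L) (card_dvd_of_le inf_le_right)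
  exact h2 ⟨hx, h1⟩

/-- an element normalizing `J i` which is trivial modulo `O(L)` fixes `J i` -/
theorem fixes_of [Finite G] (hS : CoreFree S) (h : Half δ t z H L u v J Γ) {g : G} {i : Fin 3}
    (hgJ : g ∈ normalizer (J i : Set G)) (hA : ∀ x ∈ J i, pr L (g * x * g⁻¹) = pr L x) : Fixes g (J i) := by
  refine ⟨hgJ, fun x hx => ?_⟩
  have h1 : g * x * g⁻¹ ∈ J i := McLLyComp.Act.conj_mem hgJ hx
  rw [commutatorElement_def, h.core_eq hS (mul_mem h1 (inv_mem hx)),
    ← pr_eq_one_iff (h.jle i (mul_mem h1 (inv_mem hx))), pr_mul (h.jle i h1) (inv_mem (h.jle i hx)),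
    pr_inv (h.jle i hx), hA x hx, mul_inv_cancel]

theorem pr_of_fixes [Finite G] (hS : CoreFree S) (h : Half δ t z H L u v J Γ) {g : G} {i : Fin 3}
    (hf : Fixes g (J i)) {x : G} (hx : x ∈ J i) : pr L (g * x * g⁻¹) = pr L x := by
  have h1 : g * x * g⁻¹ ∈ J i := McLLyComp.Act.conj_mem hf.1 hx
  have h2 := h.core_le' hS i (hf.2 x hx)
  rw [commutatorElement_def, ← pr_eq_one_iff (h.jle i (mul_mem h1 (inv_mem hx))),
    pr_mul (h.jle i h1) (inv_mem (h.jle i hx)), pr_inv (h.jle i hx), mul_inv_eq_one] at h2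
  exact h2

/-- rigidity -/
theorem triv_or [Finite G] (hS : CoreFree S) (h : Half δ t z H L u v J Γ) {g : G} (hg : g ∈ CV H u v)
    (hf : ∀ i, Fixes g (J i)) : Tri L Γ g ∨ Tri L Γ (v * g) := by
  have hgL := h.nrm hg (hf 0).1
  have hgv : g * v = v * g := (mem_CV.mp hg).2.2
  have hvL : v ∈ normalizer (L : Set G) := le_normalizer h.vL
  rcases h.sp.aut (act L ⟨g, hgL⟩) (fun i a ha => by
    obtain ⟨x, hx, hxL, rfl⟩ := exists_of_mem_qs ha
    rw [pr_act hgL hxL, h.pr_of_fixes hS (hf i) hx]) with h1 | h1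
  · left
    refine ⟨hgL, fun x hx hxΓ => ?_⟩
    rw [← pr_act hgL hx]
    exact h1 _ hxΓ
  · right
    refine ⟨mul_mem hvL hgL, fun x hx hxΓ => ?_⟩
    have h2 : g * x * g⁻¹ ∈ L := McLLyComp.Act.conj_mem hgL hx
    have h3 : v * g * x * (v * g)⁻¹ = v * (g * x * g⁻¹) * v⁻¹ := by group
    rw [h3, pr_mul (mul_mem h.vL h2) (inv_mem h.vL), pr_mul h.vL h2, pr_inv h.vL, ← pr_act hgL hx,
      h1 _ hxΓ]
    have h4 := h.pv
    have h5 : (pr L v)⁻¹ = pr L v := inv_eq_of_mul_eq_one_right h4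
    rw [h5]
    calc pr L v * (pr L v * pr L x * pr L v) * pr L v = (pr L v * pr L v) * pr L x * (pr L v * pr L v) := by group
      _ = pr L x := by rw [h4]; group

theorem triv_odd [Finite G] (hS : CoreFree S) (h : Half δ t z H L u v J Γ) {g : G} (hg : g ∈ CV H u v)
    (hf : ∀ i, Fixes g (J i)) (hodd : Odd (orderOf g)) : Tri L Γ g := by
  rcases h.triv_or hS hg hf with h1 | h1
  · exact h1
  · have hgv : g * v = v * g := (mem_CV.mp hg).2.2
    have h2 := h1.mul h1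
    have h3 : v * g * (v * g) = g ^ 2 := by
      calc v * g * (v * g) = v * (g * v) * g := by group
        _ = (v * v) * (g * g) := by rw [hgv]; group
        _ = g ^ 2 := by rw [h.vv, one_mul, pow_two]
    rw [h3] at h2
    obtain ⟨k, hk⟩ := hodd
    have h4 := h2.pow (k + 1)
    have h5 : (g ^ 2) ^ (k + 1) = g := by
      rw [← pow_mul, show 2 * (k + 1) = (2 * k + 1) + 1 by ring, pow_succ, ← hk, pow_orderOf_eq_one, one_mul]
    rwa [h5] at h4

end Half

end Cfsg.Agent.UGT.U2.Sol
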