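import Cfsg.Agent.UGT.U2.SolSec

/-!
# Solomon's configuration modulo cores: the kill

`Half.kill` : two halves (with the roles of `u` and `v` interchanged) do not exist.
-/

set_option autoImplicit false

open Cfsg Subgroup
open Cfsg.Agent.SignalizersComponents Cfsg.Agent.Lib
open Cfsg.Agent.SignalizersComponents.IntrinsicBasic
open Cfsg.Agent.Intrinsic.Basic Cfsg.Agent.Intrinsic.Cen Cfsg.Agent.Intrinsic.Quot
open Cfsg.Agent.McLLyComp.Act
open Cfsg.Agent.OddHalf.NI.Sol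
open scoped commutatorElement

namespace Cfsg.Agent.UGT.U2.Sol

variable {G : Type*} [Group G]

open Classical in
/-- the image in `N(K) / K` -/
noncomputable def qn (K : Subgroup G) (g : G) :
    ↥(normalizer (K : Set G)) ⧸ K.subgroupOf (normalizer (K : Set G)) :=
  if hg : g ∈ normalizer (K : Set G) then QuotientGroup.mk ⟨g, hg⟩ else 1

section qn

variable {K : Subgroup G} {a b : G}

theorem qn_mem (ha : a ∈ normalizer (K : Set G)) : qn K a = QuotientGroup.mk ⟨a, ha⟩ := by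
  unfold qn; rw [dif_pos ha]

theorem qn_mul (ha : a ∈ normalizer (K : Set G)) (hb : b ∈ normalizer (K : Set G)) :
    qn K (a * b) = qn K a * qn K b := by
  rw [qn_mem ha, qn_mem hb, qn_mem (mul_mem ha hb)]; rfl

theorem qn_inv (ha : a ∈ normalizer (K : Set G)) : qn K a⁻¹ = (qn K a)⁻¹ := by
  rw [qn_mem ha, qn_mem (inv_mem ha)]; rfl

theorem qn_zpow (ha : a ∈ normalizer (K : Set G)) (k : ℤ) : qn K (a ^ k) = qn K a ^ k := by
  rw [qn_mem ha, qn_mem (zpow_mem ha k)]; rfl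

theorem qn_pow (ha : a ∈ normalizer (K : Set G)) (k : ℕ) : qn K (a ^ k) = qn K a ^ k := by
  rw [qn_mem ha, qn_mem (pow_mem ha k)]; rfl

theorem qn_eq (ha : a ∈ normalizer (K : Set G)) (hb : b ∈ normalizer (K : Set G)) :
    qn K a = qn K b ↔ a⁻¹ * b ∈ K := by
  rw [qn_mem ha, qn_mem hb, QuotientGroup.eq, mem_subgroupOf]
  rfl

theorem qn_one (ha : a ∈ normalizer (K : Set G)) : qn K a = 1 ↔ a ∈ K := by
  rw [qn_mem ha, QuotientGroup.eq_one_iff, mem_subgroupOf]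

theorem qn_conj (ha : a ∈ normalizer (K : Set G)) (hb : b ∈ normalizer (K : Set G)) :
    qn K (a * b * a⁻¹) = qn K a * qn K b * (qn K a)⁻¹ := by
  rw [qn_mul (mul_mem ha hb) (inv_mem ha), qn_mul ha hb, qn_inv ha]

end qn

/-- transfer of the relations of a reflection to `N(K) / K` -/
theorem rel_transfer {L K Y : Subgroup G} (hcore : ∀ o ∈ core L, o ∈ Y → o ∈ K) {x a b c : G}
    (hx : x ∈ L) (ha : a ∈ L) (hb : b ∈ L) (hc : c ∈ L) (haY : a ∈ Y) (hbY : b ∈ Y) (hcY : c ∈ Y)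
    (hxY : x ∈ normalizer (Y : Set G)) (hxK : x ∈ normalizer (K : Set G)) (haK : a ∈ normalizer (K : Set G))
    (hbK : b ∈ normalizer (K : Set G)) (hcK : c ∈ normalizer (K : Set G))
    (h : Rel (pr L x) (pr L a) (pr L b) (pr L c)) : Rel (qn K x) (qn K a) (qn K b) (qn K c) := by
  have key : ∀ p q : G, p ∈ L → q ∈ L → p ∈ Y → q ∈ Y → p ∈ normalizer (K : Set G) →
      q ∈ normalizer (K : Set G) → pr L (x * p * x⁻¹) = pr L q → qn K x * qn K p * (qn K x)⁻¹ = qn K q := by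
    intro p q hp hq hpY hqY hpK hqK hpq
    have h1 : x * p * x⁻¹ ∈ L := mul_mem (mul_mem hx hp) (inv_mem hx)
    have h2 : x * p * x⁻¹ ∈ Y := (mem_normalizer_iff.mp hxY p).mp hpY
    rw [← qn_conj hxK hpK, qn_eq (mul_mem (mul_mem hxK hpK) (inv_mem hxK)) hqK]
    exact hcore _ ((pr_eq_iff h1 hq).mp hpq) (mul_mem (inv_mem h2) hqY)
  have hconj : ∀ p ∈ L, pr L (x * p * x⁻¹) = pr L x * pr L p * (pr L x)⁻¹ := by
    intro p hp
    rw [pr_mul (mul_mem hx hp) (inv_mem hx), pr_mul hx hp, pr_inv hx]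
  obtain ⟨h1, h2, h3⟩ := h
  refine ⟨?_, ?_, ?_⟩
  · rw [key a (b⁻¹ * c⁻¹) ha (mul_mem (inv_mem hb) (inv_mem hc)) haY (mul_mem (inv_mem hbY) (inv_mem hcY)) haK
      (mul_mem (inv_mem hbK) (inv_mem hcK)) (by
        rw [hconj a ha, h1, pr_mul (inv_mem hb) (inv_mem hc), pr_inv hb, pr_inv hc]),
      qn_mul (inv_mem hbK) (inv_mem hcK), qn_inv hbK, qn_inv hcK]
  · rw [← qn_mul hbK hbK, key (b * b) (a⁻¹ * b * c⁻¹) (mul_mem hb hb) (mul_mem (mul_mem (inv_mem ha) hb) (inv_mem hc))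
      (mul_mem hbY hbY) (mul_mem (mul_mem (inv_mem haY) hbY) (inv_mem hcY)) (mul_mem hbK hbK)
      (mul_mem (mul_mem (inv_mem haK) hbK) (inv_mem hcK)) (by
        rw [hconj _ (mul_mem hb hb), pr_mul hb hb, h2, pr_mul (mul_mem (inv_mem ha) hb) (inv_mem hc),
          pr_mul (inv_mem ha) hb, pr_inv ha, pr_inv hc]),
      qn_mul (mul_mem (inv_mem haK) hbK) (inv_mem hcK), qn_mul (inv_mem haK) hbK, qn_inv haK, qn_inv hcK]
  · rw [← qn_mul hcK hcK, key (c * c) (a⁻¹ * b⁻¹ * c) (mul_mem hc hc) (mul_mem (mul_mem (inv_mem ha) (inv_mem hb)) hc)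
      (mul_mem hcY hcY) (mul_mem (mul_mem (inv_mem haY) (inv_mem hbY)) hcY) (mul_mem hcK hcK)
      (mul_mem (mul_mem (inv_mem haK) (inv_mem hbK)) hcK) (by
        rw [hconj _ (mul_mem hc hc), pr_mul hc hc, h3, pr_mul (mul_mem (inv_mem ha) (inv_mem hb)) hc,
          pr_mul (inv_mem ha) (inv_mem hb), pr_inv ha, pr_inv hb]),
      qn_mul (mul_mem (inv_mem haK) (inv_mem hbK)) hcK, qn_mul (inv_mem haK) (inv_mem hbK), qn_inv haK, qn_inv hbK]

variable {S : Type*} [Group S]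
variable {δ : MulAut S} {t n z : S} {H L L' : Subgroup G} {u v : G} {J : Fin 3 → Subgroup G}
  {Γ : Subgroup (↥L ⧸ oddCore ↥L)} {Γ' : Subgroup (↥L' ⧸ oddCore ↥L')} {m : ℕ}
  {φ : Fin 3 → S →* (↥L ⧸ oddCore ↥L)} {φ' : Fin 3 → S →* (↥L' ⧸ oddCore ↥L')} {e e' y x x' : G}
  {k k' : Fin 3 → ℤ}

/-- elements of `J i ⊓ CS` lie over `δ`-fixed elements -/
theorem Cfg.fixd (c : Cfg δ t H L L' u v J Γ Γ' φ φ' e e' y x x' k k') {i : Fin 3} {a : G} (ha : a ∈ J i)
    (hae : a * e = e * a) {s : S} (has : pr L a = φ i s) : δ s = s := by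
  have h2 := (c.act i).2 a ha s has
  have h3 : e * a * e⁻¹ = a := by rw [← hae, mul_inv_cancel_right]
  rw [h3, has] at h2
  exact ((c.iso i).1 h2).symm

/-- the commutator `[x, x']` centralizes `u, v, e, y` -/
theorem Cfg.comm_CS [Finite G] (h : Half δ t z H L u v J Γ) (h' : Half δ t z H L' v u (fun i => J (sw i)) Γ')
    (c : Cfg δ t H L L' u v J Γ Γ' φ φ' e e' y x x' k k') : x * x' * x⁻¹ * x'⁻¹ ∈ CS H u v e y := by
  obtain ⟨q, hq⟩ : ∃ q, q = x * x' * x⁻¹ * x'⁻¹ := ⟨_, rfl⟩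
  have hxH : x ∈ H := h.le_H c.xL
  have hxH' : x' ∈ H := h'.le_H c.xL'
  have cj : ∀ {a b : G}, a * b = b * a → a * b * a⁻¹ = b := by
    intro a b h1
    rw [h1, mul_inv_cancel_right]
  have key : ∀ a b : G, x * (x' * a * x'⁻¹) * x⁻¹ = b → x' * (x * a * x⁻¹) * x'⁻¹ = b → q * b = b * q := by
    intro a b h1 h2
    have h3 : q * b * q⁻¹ = b := by
      calc q * b * q⁻¹ = q * (x' * (x * a * x⁻¹) * x'⁻¹) * q⁻¹ := by rw [h2]
        _ = x * (x' * a * x'⁻¹) * x⁻¹ := by rw [hq]; group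
        _ = b := h1
    calc q * b = q * b * q⁻¹ * q := by group
      _ = b * q := by rw [h3]
  have ce : Commute q e := key e e (by rw [cj c.xe', cj c.xe]) (by rw [cj c.xe, cj c.xe'])
  have cy : Commute q y := key y y (by rw [cj c.xy', cj c.xy]) (by rw [cj c.xy, cj c.xy'])
  have cve : Commute q (v * e) := by
    refine key v (v * e) ?_ ?_
    · rw [cj c.xv', c.xv]
    · rw [c.xv]
      calc x' * (v * e) * x'⁻¹ = (x' * v * x'⁻¹) * (x' * e * x'⁻¹) := by group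
        _ = v * e := by rw [cj c.xv', cj c.xe']
  have cue : Commute q (u * e') := by
    refine key u (u * e') ?_ ?_
    · rw [c.xu', c.e'_def]
      calc x * (u * (y * e)) * x⁻¹ = (x * u * x⁻¹) * (x * y * x⁻¹) * (x * e * x⁻¹) := by group
        _ = u * (y * e) := by rw [cj c.xu, cj c.xy, cj c.xe]; group
    · rw [cj c.xu, c.xu']
  have cv : Commute q v := by
    have h1 := cve.mul_right ce.inv_right
    rwa [mul_inv_cancel_right] at h1
  have cu : Commute q u := by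
    have h0 : Commute q e' := by rw [c.e'_def]; exact cy.mul_right ce
    have h1 := cue.mul_right h0.inv_right
    rwa [mul_inv_cancel_right] at h1
  rw [← hq, mem_CS]
  refine ⟨?_, cu, cv, ce, cy⟩
  rw [hq]
  exact mul_mem (mul_mem (mul_mem hxH hxH') (inv_mem hxH)) (inv_mem hxH')

/-- the involutions of the `J i` -/
theorem zz_distinct (hT : Tor δ t n z m) (h : Half δ t z H L u v J Γ)
    {φ : Fin 3 → S →* (↥L ⧸ oddCore ↥L)} (hφ : Isos φ (fun i => qs L (J i))) {i j : Fin 3}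
    (hij : φ i z = φ j z) : i = j := by
  obtain ⟨h0, h1, h2⟩ := h.sp.zi φ hφ
  have hne : ∀ i, φ i z ≠ 1 := by
    intro i hi
    apply hT.z1
    apply (hφ i).1
    rw [hi, map_one]
  have hsq : ∀ i, φ i z * φ i z = 1 := by
    intro i
    rw [← map_mul, hT.zz, map_one]
  by_contra hne'
  have key : φ 0 z * φ 1 z = φ 2 z := by rw [h0, h1, h2]
  fin_cases i <;> fin_cases j
  · exact hne' rfl
  · have h3 : φ 0 z = φ 1 z := hij
    rw [h3, hsq] at key
    exact hne 2 key.symm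
  · have h3 : φ 0 z = φ 2 z := hij
    rw [← h3] at key
    exact hne 1 (mul_eq_left.mp key)
  · have h3 : φ 1 z = φ 0 z := hij
    rw [← h3, hsq] at key
    exact hne 2 key.symm
  · exact hne' rfl
  · have h3 : φ 1 z = φ 2 z := hij
    rw [← h3] at key
    exact hne 0 (mul_eq_right.mp key)
  · have h3 : φ 2 z = φ 0 z := hij
    rw [h3] at key
    exact hne 1 (mul_eq_left.mp key)
  · have h3 : φ 2 z = φ 1 z := hij
    rw [h3] at key
    exact hne 0 (mul_eq_right.mp key)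
  · exact hne' rfl

/-- the involution of `J i` -/
theorem exists_zz (h : Half δ t z H L u v J Γ)
    {φ : Fin 3 → S →* (↥L ⧸ oddCore ↥L)} (hφ : Isos φ (fun i => qs L (J i))) (i : Fin 3) :
    ∃ w ∈ J i, pr L w = φ i z ∧ ∀ a, a * u = u * a → a * v = v * a → a * w = w * a := by
  obtain ⟨h0, h1, h2⟩ := h.sp.zi φ hφ
  fin_cases i
  · exact ⟨u, h.m0, h0.symm, fun a ha _ => ha⟩
  · exact ⟨v, h.m1, h1.symm, fun a _ ha => ha⟩
  · refine ⟨u * v, h.m2, ?_, fun a ha hb => ?_⟩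
    · rw [pr_mul h.uL h.vL]; exact h2.symm
    · exact ((show Commute a u from ha).mul_right (show Commute a v from hb)).eq

end Cfsg.Agent.UGT.U2.Sol
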