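import Cfsg.Agent.Cit.AutAct
import Cfsg.Agent.UGT.U2.Pump
import Cfsg.Agent.UGT.U2.SolDat

/-!
# Solomon's configuration modulo cores: lifting

`exists_lift_conj`: `s` acts on the 2-group `P` modulo the odd group `N` (normalised by `s` and `P`): after
multiplication of `s` by an element of `N` it acts on `P`.
-/

set_option autoImplicit false

open Cfsg Subgroup
open Cfsg.Agent.SignalizersComponents Cfsg.Agent.Lib
open Cfsg.Agent.SignalizersComponents.IntrinsicBasic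
open Cfsg.Agent.Intrinsic.Basic Cfsg.Agent.Intrinsic.Cen Cfsg.Agent.Intrinsic.Quot
open scoped commutatorElement

namespace Cfsg.Agent.UGT.U2.Sol

variable {G : Type*} [Group G] [Finite G]

omit [Finite G] in
theorem card_cj (g : G) (K : Subgroup G) : Nat.card (cj g K) = Nat.card K :=
  card_map_of_injective (MulAut.conj g).injective

omit [Finite G] in
theorem eq_one_of_two_odd {N P : Subgroup G} (hN : Odd (Nat.card N)) (hP : IsPGroup 2 ↥P) {x : G} (hx : x ∈ N)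
    (hxP : x ∈ P) : x = 1 := by
  have h2 : Fact (Nat.Prime 2) := ⟨Nat.prime_two⟩
  obtain ⟨k, hk⟩ := hP ⟨x, hxP⟩
  have h3 : x ^ 2 ^ k = 1 := congrArg Subtype.val hk
  have h4 : orderOf x ∣ 2 ^ k := orderOf_dvd_of_pow_eq_one h3
  have h5 : orderOf x ∣ Nat.card N := by
    rw [← Subgroup.orderOf_mk x hx]
    exact orderOf_dvd_natCard _
  have h6 : Nat.Coprime (2 ^ k) (Nat.card N) := Nat.Coprime.pow_left k (Nat.coprime_two_left.mpr hN)
  have h7 : orderOf x ∣ 1 := by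
    rw [← h6]
    exact Nat.dvd_gcd h4 h5
  exact orderOf_eq_one_iff.mp (Nat.dvd_one.mp h7)

theorem exists_lift_conj {N P : Subgroup G} (hN : Odd (Nat.card N)) (hP : IsPGroup 2 ↥P)
    (hPN : P ≤ normalizer (N : Set G)) {s : G} (hs : s ∈ normalizer (N : Set G))
    (h : ∀ p ∈ P, ∃ q ∈ P, q⁻¹ * (s * p * s⁻¹) ∈ N) :
    ∃ o ∈ N, ∀ p ∈ P, ∀ q ∈ P, q⁻¹ * (s * p * s⁻¹) ∈ N → (o * s) * p * (o * s)⁻¹ = q := by
  obtain ⟨H, hH⟩ : ∃ H, H = N ⊔ P := ⟨_, rfl⟩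
  have hNH : N ≤ H := by rw [hH]; exact le_sup_left
  have hPH : P ≤ H := by rw [hH]; exact le_sup_right
  have hcj : cj s H ≤ H := by
    rw [cj_def, map_le_iff_le_comap, hH]
    refine sup_le ?_ ?_
    · intro x hx
      exact (le_sup_left : N ≤ N ⊔ P) ((mem_normalizer_iff.mp hs x).mp hx)
    · intro x hx
      obtain ⟨q, hq, hqx⟩ := h x hx
      have h1 : s * x * s⁻¹ = q * (q⁻¹ * (s * x * s⁻¹)) := by group
      change s * x * s⁻¹ ∈ N ⊔ P
      rw [h1]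
      exact mul_mem ((le_sup_right : P ≤ N ⊔ P) hq) ((le_sup_left : N ≤ N ⊔ P) hqx)
  have hcjH : cj s H = H := Subgroup.eq_of_le_of_card_ge hcj (by rw [card_cj])
  have s1 : Cit.Syl P H := ⟨hPH, hP, fun h2 => by
    rw [hH] at h2
    exact (Nat.not_even_iff_odd.mpr hN) (even_iff_two_dvd.mpr (h2.trans (Cit.AutAct.relIndex_sup_dvd_card hPN)))⟩
  have s2 : Cit.Syl (cj s P) H := by
    have h1 : Cit.Syl (Cit.cj s P) (Cit.cj s H) := s1.cj s
    have h2 : Cit.cj s H = H := hcjH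
    rw [h2] at h1
    exact h1
  obtain ⟨k, hk, hkP⟩ := s2.exists_conj s1
  rw [hH] at hk
  obtain ⟨o, ho, p0, hp0, rfl⟩ := (CoprimeBasic.mem_sup_iff hPN k).mp hk
  obtain ⟨o', ho'⟩ : ∃ o', o' = p0⁻¹ * o * p0 := ⟨_, rfl⟩
  have ho'N : o' ∈ N := by
    rw [ho']
    have h1 := (mem_normalizer_iff.mp (hPN (inv_mem hp0)) o).mp ho
    rwa [inv_inv] at h1
  have hcjP : cj (o' * s) P = P := by
    have h1 : cj (o * p0) (cj s P) = P := hkP
    have h2 : o * p0 = p0 * o' := by rw [ho']; group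
    rw [h2, cj_mul] at h1
    have h3 : cj p0⁻¹ (cj p0 (cj o' (cj s P))) = cj p0⁻¹ P := by rw [h1]
    rw [cj_inv_cj, cj_eq_self_of_mem (inv_mem hp0)] at h3
    rw [cj_mul, h3]
  refine ⟨o', ho'N, ?_⟩
  intro p hp q hq hpq
  have hx : (o' * s) * p * (o' * s)⁻¹ ∈ P := by
    have h1 : (o' * s) * p * (o' * s)⁻¹ ∈ cj (o' * s) P := conj_mem_cj hp
    rwa [hcjP] at h1
  have h3 : q⁻¹ * ((o' * s) * p * (o' * s)⁻¹) ∈ N := by
    have h4 : q⁻¹ * ((o' * s) * p * (o' * s)⁻¹) =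
        (q⁻¹ * o' * q) * (q⁻¹ * (s * p * s⁻¹)) * o'⁻¹ := by group
    rw [h4]
    refine mul_mem (mul_mem ?_ hpq) (inv_mem ho'N)
    have h5 := (mem_normalizer_iff.mp (hPN (inv_mem hq)) o').mp ho'N
    rwa [inv_inv] at h5
  have h4 := eq_one_of_two_odd hN hP h3 (mul_mem (inv_mem hq) hx)
  exact (inv_mul_eq_one.mp h4).symm

end Cfsg.Agent.UGT.U2.Sol
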