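import Cfsg.Agent.UGT.U2.SolHalf

/-!
# Solomon's configuration modulo cores: the elements `e`, `e' = y e`, `s`, `s'`
-/

set_option autoImplicit false

open Cfsg Subgroup
open Cfsg.Agent.SignalizersComponents Cfsg.Agent.Lib
open Cfsg.Agent.SignalizersComponents.IntrinsicBasic
open Cfsg.Agent.Intrinsic.Basic Cfsg.Agent.Intrinsic.Cen Cfsg.Agent.Intrinsic.Quot
open Cfsg.Agent.McLLyComp.Act
open Cfsg.Agent.OddHalf.NI.Sol
open scoped commutatorElement

namespace Cfsg.Agent.UGT.U2.Sol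

variable {G : Type*} [Group G]

/-! ### generalities -/

theorem isPGroup_of_sq {V : Subgroup G} (h : ∀ v ∈ V, v * v = 1) : IsPGroup 2 ↥V := by
  intro v
  exact ⟨1, Subtype.ext (by rw [pow_one, pow_two]; exact h v v.2)⟩

theorem sq_closure {X : Set G} (hc : ∀ a ∈ X, ∀ b ∈ X, a * b = b * a)
    (hs : ∀ a ∈ X, a * a = 1) : ∀ v ∈ closure X, v * v = 1 := by
  have hcomm : ∀ x ∈ Subgroup.closure X, ∀ y ∈ Subgroup.closure X, x * y = y * x := by
    intro x hx y hy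
    have h1 := Subgroup.isMulCommutative_closure (k := X) hc
    exact congrArg Subtype.val (h1.is_comm.comm (⟨x, hx⟩ : Subgroup.closure X) ⟨y, hy⟩)
  intro w hw
  induction hw using Subgroup.closure_induction with
  | mem z hz => exact hs z hz
  | one => exact one_mul 1
  | mul u v hu hv ihu ihv =>
    calc u * v * (u * v) = u * (v * u) * v := by group
      _ = (u * u) * (v * v) := by rw [← hcomm u hu v hv]; group
      _ = 1 := by rw [ihu, ihv, one_mul]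
  | inv u _ ihu =>
    rw [← mul_inv_rev, ihu, inv_one]

/-- lifting, for the group generated by commuting involutions -/
theorem exists_lift_gen [Finite G] {N : Subgroup G} {X : Set G} (hN : Odd (Nat.card N))
    (hc : ∀ a ∈ X, ∀ b ∈ X, a * b = b * a) (hs : ∀ a ∈ X, a * a = 1)
    (hX : ∀ a ∈ X, a ∈ normalizer (N : Set G)) {s : G} (hsN : s ∈ normalizer (N : Set G))
    (h : ∀ p ∈ X, ∃ q ∈ closure X, q⁻¹ * (s * p * s⁻¹) ∈ N) :
    ∃ o ∈ N, ∀ p ∈ X, ∀ q ∈ closure X, q⁻¹ * (s * p * s⁻¹) ∈ N → (o * s) * p * (o * s)⁻¹ = q := by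
  have hP : IsPGroup 2 ↥(closure X) := isPGroup_of_sq (sq_closure hc hs)
  have hPN : closure X ≤ normalizer (N : Set G) := (closure_le _).mpr hX
  obtain ⟨o, ho, h1⟩ := exists_lift_conj hN hP hPN hsN (by
    intro p hp
    induction hp using Subgroup.closure_induction with
    | mem x hx => exact h x hx
    | one => exact ⟨1, one_mem _, by simp⟩
    | mul p₁ p₂ _ _ ih₁ ih₂ =>
      obtain ⟨q₁, hq₁, h₁⟩ := ih₁
      obtain ⟨q₂, hq₂, h₂⟩ := ih₂
      refine ⟨q₁ * q₂, mul_mem hq₁ hq₂, ?_⟩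
      have h3 : (q₁ * q₂)⁻¹ * (s * (p₁ * p₂) * s⁻¹) =
          (q₂⁻¹ * (q₁⁻¹ * (s * p₁ * s⁻¹)) * q₂) * (q₂⁻¹ * (s * p₂ * s⁻¹)) := by group
      rw [h3]
      refine mul_mem ?_ h₂
      have h4 := (mem_normalizer_iff.mp (hPN (inv_mem hq₂)) _).mp h₁
      rwa [inv_inv] at h4
    | inv p _ ih =>
      obtain ⟨q, hq, h₁⟩ := ih
      refine ⟨q⁻¹, inv_mem hq, ?_⟩
      have h3 : q⁻¹⁻¹ * (s * p⁻¹ * s⁻¹) = q * (q⁻¹ * (s * p * s⁻¹))⁻¹ * q⁻¹ := by group
      rw [h3]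
      exact (mem_normalizer_iff.mp (hPN hq) _).mp (inv_mem h₁))
  exact ⟨o, ho, fun p hp q hq => h1 p (subset_closure hp) q hq⟩

/-- an odd power is a 2-element -/
theorem exists_two_part [Finite G] (x : G) : ∃ b : ℕ, Odd b ∧ ∃ a : ℕ, (x ^ b) ^ 2 ^ a = 1 := by
  obtain ⟨a, b, hb, hab⟩ := Nat.exists_eq_two_pow_mul_odd (n := orderOf x) (orderOf_pos x).ne'
  refine ⟨b, hb, a, ?_⟩
  rw [← pow_mul, mul_comm, ← hab, pow_orderOf_eq_one]

theorem odd_pow_of_sq {x : G} (hx : x * x = 1) {b : ℕ} (hb : Odd b) : x ^ b = x := by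
  obtain ⟨k, hk⟩ := hb
  rw [hk, pow_succ, pow_mul, pow_two, hx, one_pow, one_mul]

variable {S : Type*} [Group S]

/-- transport of an isomorphism -/
theorem transport_one {L L' J : Subgroup G} (hJ : J ≤ L) (hJ' : J ≤ L') (hc : ∀ x ∈ J, x ∈ core L ↔ x ∈ core L')
    {f : S →* (↥L ⧸ oddCore ↥L)} (hf : Function.Injective f) (hr : f.range = qs L J) :
    ∃ f' : S →* (↥L' ⧸ oddCore ↥L'), Function.Injective f' ∧ f'.range = qs L' J ∧
      ∀ j ∈ J, ∀ s, pr L j = f s ↔ pr L' j = f' s := by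
  have key : ∀ x ∈ J, ∀ y ∈ J, pr L x = pr L y ↔ pr L' x = pr L' y := by
    intro x hx y hy
    rw [pr_eq_iff (hJ hx) (hJ hy), pr_eq_iff (hJ' hx) (hJ' hy)]
    exact hc _ (mul_mem (inv_mem hx) hy)
  have hex : ∀ s, ∃ x ∈ J, pr L x = f s := by
    intro s
    obtain ⟨j, hj, -, hjs⟩ := exists_of_mem_qs (L := L) (J := J) (b := f s) (by rw [← hr]; exact ⟨s, rfl⟩)
    exact ⟨j, hj, hjs⟩
  choose g hg hgs using hex
  let f' : S →* (↥L' ⧸ oddCore ↥L') := MonoidHom.mk' (fun s => pr L' (g s)) (by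
    intro a b
    rw [← pr_mul (hJ' (hg a)) (hJ' (hg b)), ← key _ (hg _) _ (mul_mem (hg a) (hg b)),
      pr_mul (hJ (hg a)) (hJ (hg b)), hgs, hgs, hgs, map_mul])
  have hf' : ∀ s, f' s = pr L' (g s) := fun _ => rfl
  refine ⟨f', ?_, ?_, ?_⟩
  · intro a b hab
    rw [hf', hf', ← key _ (hg _) _ (hg _), hgs, hgs] at hab
    exact hf hab
  · ext b
    constructor
    · rintro ⟨s, rfl⟩
      exact pr_mem_qs hJ' (hg s)
    · intro hb
      obtain ⟨j, hj, -, rfl⟩ := exists_of_mem_qs hb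
      have h1 : pr L j ∈ f.range := by rw [hr]; exact pr_mem_qs hJ hj
      obtain ⟨s, hs⟩ := h1
      refine ⟨s, ?_⟩
      rw [hf', ← key _ (hg _) _ hj, hgs, hs]
  · intro j hj s
    rw [hf', ← key _ hj _ (hg s), hgs]

/-- the transposition of the first two indices -/
def sw : Fin 3 → Fin 3 := ![1, 0, 2]

theorem sw_sw (i : Fin 3) : sw (sw i) = i := by fin_cases i <;> rfl

variable {δ : MulAut S} {t n z : S} {H L L' : Subgroup G} {u v : G} {J : Fin 3 → Subgroup G}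
  {Γ : Subgroup (↥L ⧸ oddCore ↥L)} {Γ' : Subgroup (↥L' ⧸ oddCore ↥L')} {m : ℕ}

theorem exists_transport [Finite G] (hS : CoreFree S) (h : Half δ t z H L u v J Γ)
    (h' : Half δ t z H L' v u (fun i => J (sw i)) Γ') {φ : Fin 3 → S →* (↥L ⧸ oddCore ↥L)}
    (hφ : Isos φ (fun i => qs L (J i))) :
    ∃ φ' : Fin 3 → S →* (↥L' ⧸ oddCore ↥L'), Isos φ' (fun i => qs L' (J (sw i))) ∧
      ∀ i, ∀ j ∈ J i, ∀ s, pr L j = φ i s ↔ pr L' j = φ' (sw i) s := by
  have hle : ∀ i, J i ≤ L' := by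
    intro i
    have := h'.jle (sw i)
    rwa [sw_sw] at this
  have hex : ∀ i, ∃ f' : S →* (↥L' ⧸ oddCore ↥L'), Function.Injective f' ∧ f'.range = qs L' (J i) ∧
      ∀ j ∈ J i, ∀ s, pr L j = φ i s ↔ pr L' j = f' s := by
    intro i
    refine transport_one (h.jle i) (hle i) ?_ (hφ i).1 (hφ i).2
    intro x hx
    have hx' : x ∈ J (sw (sw i)) := by rw [sw_sw]; exact hx
    have h1 := h'.core_eq hS (i := sw i) hx'
    rw [← h.core_eq hS hx]
    rw [sw_sw] at h1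
    exact h1
  choose f' hf1 hf2 hf3 using hex
  refine ⟨fun i => f' (sw i), fun i => ⟨hf1 _, hf2 _⟩, ?_⟩
  intro i j hj s
  change pr L j = φ i s ↔ pr L' j = f' (sw (sw i)) s
  rw [sw_sw]
  exact hf3 i j hj s

/-- `e` normalizes the `J i` and acts on them as `δ` -/
def ActD (δ : MulAut S) (L : Subgroup G) (J : Fin 3 → Subgroup G) (φ : Fin 3 → S →* (↥L ⧸ oddCore ↥L)) (e : G) :
    Prop :=
  ∀ i, e ∈ normalizer (J i : Set G) ∧ ∀ j ∈ J i, ∀ s, pr L j = φ i s → pr L (e * j * e⁻¹) = φ i (δ s)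

theorem ActD.sw {φ : Fin 3 → S →* (↥L ⧸ oddCore ↥L)} {φ' : Fin 3 → S →* (↥L' ⧸ oddCore ↥L')}
    (hφφ : ∀ i, ∀ j ∈ J i, ∀ s, pr L j = φ i s ↔ pr L' j = φ' (sw i) s) {e : G}
    (he : ActD δ L' (fun i => J (Sol.sw i)) φ' e) : ActD δ L J φ e := by
  intro i
  have h1 := he (Sol.sw i)
  change e ∈ normalizer (J (Sol.sw (Sol.sw i)) : Set G) ∧ ∀ j ∈ J (Sol.sw (Sol.sw i)), ∀ s, pr L' j = φ' (Sol.sw i) s →
    pr L' (e * j * e⁻¹) = φ' (Sol.sw i) (δ s) at h1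
  rw [sw_sw] at h1
  refine ⟨h1.1, fun j hj s hjs => ?_⟩
  rw [hφφ i _ (McLLyComp.Act.conj_mem h1.1 hj)]
  exact h1.2 j hj s ((hφφ i j hj s).mp hjs)

namespace Half

theorem exists_s_of [Finite G] (h : Half δ t z H L u v J Γ) {φ : Fin 3 → S →* (↥L ⧸ oddCore ↥L)}
    (hφ : Isos φ (fun i => qs L (J i))) (i : Fin 3) {j : G} (hj : j ∈ J i) : ∃ s, pr L j = φ i s := by
  have h1 : pr L j ∈ (φ i).range := by rw [(hφ i).2]; exact pr_mem_qs (h.jle i) hj
  obtain ⟨s, hs⟩ := h1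
  exact ⟨s, hs.symm⟩

theorem exists_j_of [Finite G] (h : Half δ t z H L u v J Γ) {φ : Fin 3 → S →* (↥L ⧸ oddCore ↥L)}
    (hφ : Isos φ (fun i => qs L (J i))) (i : Fin 3) (s : S) : ∃ j ∈ J i, pr L j = φ i s := by
  obtain ⟨j, hj, -, hjs⟩ := exists_of_mem_qs (L := L) (J := J i) (b := φ i s) (by
    rw [← show (φ i).range = qs L (J i) from (hφ i).2]; exact ⟨s, rfl⟩)
  exact ⟨j, hj, hjs⟩

/-- an involution `e ∈ L ⊓ C(v)` acting as `δ` -/
theorem exists_e [Finite G] (h : Half δ t z H L u v J Γ) {φ : Fin 3 → S →* (↥L ⧸ oddCore ↥L)}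
    (hφ : Isos φ (fun i => qs L (J i))) :
    ∃ e ∈ L, e ∈ CV H u v ∧ e * e = 1 ∧ pr L e ∈ Γ ∧ ActD δ L J φ e ∧
      ∀ ν, (ν = 1 ∨ ν = pr L u ∨ ν = pr L v ∨ ν = pr L u * pr L v) → ∃ s ∈ Γ, ∃ k : Fin 3 → ℤ, (∀ i, Ex t (k i)) ∧
      s * (pr L e * ν) = pr L e * ν * s ∧ s * pr L v * s⁻¹ = pr L v * (pr L e * ν) ∧
      Rel s (φ 0 t ^ k 0) (φ 1 t ^ k 1) (φ 2 t ^ k 2) := by
  obtain ⟨e, heΓ, hee, hed, hact, hrest⟩ := h.sp.ex φ hφ
  have hec : e ∈ centralizer ({(QuotientGroup.mk' (oddCore ↥L)) ⟨v, h.vL⟩} : Set (↥L ⧸ oddCore ↥L)) := by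
    rw [mem_centralizer_singleton_iff]
    have h1 := pr_mem h.vL
    rw [h1] at hed
    exact hed
  obtain ⟨⟨x, hxL, hxv⟩, hx⟩ := IntrinsicIntr.centMap_surjective L v h.vL h.vv ⟨e, hec⟩
  have hxe : pr L x = e := by
    rw [pr_mem hxL]
    exact congrArg Subtype.val hx
  have hxv : x * v = v * x := mem_centralizer_singleton_iff.mp hxv
  obtain ⟨b, hb, a, hab⟩ := exists_two_part x
  have hpe : pr L (x ^ b) = e := by rw [pr_pow hxL, hxe, odd_pow_of_sq hee hb]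
  have hxbL : x ^ b ∈ L := pow_mem hxL b
  have hsq : x ^ b * x ^ b = 1 := by
    have h1 : x ^ b * x ^ b ∈ core L := by
      rw [← pr_eq_one_iff (mul_mem hxbL hxbL), pr_mul hxbL hxbL, hpe, hee]
    refine eq_one_of_mem_core (n := a) h1 ?_
    rw [← pow_two, ← pow_mul, mul_comm, pow_mul, hab, one_pow]
  have hCV : x ^ b ∈ CV H u v := by
    rw [mem_CV]
    refine ⟨h.le_H hxbL, h.le_cu hxbL, ?_⟩
    have h1 : Commute x v := hxv
    exact (h1.pow_left b).eq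
  refine ⟨x ^ b, hxbL, hCV, hsq, by rw [hpe]; exact heΓ, ?_, by rw [hpe]; exact hrest⟩
  have hconj : ∀ i, ∀ j ∈ J i, ∀ s, pr L j = φ i s → pr L (x ^ b * j * (x ^ b)⁻¹) = φ i (δ s) := by
    intro i j hj s hjs
    rw [pr_mul (mul_mem hxbL (h.jle i hj)) (inv_mem hxbL), pr_mul hxbL (h.jle i hj), pr_inv hxbL, hpe, hjs,
      hact, mul_inv_cancel_right]
  intro i
  refine ⟨h.nrm_J hCV (le_normalizer hxbL) ?_, hconj i⟩
  intro j hj
  obtain ⟨s, hs⟩ := h.exists_s_of hφ i hj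
  rw [hconj i j hj s hs, ← show (φ i).range = qs L (J i) from (hφ i).2]
  exact ⟨_, rfl⟩

/-- two elements acting as `δ` -/
theorem fixes_of_actD [Finite G] (hS : CoreFree S) (h : Half δ t z H L u v J Γ)
    {φ : Fin 3 → S →* (↥L ⧸ oddCore ↥L)} (hφ : Isos φ (fun i => qs L (J i))) (hδ : ∀ s, δ (δ s) = s) {e e' : G}
    (he : ActD δ L J φ e) (he' : ActD δ L J φ e') (i : Fin 3) : Fixes (e' * e) (J i) := by
  refine h.fixes_of hS (mul_mem (he' i).1 (he i).1) ?_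
  intro x hx
  obtain ⟨s, hs⟩ := h.exists_s_of hφ i hx
  have h1 := (he i).2 x hx s hs
  have h2 := (he' i).2 _ (McLLyComp.Act.conj_mem (he i).1 hx) _ h1
  rw [hδ, ← hs] at h2
  rw [← h2]
  congr 1
  group

theorem dd [Finite G] (h : Half δ t z H L u v J Γ)
    {φ : Fin 3 → S →* (↥L ⧸ oddCore ↥L)} (hφ : Isos φ (fun i => qs L (J i))) {e : G}
    (he : ActD δ L J φ e) (hee : e * e = 1) (s : S) : δ (δ s) = s := by
  obtain ⟨j, hj, hjs⟩ := h.exists_j_of hφ 0 s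
  have h1 := (he 0).2 j hj s hjs
  have h2 := (he 0).2 _ (McLLyComp.Act.conj_mem (he 0).1 hj) _ h1
  have h3 : e * (e * j * e⁻¹) * e⁻¹ = j := by
    calc e * (e * j * e⁻¹) * e⁻¹ = (e * e) * j * (e * e)⁻¹ := by group
      _ = j := by rw [hee]; group
  rw [h3, hjs] at h2
  exact ((hφ 0).1 h2).symm

/-- the lift of `s` -/
theorem exists_s [Finite G] (h : Half δ t z H L u v J Γ) {e y : G} (heL : e ∈ L) (hee : e * e = 1)
    (heC : e ∈ CV H u v) (hyy : y * y = 1) (hyC : y ∈ CV H u v) (hye : y * e = e * y) (ty : Tri L Γ y)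
    {s : ↥L ⧸ oddCore ↥L} (hs : s ∈ Γ) (hse : s * pr L e = pr L e * s)
    (hsv : s * pr L v * s⁻¹ = pr L v * pr L e) :
    ∃ x ∈ L, pr L x = s ∧ x * u = u * x ∧ x * e = e * x ∧ x * v * x⁻¹ = v * e ∧ x * y = y * x := by
  obtain ⟨x, hxL, hxs⟩ := pr_surj s
  obtain ⟨-, heu, hev⟩ := mem_CV.mp heC
  obtain ⟨-, hyu, hyv⟩ := mem_CV.mp hyC
  have hcomm : ∀ a ∈ ({v, e, y} : Set G), ∀ b ∈ ({v, e, y} : Set G), a * b = b * a := by
    rintro a (rfl | rfl | rfl) b (rfl | rfl | rfl)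
    · rfl
    · exact hev.symm
    · exact hyv.symm
    · exact hev
    · rfl
    · exact hye.symm
    · exact hyv
    · exact hye
    · rfl
  have hsq : ∀ a ∈ ({v, e, y} : Set G), a * a = 1 := by
    rintro a (rfl | rfl | rfl)
    · exact h.vv
    · exact hee
    · exact hyy
  have hnrm : ∀ a ∈ ({v, e, y} : Set G), a ∈ normalizer (core L : Set G) := by
    rintro a (rfl | rfl | rfl)
    · exact le_normalizer_core _ h.vL
    · exact le_normalizer_core _ heL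
    · exact normalizer_le_normalizer_core _ ty.1
  have mv : v ∈ closure ({v, e, y} : Set G) := subset_closure (by simp)
  have me : e ∈ closure ({v, e, y} : Set G) := subset_closure (by simp)
  have my : y ∈ closure ({v, e, y} : Set G) := subset_closure (by simp)
  have cv : (v * e)⁻¹ * (x * v * x⁻¹) ∈ core L := by
    have h1 : x * v * x⁻¹ ∈ L := mul_mem (mul_mem hxL h.vL) (inv_mem hxL)
    rw [← pr_eq_iff (mul_mem h.vL heL) h1, pr_mul h.vL heL, pr_mul (mul_mem hxL h.vL) (inv_mem hxL),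
      pr_mul hxL h.vL, pr_inv hxL, hxs, hsv]
  have ce : e⁻¹ * (x * e * x⁻¹) ∈ core L := by
    have h1 : x * e * x⁻¹ ∈ L := mul_mem (mul_mem hxL heL) (inv_mem hxL)
    rw [← pr_eq_iff heL h1, pr_mul (mul_mem hxL heL) (inv_mem hxL), pr_mul hxL heL, pr_inv hxL, hxs, hse,
      mul_inv_cancel_right]
  have cy : y⁻¹ * (x * y * x⁻¹) ∈ core L := by
    have h1 := ty.comm hxL (by rw [hxs]; exact hs)
    have hy2 : y⁻¹ = y := inv_eq_of_mul_eq_one_right hyy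
    rw [hy2]
    rw [hy2] at h1
    have h2 : y * (x * y * x⁻¹) = y * x * y * x⁻¹ := by group
    rw [h2]
    exact h1
  obtain ⟨o, ho, h1⟩ := exists_lift_gen (odd_card_core L) hcomm hsq hnrm (le_normalizer_core _ hxL) (by
    rintro p (rfl | rfl | rfl)
    · exact ⟨_, mul_mem mv me, cv⟩
    · exact ⟨_, me, ce⟩
    · exact ⟨_, my, cy⟩)
  have hoL : o ∈ L := core_le L ho
  refine ⟨o * x, mul_mem hoL hxL, ?_, h.le_cu (mul_mem hoL hxL), ?_, ?_, ?_⟩
  · rw [pr_eq_of_core ho hxL, hxs]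
  · have h2 := h1 e (by simp) e me ce
    calc o * x * e = (o * x * e * (o * x)⁻¹) * (o * x) := by group
      _ = e * (o * x) := by rw [h2]
  · exact h1 v (by simp) (v * e) (mul_mem mv me) cv
  · have h2 := h1 y (by simp) y my cy
    calc o * x * y = (o * x * y * (o * x)⁻¹) * (o * x) := by group
      _ = y * (o * x) := by rw [h2]

end Half

end Cfsg.Agent.UGT.U2.Sol
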