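import Cfsg.Agent.UGT.U2.SolCfg

/-!
# Solomon's configuration modulo cores: the common section

`CS` is the centralizer in `H` of `u, v, e, y`, `YY` its core, `KK` the subgroup of the elements of `YY` fixing the
`J i`. The lifts `x`, `x'` of the two reflections normalize `YY` and `KK`.
-/

set_option autoImplicit false

open Cfsg Subgroup
open Cfsg.Agent.SignalizersComponents Cfsg.Agent.Lib
open Cfsg.Agent.SignalizersComponents.IntrinsicBasic
open Cfsg.Agent.Intrinsic.Basic Cfsg.Agent.Intrinsic.Cen Cfsg.Agent.Intrinsic.Quot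
open Cfsg.Agent.McLLyComp.Act
open Cfsg.Agent.OddHalf.NI.Sol
open scoped commutatorElement

namespace Cfsg.Agent.UGT.U2.Sol

variable {G : Type*} [Group G] {S : Type*} [Group S]

/-- `C_H(u, v, e, y)` -/
def CS (H : Subgroup G) (u v e y : G) : Subgroup G := H ⊓ centralizer ({u, v, e, y} : Set G)

theorem mem_CS {H : Subgroup G} {u v e y g : G} :
    g ∈ CS H u v e y ↔ g ∈ H ∧ g * u = u * g ∧ g * v = v * g ∧ g * e = e * g ∧ g * y = y * g := by
  unfold CS
  rw [mem_inf, mem_centralizer_iff]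
  constructor
  · rintro ⟨h1, h2⟩
    exact ⟨h1, (h2 u (by simp)).symm, (h2 v (by simp)).symm, (h2 e (by simp)).symm, (h2 y (by simp)).symm⟩
  · rintro ⟨h1, h2, h3, h4, h5⟩
    refine ⟨h1, ?_⟩
    rintro p (rfl | rfl | rfl | rfl)
    · exact h2.symm
    · exact h3.symm
    · exact h4.symm
    · exact h5.symm

theorem CS_le_CV {H : Subgroup G} {u v e y : G} : CS H u v e y ≤ CV H u v := by
  intro g hg
  obtain ⟨h1, h2, h3, -⟩ := mem_CS.mp hg
  exact mem_CV.mpr ⟨h1, h2, h3⟩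

/-- `O(C_H(u, v, e, y))` -/
def YY (H : Subgroup G) (u v e y : G) : Subgroup G := core (CS H u v e y)

theorem YY_le (H : Subgroup G) (u v e y : G) : YY H u v e y ≤ CS H u v e y := core_le _

/-- the elements fixing the three `J i` -/
def KK (H : Subgroup G) (u v e y : G) (J : Fin 3 → Subgroup G) : Subgroup G where
  carrier := {g | g ∈ YY H u v e y ∧ ∀ i, Fixes g (J i)}
  mul_mem' := fun ha hb => ⟨mul_mem ha.1 hb.1, fun i => fixes_mul (ha.2 i) (hb.2 i)⟩
  one_mem' := ⟨one_mem _, fun _ => fixes_one _⟩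
  inv_mem' := fun ha => ⟨inv_mem ha.1, fun i => fixes_inv (ha.2 i)⟩

theorem mem_KK {H : Subgroup G} {u v e y : G} {J : Fin 3 → Subgroup G} {g : G} :
    g ∈ KK H u v e y J ↔ g ∈ YY H u v e y ∧ ∀ i, Fixes g (J i) := Iff.rfl

theorem mem_normalizer_of_conj [Finite G] {K : Subgroup G} {x : G} (h : ∀ g ∈ K, x * g * x⁻¹ ∈ K) :
    x ∈ normalizer (K : Set G) := by
  rw [mem_normalizer_iff_cj]
  refine Subgroup.eq_of_le_of_card_ge ?_ (by rw [card_cj])
  rintro _ ⟨g, hg, rfl⟩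
  exact h g hg

variable {δ : MulAut S} {t n z : S} {H L L' : Subgroup G} {u v : G} {J : Fin 3 → Subgroup G}
  {Γ : Subgroup (↥L ⧸ oddCore ↥L)} {Γ' : Subgroup (↥L' ⧸ oddCore ↥L')} {m : ℕ}
  {φ : Fin 3 → S →* (↥L ⧸ oddCore ↥L)} {φ' : Fin 3 → S →* (↥L' ⧸ oddCore ↥L')} {e e' y x x' : G}
  {k k' : Fin 3 → ℤ}

namespace Cfg

/-- `x` normalizes `C_H(u, v, e, y)` -/
theorem x_CS [Finite G] (h : Half δ t z H L u v J Γ) (c : Cfg δ t H L L' u v J Γ Γ' φ φ' e e' y x x' k k') :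
    x ∈ normalizer (CS H u v e y : Set G) := by
  refine mem_normalizer_of_conj fun g hg => ?_
  obtain ⟨h1, h2, h3, h4, h5⟩ := mem_CS.mp hg
  have cc : ∀ p, g * p = p * g → Commute (x * g * x⁻¹) (x * p * x⁻¹) := by
    intro p hp
    change (x * g * x⁻¹) * (x * p * x⁻¹) = (x * p * x⁻¹) * (x * g * x⁻¹)
    calc (x * g * x⁻¹) * (x * p * x⁻¹) = x * (g * p) * x⁻¹ := by group
      _ = _ := by rw [hp]; group
  have e1 : x * u * x⁻¹ = u := by rw [c.xu, mul_inv_cancel_right]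
  have e2 : x * e * x⁻¹ = e := by rw [c.xe, mul_inv_cancel_right]
  have e3 : x * y * x⁻¹ = y := by rw [c.xy, mul_inv_cancel_right]
  have e4 := c.xv
  have c1 := cc u h2
  have c2 := cc e h4
  have c3 := cc y h5
  have c4 := cc v h3
  rw [e1] at c1
  rw [e2] at c2
  rw [e3] at c3
  rw [e4] at c4
  have c5 := c4.mul_right c2
  rw [mul_assoc v e e, c.ee, mul_one] at c5
  have hxH : x ∈ H := h.le_H c.xL
  exact mem_CS.mpr ⟨mul_mem (mul_mem hxH h1) (inv_mem hxH), c1, c5, c2, c3⟩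

theorem x_CS' [Finite G] (h' : Half δ t z H L' v u (fun i => J (sw i)) Γ')
    (c : Cfg δ t H L L' u v J Γ Γ' φ φ' e e' y x x' k k') :
    x' ∈ normalizer (CS H u v e y : Set G) := by
  refine mem_normalizer_of_conj fun g hg => ?_
  obtain ⟨h1, h2, h3, h4, h5⟩ := mem_CS.mp hg
  have cc : ∀ p, g * p = p * g → Commute (x' * g * x'⁻¹) (x' * p * x'⁻¹) := by
    intro p hp
    change (x' * g * x'⁻¹) * (x' * p * x'⁻¹) = (x' * p * x'⁻¹) * (x' * g * x'⁻¹)
    calc (x' * g * x'⁻¹) * (x' * p * x'⁻¹) = x' * (g * p) * x'⁻¹ := by group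
      _ = _ := by rw [hp]; group
  have e1 : x' * v * x'⁻¹ = v := by rw [c.xv', mul_inv_cancel_right]
  have e2 : x' * e * x'⁻¹ = e := by rw [c.xe', mul_inv_cancel_right]
  have e3 : x' * y * x'⁻¹ = y := by rw [c.xy', mul_inv_cancel_right]
  have e4 := c.xu'
  have c1 := cc v h3
  have c2 := cc e h4
  have c3 := cc y h5
  have c4 := cc u h2
  rw [e1] at c1
  rw [e2] at c2
  rw [e3] at c3
  rw [e4, c.e'_def] at c4
  have c5 := c4.mul_right (c3.mul_right c2).inv_right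
  rw [mul_inv_cancel_right] at c5
  have hxH : x' ∈ H := h'.le_H c.xL'
  exact mem_CS.mpr ⟨mul_mem (mul_mem hxH h1) (inv_mem hxH), c5, c1, c2, c3⟩

theorem x_YY [Finite G] (h : Half δ t z H L u v J Γ) (c : Cfg δ t H L L' u v J Γ Γ' φ φ' e e' y x x' k k') :
    x ∈ normalizer (YY H u v e y : Set G) := normalizer_le_normalizer_core _ (c.x_CS h)

theorem x_YY' [Finite G] (h' : Half δ t z H L' v u (fun i => J (sw i)) Γ')
    (c : Cfg δ t H L L' u v J Γ Γ' φ φ' e e' y x x' k k') :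
    x' ∈ normalizer (YY H u v e y : Set G) := normalizer_le_normalizer_core _ (c.x_CS' h')

end Cfg

theorem odd_of_YY [Finite G] {g : G} (hg : g ∈ YY H u v e y) : Odd (orderOf g) := by
  have h1 : orderOf g ∣ Nat.card (YY H u v e y) := by
    rw [← Subgroup.orderOf_mk g hg]
    exact orderOf_dvd_natCard _
  exact Odd.of_dvd_nat (odd_card_core _) h1

namespace Half

/-- `O(L) ⊓ Y ≤ K` -/
theorem core_KK [Finite G] (h : Half δ t z H L u v J Γ) {o : G} (ho : o ∈ core L) (hY : o ∈ YY H u v e y) :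
    o ∈ KK H u v e y J :=
  ⟨hY, fun i => h.fixes_of_core ho (mem_CS.mp (YY_le _ _ _ _ _ hY)).2.2.1 i⟩

theorem core_KK' [Finite G] (h' : Half δ t z H L' v u (fun i => J (sw i)) Γ') {o : G} (ho : o ∈ core L')
    (hY : o ∈ YY H u v e y) : o ∈ KK H u v e y J := by
  refine ⟨hY, fun i => ?_⟩
  have h1 := h'.fixes_of_core ho (mem_CS.mp (YY_le _ _ _ _ _ hY)).2.1 (sw i)
  change Fixes o (J (sw (sw i))) at h1
  rwa [sw_sw] at h1

/-- elements of `K` are trivial on `Γ` -/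
theorem tri_KK [Finite G] (hS : CoreFree S) (h : Half δ t z H L u v J Γ) {g : G} (hg : g ∈ KK H u v e y J) :
    Tri L Γ g := h.triv_odd hS (CS_le_CV (YY_le _ _ _ _ _ hg.1)) hg.2 (odd_of_YY hg.1)

theorem tri_KK' [Finite G] (hS : CoreFree S) (h' : Half δ t z H L' v u (fun i => J (sw i)) Γ') {g : G}
    (hg : g ∈ KK H u v e y J) : Tri L' Γ' g := by
  refine h'.triv_odd hS ?_ (fun i => hg.2 _) (odd_of_YY hg.1)
  rw [CV_comm]
  exact CS_le_CV (YY_le _ _ _ _ _ hg.1)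

end Half

namespace Cfg

/-- `x` normalizes `K` -/
theorem x_KK [Finite G] (hS : CoreFree S) (h : Half δ t z H L u v J Γ)
    (c : Cfg δ t H L L' u v J Γ Γ' φ φ' e e' y x x' k k') : x ∈ normalizer (KK H u v e y J : Set G) := by
  refine mem_normalizer_of_conj fun g hg => ?_
  have h1 : x * g * x⁻¹ ∈ YY H u v e y := (mem_normalizer_iff.mp (c.x_YY h) g).mp hg.1
  have h2 := (h.tri_KK hS hg).comm c.xL c.xΓ
  have h3 : (g * x * g⁻¹ * x⁻¹)⁻¹ = x * g * x⁻¹ * g⁻¹ := by group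
  have h4 : x * g * x⁻¹ * g⁻¹ ∈ KK H u v e y J := by
    refine h.core_KK ?_ (mul_mem h1 (inv_mem hg.1))
    rw [← h3]
    exact inv_mem h2
  have h5 : x * g * x⁻¹ = x * g * x⁻¹ * g⁻¹ * g := by group
  rw [h5]
  exact mul_mem h4 hg

theorem x_KK' [Finite G] (hS : CoreFree S) (h' : Half δ t z H L' v u (fun i => J (sw i)) Γ')
    (c : Cfg δ t H L L' u v J Γ Γ' φ φ' e e' y x x' k k') : x' ∈ normalizer (KK H u v e y J : Set G) := by
  refine mem_normalizer_of_conj fun g hg => ?_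
  have h1 : x' * g * x'⁻¹ ∈ YY H u v e y := (mem_normalizer_iff.mp (c.x_YY' h') g).mp hg.1
  have h2 := (h'.tri_KK' hS hg).comm c.xL' c.xΓ'
  have h3 : (g * x' * g⁻¹ * x'⁻¹)⁻¹ = x' * g * x'⁻¹ * g⁻¹ := by group
  have h4 : x' * g * x'⁻¹ * g⁻¹ ∈ KK H u v e y J := by
    refine h'.core_KK' ?_ (mul_mem h1 (inv_mem hg.1))
    rw [← h3]
    exact inv_mem h2
  have h5 : x' * g * x'⁻¹ = x' * g * x'⁻¹ * g⁻¹ * g := by group
  rw [h5]
  exact mul_mem h4 hg

end Cfg

/-- the elements of `J i ⊓ C(u, v, e, y)` normalize `K` -/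
theorem J_KK [Finite G] (h : Half δ t z H L u v J Γ) {i : Fin 3} {g : G} (hg : g ∈ J i) (hgC : g ∈ CS H u v e y) :
    g ∈ normalizer (KK H u v e y J : Set G) := by
  refine mem_normalizer_of_conj fun a ha => ⟨?_, fun j => ?_⟩
  · exact (mem_normalizer_iff.mp (le_normalizer_core _ hgC) a).mp ha.1
  · refine fixes_conj (ha.2 j) ?_
    by_cases hij : J i = J j
    · rw [← hij]; exact le_normalizer hg
    · exact ((h.jcv j).fixes_of_mem (h.jcv i) (Ne.symm hij) hg).1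

/-- the elements of the torus: `g ∈ J i ⊓ Y` over `φ i t` -/
theorem exists_g [Finite G] (hT : Tor δ t n z m) (hS : CoreFree S) (h : Half δ t z H L u v J Γ)
    (c : Cfg δ t H L L' u v J Γ Γ' φ φ' e e' y x x' k k') (i : Fin 3) :
    ∃ g ∈ J i, g ∈ YY H u v e y ∧ pr L g = φ i t := by
  obtain ⟨j, hj, hjt⟩ := h.exists_j_of c.iso i t
  obtain ⟨-, heu, hev⟩ := mem_CV.mp c.eC
  obtain ⟨-, hyu, hyv⟩ := mem_CV.mp c.yC
  have hJC := h.jle_cv i
  obtain ⟨hjH, hju, hjv⟩ := mem_CV.mp (hJC hj)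
  have hcomm : ∀ a ∈ ({u, v, e, y} : Set G), ∀ b ∈ ({u, v, e, y} : Set G), a * b = b * a := by
    rintro a (rfl | rfl | rfl | rfl) b (rfl | rfl | rfl | rfl)
    · rfl
    · exact h.uv
    · exact heu.symm
    · exact hyu.symm
    · exact h.uv.symm
    · rfl
    · exact hev.symm
    · exact hyv.symm
    · exact heu
    · exact hev
    · rfl
    · exact c.ye.symm
    · exact hyu
    · exact hyv
    · exact c.ye
    · rfl
  have hsq : ∀ a ∈ ({u, v, e, y} : Set G), a * a = 1 := by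
    rintro a (rfl | rfl | rfl | rfl)
    · exact h.uu
    · exact h.vv
    · exact c.ee
    · exact c.yy
  have hcent : ∀ a, (∀ b ∈ J i, b * a = a * b) → a ∈ normalizer (J i : Set G) := by
    intro a ha
    refine mem_normalizer_of_conj fun b hb => ?_
    rw [← ha b hb, mul_inv_cancel_right]
    exact hb
  have hnrmJ : ∀ a ∈ ({u, v, e, y} : Set G), a ∈ normalizer (J i : Set G) := by
    rintro a (rfl | rfl | rfl | rfl)
    · exact hcent _ fun b hb => (mem_CV.mp (hJC hb)).2.1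
    · exact hcent _ fun b hb => (mem_CV.mp (hJC hb)).2.2
    · exact (c.act i).1
    · exact (c.fy i).1
  have hnrm : ∀ a ∈ ({u, v, e, y} : Set G), a ∈ normalizer (core (J i) : Set G) :=
    fun a ha => normalizer_le_normalizer_core _ (hnrmJ a ha)
  -- `p⁻¹ (j p j⁻¹) ∈ O(J i)`
  have hcore : ∀ p, p ∈ normalizer (J i : Set G) → p * p = 1 → pr L (p * j * p⁻¹) = pr L j →
      p⁻¹ * (j * p * j⁻¹) ∈ core (J i) := by
    intro p hp hpp hpj
    have h1 : p * j * p⁻¹ ∈ J i := McLLyComp.Act.conj_mem hp hj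
    have h2 : p * j * p⁻¹ * j⁻¹ ∈ core (J i) := by
      rw [h.core_eq hS (mul_mem h1 (inv_mem hj)), ← pr_eq_one_iff (h.jle i (mul_mem h1 (inv_mem hj))),
        pr_mul (h.jle i h1) (inv_mem (h.jle i hj)), pr_inv (h.jle i hj), hpj, mul_inv_cancel]
    have h3 : p⁻¹ = p := inv_eq_of_mul_eq_one_right hpp
    rw [h3] at h2 ⊢
    have h4 : p * (j * p * j⁻¹) = p * j * p * j⁻¹ := by group
    rw [h4]
    exact h2
  have c1 : ∀ p ∈ ({u, v, e, y} : Set G), p⁻¹ * (j * p * j⁻¹) ∈ core (J i) := by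
    intro p hp
    refine hcore p (hnrmJ p hp) (hsq p hp) ?_
    rcases hp with rfl | rfl | rfl | rfl
    · rw [← hju, mul_inv_cancel_right]
    · rw [← hjv, mul_inv_cancel_right]
    · rw [(c.act i).2 j hj t hjt, hT.dt, hjt]
    · exact h.pr_of_fixes hS (c.fy i) hj
  obtain ⟨o, ho, h1⟩ := exists_lift_gen (odd_card_core (J i)) hcomm hsq hnrm
    (le_normalizer_core _ hj) (fun p hp => ⟨p, subset_closure hp, c1 p hp⟩)
  have hoJ : o ∈ J i := core_le _ ho
  have hgJ : o * j ∈ J i := mul_mem hoJ hj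
  have hgp : ∀ p ∈ ({u, v, e, y} : Set G), (o * j) * p = p * (o * j) := by
    intro p hp
    have h2 := h1 p hp p (subset_closure hp) (c1 p hp)
    calc (o * j) * p = ((o * j) * p * (o * j)⁻¹) * (o * j) := by group
      _ = p * (o * j) := by rw [h2]
  have hgC : o * j ∈ CS H u v e y :=
    mem_CS.mpr ⟨(mem_CV.mp (hJC hgJ)).1, hgp u (by simp), hgp v (by simp), hgp e (by simp), hgp y (by simp)⟩
  have hgt : pr L (o * j) = φ i t := by
    rw [pr_eq_of_core (h.core_le' hS i ho) (h.jle i hj), hjt]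
  refine ⟨o * j, hgJ, ?_, hgt⟩
  -- elements of `J i ⊓ CS` lie over `δ`-fixed elements
  have hfixd : ∀ a ∈ J i, a ∈ CS H u v e y → ∀ s, pr L a = φ i s → δ s = s := by
    intro a ha haC s has
    have h2 := (c.act i).2 a ha s has
    have h3 : e * a * e⁻¹ = a := by
      rw [← (mem_CS.mp haC).2.2.2.1, mul_inv_cancel_right]
    rw [h3, has] at h2
    exact ((c.iso i).1 h2).symm
  let N : Subgroup G :=
    { carrier := {a | a ∈ J i ∧ a ∈ CS H u v e y ∧ ∃ l : ℤ, pr L a = φ i (t ^ l)}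
      mul_mem' := by
        rintro a b ⟨ha1, ha2, la, ha3⟩ ⟨hb1, hb2, lb, hb3⟩
        refine ⟨mul_mem ha1 hb1, mul_mem ha2 hb2, la + lb, ?_⟩
        rw [pr_mul (h.jle i ha1) (h.jle i hb1), ha3, hb3, zpow_add, map_mul]
      one_mem' := ⟨one_mem _, one_mem _, 0, by rw [pr_one, zpow_zero, map_one]⟩
      inv_mem' := by
        rintro a ⟨ha1, ha2, la, ha3⟩
        refine ⟨inv_mem ha1, inv_mem ha2, -la, ?_⟩
        rw [pr_inv (h.jle i ha1), ha3, zpow_neg, map_inv] }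
  have hNle : N ≤ J i ⊓ CS H u v e y := fun a ha => ⟨ha.1, ha.2.1⟩
  have hNodd : Odd (Nat.card N) := by
    rw [← Nat.not_even_iff_odd, even_iff_two_dvd]
    intro h2
    have h2' : Fact (Nat.Prime 2) := ⟨Nat.prime_two⟩
    obtain ⟨⟨a, ha⟩, ha2⟩ := exists_prime_orderOf_dvd_card' 2 h2
    have ha3 : orderOf a = 2 := by rw [← ha2, Subgroup.orderOf_mk]
    obtain ⟨ha1, -, l, hal⟩ := ha
    have h3 : a ^ m ∈ core L := by
      rw [← pr_eq_one_iff (pow_mem (h.jle i ha1) m), pr_pow (h.jle i ha1), hal, ← map_pow]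
      have h4 : (t ^ l) ^ m = 1 := by
        rw [← zpow_natCast, ← zpow_mul, mul_comm, zpow_mul, zpow_natCast, hT.pow, one_zpow]
      rw [h4, map_one]
    have haa : a * a = 1 := by rw [← pow_two, ← ha3, pow_orderOf_eq_one]
    rw [odd_pow_of_sq haa hT.odd] at h3
    have h4 := eq_one_of_mem_core_sq h3 haa
    rw [h4, orderOf_one] at ha3
    exact absurd ha3 (by norm_num)
  have hNn : J i ⊓ CS H u v e y ≤ normalizer (N : Set G) := by
    rintro b ⟨hb1, hb2⟩
    refine mem_normalizer_of_conj fun a ha => ?_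
    obtain ⟨ha1, ha2, l, hal⟩ := ha
    have h3 : b * a * b⁻¹ ∈ J i := mul_mem (mul_mem hb1 ha1) (inv_mem hb1)
    have h4 : b * a * b⁻¹ ∈ CS H u v e y := mul_mem (mul_mem hb2 ha2) (inv_mem hb2)
    refine ⟨h3, h4, ?_⟩
    obtain ⟨s, hs⟩ := h.exists_s_of c.iso i hb1
    have h5 : pr L (b * a * b⁻¹) = φ i (s * t ^ l * s⁻¹) := by
      rw [pr_mul (h.jle i (mul_mem hb1 ha1)) (inv_mem (h.jle i hb1)), pr_mul (h.jle i hb1) (h.jle i ha1),
        pr_inv (h.jle i hb1), hs, hal, map_mul, map_mul, map_inv]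
    obtain ⟨l', hl'⟩ := hT.tor _ (hfixd _ h3 h4 _ h5) (by
      rw [conj_pow, ← zpow_natCast, ← zpow_mul, mul_comm l, zpow_mul, zpow_natCast, hT.pow, one_zpow, mul_one,
        mul_inv_cancel])
    exact ⟨l', by rw [h5, hl']⟩
  have hN1 : N ≤ core (J i ⊓ CS H u v e y) := le_core hNle hNn hNodd
  have hsub : ((J i ⊓ CS H u v e y).subgroupOf (CS H u v e y)).IsSubnormal := by
    have h3 : ((J i).subgroupOf (CV H u v)).IsSubnormal := (isComp_iff.mp (h.jcv i)).2.1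
    have h4 := h3.comap (Subgroup.inclusion (CS_le_CV : CS H u v e y ≤ CV H u v))
    convert h4 using 1
    ext ⟨a, ha⟩
    constructor
    · intro h5
      exact h5.1
    · intro h5
      exact ⟨h5, ha⟩
  have h3 := core_eq_inf_of_subnormal (inf_le_right : J i ⊓ CS H u v e y ≤ CS H u v e y) hsub
  have h4 : o * j ∈ N := ⟨hgJ, hgC, 1, by rw [zpow_one]; exact hgt⟩
  have h5 := hN1 h4
  rw [h3] at h5
  exact h5.2

end Cfsg.Agent.UGT.U2.Sol
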