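import Cfsg.Agent.UGT.U2.Pump

/-!
# THEOREM X modulo cores: no family of commuting intrinsic 2-components (node U2 of S1311)

`G` finite. A predicate `Q` on subgroups (`K / O(K) ≃ SL₂(q)`): two commuting involutions of `K` are equal (`UI`), `Q`
depends only on `K / O(K)`, and no 2-component `K ∋ z` of `C(z)`, `z` an involution, has the property `Q`. Inputs: (F2')
(`F2p`, in `D / O(D)`: three 2-components of `C_D(d)`, with involutions `c`, `d`, `c d`, and the data `P`) and the
impossibility of Solomon's configuration (`Sol`). Then there is no nonempty finite set `R` of pairwise commuting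
involutions such that `a b ≠ c` for distinct `a b c ∈ R` and every `a ∈ R` lies in a 2-component `K_a` of `C(R)` with
property `Q`.

Take `R` minimal. For `k ∈ R` let `D k` be the 2-component of `C(R - k)` containing `K k`. By minimality some `β k ≠ k`
has `K (β k) ≤ D k`, and `k` is not trivial on `D k / O(D k)`. By (F2') `β k` is unique; then `β (β k) = k`, and `D k`,
`D (β k)` are Solomon's configuration in `C(R - {k, β k})`.
-/

set_option autoImplicit false

open Cfsg Subgroup
open Cfsg.Agent.SignalizersComponents Cfsg.Agent.Lib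
open Cfsg.Agent.Intrinsic.Basic
open Cfsg.Agent.McLLyComp.Act
open scoped commutatorElement

namespace Cfsg.Agent.UGT.U2.ThmX

variable {G : Type*} [Group G]

/-- pairwise commuting involutions -/
structure CInv (S : Set G) : Prop where
  ord : ∀ s ∈ S, orderOf s = 2
  comm : ∀ s ∈ S, ∀ s' ∈ S, s * s' = s' * s

theorem CInv.mono {S T : Set G} (h : CInv T) (hST : S ⊆ T) : CInv S :=
  ⟨fun s hs => h.ord s (hST hs), fun s hs s' hs' => h.comm s (hST hs) s' (hST hs')⟩

/-- commuting involutions of `K` are equal -/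
def UI (K : Subgroup G) : Prop :=
  ∀ x ∈ K, ∀ y ∈ K, orderOf x = 2 → orderOf y = 2 → x * y = y * x → x = y

/-- **(F2')** modulo cores -/
def F2p (Q : Subgroup G → Prop) (P : G → G → Subgroup G → Subgroup G → Subgroup G → Subgroup G → Prop) : Prop :=
  ∀ (S : Set G) (c d : G) (D A B : Subgroup G), CInv (insert d S) → c ∈ S → c ≠ d →
    IsComp (centralizer S) D → d ∈ D → ¬ Fixes d D → c ∈ A → d ∈ B → Q A → Q B → A ≠ B →
    IsComp (D ⊓ centralizer ({d} : Set G)) A → IsComp (D ⊓ centralizer ({d} : Set G)) B →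
    ∃ B' : Subgroup G, IsComp (D ⊓ centralizer ({d} : Set G)) B' ∧ UI B' ∧ c * d ∈ B' ∧
      (∀ K : Subgroup G, IsComp (D ⊓ centralizer ({d} : Set G)) K → K = A ∨ K = B ∨ K = B') ∧
      P c d D A B B'

/-- Solomon's configuration does not exist. -/
def Sol (P : G → G → Subgroup G → Subgroup G → Subgroup G → Subgroup G → Prop) : Prop :=
  ∀ (S : Set G) (u v : G) (Du Dv Ju Jv Jw : Subgroup G), CInv (insert u (insert v S)) → u ≠ v →
    IsComp (centralizer (insert u S)) Du → IsComp (centralizer (insert v S)) Dv →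
    P u v Du Ju Jv Jw → P v u Dv Jv Ju Jw → False

theorem centralizer_insert (t : G) (S : Set G) :
    centralizer (insert t S) = centralizer S ⊓ centralizer ({t} : Set G) := by
  ext x
  simp only [mem_inf, mem_centralizer_iff, Set.mem_insert_iff, Set.mem_singleton_iff, forall_eq_or_imp,
    forall_eq]
  tauto

theorem sq_of_order {x : G} (h : orderOf x = 2) : x * x = 1 := by
  rw [← pow_two, ← h, pow_orderOf_eq_one]

theorem ne_one_of_order {x : G} (h : orderOf x = 2) : x ≠ 1 := by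
  rintro rfl
  rw [orderOf_one] at h
  exact absurd h (by norm_num)

/-- product of distinct commuting involutions -/
theorem order_mul {x y : G} (hx : orderOf x = 2) (hy : orderOf y = 2) (hc : x * y = y * x) (hne : x ≠ y) :
    orderOf (x * y) = 2 := by
  refine orderOf_eq_prime ?_ ?_
  · rw [pow_two]
    calc x * y * (x * y) = x * (y * x) * y := by group
      _ = (x * x) * (y * y) := by rw [← hc]; group
      _ = 1 := by rw [sq_of_order hx, sq_of_order hy, one_mul]
  · intro h
    apply hne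
    rw [mul_eq_one_iff_eq_inv] at h
    rw [h]
    exact inv_eq_of_mul_eq_one_left (sq_of_order hy)

/-- an element of the centralizer of `D` is trivial on `D` -/
theorem fixes_of_central {D : Subgroup G} {a : G} (h : ∀ x ∈ D, a * x = x * a) : Fixes a D := by
  refine ⟨?_, ?_⟩
  · rw [mem_normalizer_iff]
    intro x
    constructor
    · intro hx
      rw [h x hx, mul_inv_cancel_right]
      exact hx
    · intro hx
      have h1 := h _ hx
      have h2 : a * x * a⁻¹ = x := by
        have h3 : a * (a * x * a⁻¹) = a * x := by rw [h1]; group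
        exact mul_left_cancel h3
      rwa [h2] at hx
  · intro y hy
    have h1 : ⁅a, y⁆ = 1 := by
      rw [commutatorElement_def, h y hy]
      group
    rw [h1]
    exact one_mem _

variable [Finite G] {Q : Subgroup G → Prop}
  {P : G → G → Subgroup G → Subgroup G → Subgroup G → Subgroup G → Prop}

/-- **THEOREM X** modulo cores -/
theorem false_of_set (hQ : ∀ K : Subgroup G, Q K → UI K)
    (hQc : ∀ H K D : Subgroup G, IsComp H D → K ⊔ core D = D → Q K → Q D)
    (hcl : ∀ (z : G) (K : Subgroup G), orderOf z = 2 → z ∈ K → Q K → ¬ IsComp (centralizer ({z} : Set G)) K)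
    (hF : F2p Q P) (hSol : Sol P) (R : Finset G) (hne : R.Nonempty) (hR : CInv (R : Set G))
    (hK : ∀ a ∈ R, ∃ K : Subgroup G, IsComp (centralizer (R : Set G)) K ∧ a ∈ K ∧ Q K)
    (h3 : ∀ a ∈ R, ∀ b ∈ R, ∀ c ∈ R, a ≠ b → a ≠ c → b ≠ c → a * b ≠ c) : False := by
  classical
  -- a minimal `A`
  let good : Finset G → Prop := fun A =>
    A ⊆ R ∧ A.Nonempty ∧ ∀ i ∈ A, ∃ K : Subgroup G, IsComp (centralizer (A : Set G)) K ∧ i ∈ K ∧ Q K
  have hex : ∃ n : ℕ, ∃ A : Finset G, good A ∧ A.card = n := ⟨_, R, ⟨subset_rfl, hne, hK⟩, rfl⟩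
  obtain ⟨A, ⟨hAR, hAne, hAK⟩, hAc⟩ := Nat.find_spec hex
  have hmin : ∀ B : Finset G, B ⊆ A → B.Nonempty → B ≠ A →
      ¬ ∀ i ∈ B, ∃ K : Subgroup G, IsComp (centralizer (B : Set G)) K ∧ i ∈ K ∧ Q K := by
    intro B hBA hB hBne h
    have h1 : B.card < A.card := Finset.card_lt_card (Finset.ssubset_iff_subset_ne.mpr ⟨hBA, hBne⟩)
    exact Nat.find_min hex (hAc ▸ h1) ⟨B, ⟨hBA.trans hAR, hB, h⟩, rfl⟩
  clear hAc
  choose! K hKc hiK hKQ using hAK
  have ho : ∀ i ∈ A, orderOf i = 2 := fun i hi => hR.ord i (hAR hi)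
  have hcomm : ∀ i ∈ A, ∀ k ∈ A, i * k = k * i := fun i hi k hk =>
    hR.comm i (hAR hi) k (hAR hk)
  have hInv : CInv (A : Set G) := ⟨ho, hcomm⟩
  have hss : ∀ k ∈ A, k * k = 1 := fun k hk => sq_of_order (ho k hk)
  -- the sets `A - k`
  have hins : ∀ k ∈ A, (A : Set G) = insert k ((A.erase k : Finset G) : Set G) := by
    intro k hk
    rw [← Finset.coe_insert, Finset.insert_erase hk]
  have hC : ∀ k ∈ A, centralizer (A : Set G) =
      centralizer ((A.erase k : Finset G) : Set G) ⊓ centralizer ({k} : Set G) := by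
    intro k hk
    rw [hins k hk, centralizer_insert]
  have hAk : ∀ k ∈ A, (A.erase k).Nonempty := by
    intro k hk
    by_contra hcon
    rw [Finset.not_nonempty_iff_eq_empty] at hcon
    have h1 := hins k hk
    rw [hcon, Finset.coe_empty, insert_empty_eq] at h1
    have h2 := hKc k hk
    rw [h1] at h2
    exact hcl _ _ (ho k hk) (hiK k hk) (hKQ k hk) h2
  have hcomp : ∀ k ∈ A, ∀ Z : Subgroup G, IsComp (centralizer (A : Set G)) Z →
      IsComp (centralizer ((A.erase k : Finset G) : Set G) ⊓ centralizer ({k} : Set G)) Z := by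
    intro k hk Z hZ
    rw [← hC k hk]; exact hZ
  have hkC : ∀ k ∈ A, k ∈ centralizer ((A.erase k : Finset G) : Set G) := by
    intro k hk
    rw [mem_centralizer_iff]
    intro s hs
    exact hcomm s (Finset.mem_of_mem_erase hs) k hk
  -- the groups `D k`
  have hexD : ∀ k ∈ A, ∃ D : Subgroup G,
      IsComp (centralizer ((A.erase k : Finset G) : Set G)) D ∧ K k ≤ D := fun k hk =>
    exists_pumpup (hss k hk) (hiK k hk) (hcomp k hk _ (hKc k hk))
  choose! D hD hKD using hexD
  have hyD : ∀ k ∈ A, k ∈ D k := fun k hk => hKD k hk (hiK k hk)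
  -- pump-ups
  have hpump : ∀ k ∈ A, ∀ Z : Subgroup G, IsComp (centralizer (A : Set G)) Z →
      ∃ E, IsComp (centralizer ((A.erase k : Finset G) : Set G)) E ∧ Z ≤ E ∧
        ((Fixes k E ∧ Z ⊔ core E = E) ∨ (¬ Fixes k E ∧ E = D k)) := by
    intro k hk Z hZ
    obtain ⟨E, hE, hZE, h | ⟨h, h'⟩⟩ := pump (hkC k hk) (hss k hk) (hiK k hk) (hcomp k hk _ (hKc k hk))
      (hcomp k hk _ hZ)
    · exact ⟨E, hE, hZE, Or.inl h⟩
    · exact ⟨E, hE, hZE, Or.inr ⟨h, (hcomp k hk _ (hKc k hk)).unique hE (hD k hk) h' (hKD k hk)⟩⟩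
  -- `i` is central in `D k`
  have hcen : ∀ k ∈ A, ∀ i ∈ A, i ≠ k → Fixes i (D k) := by
    intro k hk i hi hik
    apply fixes_of_central
    intro x hx
    have h1 := (hD k hk).le hx
    exact mem_centralizer_iff.mp h1 i (by
      rw [Finset.mem_coe, Finset.mem_erase]; exact ⟨hik, hi⟩)
  -- existence of `β k`
  have hbex : ∀ k ∈ A, ∃ i ∈ A, i ≠ k ∧ K i ≤ D k ∧ ¬ Fixes k (D k) := by
    intro k hk
    by_contra hcon
    push Not at hcon
    apply hmin (A.erase k) (Finset.erase_subset k A) (hAk k hk)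
      (fun h => Finset.notMem_erase k A (by rw [h]; exact hk))
    intro i hi
    rw [Finset.mem_erase] at hi
    obtain ⟨E, hE, hZE, ⟨h, h'⟩ | ⟨h, h'⟩⟩ := hpump k hk (K i) (hKc i hi.2)
    · exact ⟨E, hE, hZE (hiK i hi.2), hQc _ _ _ hE h' (hKQ i hi.2)⟩
    · subst h'
      exact absurd (hcon i hi.2 hi.1 hZE) h
  choose! β hβA hβne hβD hnf using hbex
  have hKne : ∀ i ∈ A, ∀ k ∈ A, i ≠ k → K i ≠ K k := by
    intro i hi k hk hik h
    exact hik (hQ (K i) (hKQ i hi) _ (hiK i hi) _ (h ▸ hiK k hk) (ho i hi) (ho k hk) (hcomm i hi k hk))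
  have hext : ∀ k ∈ A, ∀ Z : Subgroup G, IsComp (D k ⊓ centralizer ({k} : Set G)) Z →
      IsComp (centralizer (A : Set G)) Z := by
    intro k hk Z hZ
    rw [hC k hk]
    exact isComp_of_inf (hD k hk) hZ
  have hsub : ∀ k ∈ A, ∀ Z : Subgroup G, IsComp (centralizer (A : Set G)) Z → Z ≤ D k →
      IsComp (D k ⊓ centralizer ({k} : Set G)) Z := fun k hk Z hZ hZD =>
    isComp_inf (hcomp k hk Z hZ) (hD k hk) hZD
  -- the third component
  have hstar : ∀ k ∈ A, ∃ B' : Subgroup G,
      IsComp (D k ⊓ centralizer ({k} : Set G)) B' ∧ UI B' ∧ β k * k ∈ B' ∧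
      (∀ Z : Subgroup G, IsComp (D k ⊓ centralizer ({k} : Set G)) Z → Z = K (β k) ∨ Z = K k ∨ Z = B') ∧
      P (β k) k (D k) (K (β k)) (K k) B' := by
    intro k hk
    refine hF ((A.erase k : Finset G) : Set G) (β k) k (D k) (K (β k)) (K k) ?_ ?_ (hβne k hk) (hD k hk)
      (hyD k hk) (hnf k hk) (hiK _ (hβA k hk)) (hiK k hk) (hKQ _ (hβA k hk)) (hKQ k hk)
      (hKne _ (hβA k hk) k hk (hβne k hk)) (hsub k hk _ (hKc _ (hβA k hk)) (hβD k hk))
      (hsub k hk _ (hKc k hk) (hKD k hk))
    · rw [← hins k hk]; exact hInv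
    · rw [Finset.mem_coe, Finset.mem_erase]
      exact ⟨hβne k hk, hβA k hk⟩
  choose! T hTc hTQ hTm hTall hTP using hstar
  have hord : ∀ a ∈ A, ∀ b ∈ A, a ≠ b → orderOf (a * b) = 2 := fun a ha b hb hab =>
    order_mul (ho a ha) (ho b hb) (hcomm a ha b hb) hab
  -- products commute with the elements of `A`
  have hcm : ∀ a ∈ A, ∀ b ∈ A, ∀ c ∈ A, a * b * c = c * (a * b) := by
    intro a ha b hb c hc
    rw [mul_assoc, hcomm b hb c hc, ← mul_assoc, hcomm a ha c hc, mul_assoc]
  -- the pump-up of `T k` along `β k`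
  have hpt : ∀ k ∈ A, T k ≤ D (β k) := by
    intro k hk
    have hl := hβA k hk
    obtain ⟨E, hE, hZE, ⟨h, h'⟩ | ⟨-, h'⟩⟩ := hpump (β k) hl (T k) (hext k hk _ (hTc k hk))
    · exfalso
      have hne' : D (β k) ≠ E := by
        intro h5
        rw [← h5] at h
        exact hnf _ hl h
      have h4 : Fixes (β k * k) (D (β k)) := (hD (β k) hl).fixes_of_mem hE hne' (hZE (hTm k hk))
      have h5 := hcen (β k) hl k hk (Ne.symm (hβne k hk))
      exact hnf _ hl ((fixes_mul_iff_left h5).mp h4)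
    · rw [← h']; exact hZE
  -- uniqueness of `β`
  have hbuni : ∀ k ∈ A, ∀ i ∈ A, i ≠ k → K i ≤ D k → i = β k := by
    intro k hk i hi hik hle
    by_contra hne'
    rcases hTall k hk _ (hsub k hk _ (hKc i hi) hle) with h | h | h
    · exact hKne i hi (β k) (hβA k hk) hne' h
    · exact hKne i hi k hk hik h
    · have h2 := hTQ k hk _ (hTm k hk) _ (h ▸ hiK i hi) (hord _ (hβA k hk) _ hk (hβne k hk)) (ho i hi)
        (hcm _ (hβA k hk) _ hk _ hi)
      exact h3 (β k) (hAR (hβA k hk)) k (hAR hk) i (hAR hi) (hβne k hk) (Ne.symm hne') (Ne.symm hik) h2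
  -- `β (β k) = k`
  have hinvo : ∀ k ∈ A, β (β k) = k := by
    intro k hk
    by_contra hne'
    have hl := hβA k hk
    have hlk := hβne k hk
    have hll := hβA _ hl
    have hTcomp := hext k hk _ (hTc k hk)
    rcases hTall (β k) hl (T k) (hsub (β k) hl _ hTcomp (hpt k hk)) with h2 | h2 | h2
    · -- `T k = K (β (β k))`
      have h4 := hTQ k hk _ (hTm k hk) _ (h2 ▸ hiK _ hll) (hord _ hl _ hk hlk) (ho _ hll)
        (hcm _ hl _ hk _ hll)
      exact h3 (β k) (hAR hl) k (hAR hk) (β (β k)) (hAR hll) hlk (Ne.symm (hβne _ hl)) (Ne.symm hne') h4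
    · -- `T k = K (β k)`
      have h4 := hTQ k hk _ (hTm k hk) _ (h2 ▸ hiK _ hl) (hord _ hl _ hk hlk) (ho _ hl)
        (hcm _ hl _ hk _ hl)
      have h5 : k = 1 := by rwa [mul_eq_left] at h4
      exact ne_one_of_order (ho k hk) h5
    · -- `T k = T (β k)`
      have h4 := hTQ k hk _ (hTm k hk) _ (h2 ▸ hTm _ hl) (hord _ hl _ hk hlk) (hord _ hll _ hl (hβne _ hl))
        (by rw [← mul_assoc, hcm _ hl _ hk _ hll, mul_assoc, hcm _ hl _ hk _ hl, ← mul_assoc])
      have h5 : k = β (β k) := by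
        rw [← hcomm (β k) hl _ hll] at h4
        exact mul_left_cancel h4
      exact hne' h5.symm
  -- Solomon's configuration
  obtain ⟨k, hk⟩ := hAne
  have hl := hβA k hk
  have hlk := hβne k hk
  have hkk := hinvo k hk
  -- `T k = T (β k)`
  have hTT : T k = T (β k) := by
    have hTcomp := hext k hk _ (hTc k hk)
    rcases hTall (β k) hl (T k) (hsub (β k) hl _ hTcomp (hpt k hk)) with h2 | h2 | h2
    · exfalso
      rw [hkk] at h2
      have h4 := hTQ k hk _ (hTm k hk) _ (h2 ▸ hiK _ hk) (hord _ hl _ hk hlk) (ho _ hk)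
        (hcm _ hl _ hk _ hk)
      have h5 : β k = 1 := by rwa [mul_eq_right] at h4
      exact ne_one_of_order (ho _ hl) h5
    · exfalso
      have h4 := hTQ k hk _ (hTm k hk) _ (h2 ▸ hiK _ hl) (hord _ hl _ hk hlk) (ho _ hl)
        (hcm _ hl _ hk _ hl)
      have h5 : k = 1 := by rwa [mul_eq_left] at h4
      exact ne_one_of_order (ho k hk) h5
    · exact h2
  -- the sets
  set S : Set G := (((A.erase k).erase (β k) : Finset G) : Set G) with hSdef
  have hS1 : ((A.erase k : Finset G) : Set G) = insert (β k) S := by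
    rw [hSdef, ← Finset.coe_insert, Finset.insert_erase]
    rw [Finset.mem_erase]
    exact ⟨hlk, hl⟩
  have hS2 : ((A.erase (β k) : Finset G) : Set G) = insert k S := by
    rw [hSdef, Finset.erase_right_comm, ← Finset.coe_insert, Finset.insert_erase]
    rw [Finset.mem_erase]
    exact ⟨Ne.symm hlk, hk⟩
  have hS3 : (A : Set G) = insert (β k) (insert k S) := by
    rw [hins (β k) hl, hS2]
  have hP1 := hTP k hk
  have hP2 := hTP (β k) hl
  rw [hkk, ← hTT] at hP2
  refine hSol S (β k) k (D k) (D (β k)) (K (β k)) (K k) (T k) (hS3 ▸ hInv) hlk ?_ ?_ hP1 hP2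
  · rw [← hS1]; exact hD k hk
  · rw [← hS2]; exact hD (β k) hl

end Cfsg.Agent.UGT.U2.ThmX
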